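import Groth.Agent.Lib.TorPts21.Split
import Groth.Agent.Lib.MultAct19.Pair

/-!
# Tori and centralisers under extension of the base field
-/

set_option autoImplicit false
set_option linter.style.haveILetI false
set_option backward.isDefEq.respectTransparency.types false
universe u

open CategoryTheory Limits MonoidalCategory CartesianMonoidalCategory MonObj AlgebraicGeometry
open Groth.Agent.DiagGL Groth.Agent.AlgGrpBasic19 Groth.Agent.MultAct19

noncomputable section

namespace Groth.Agent.TorPts21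

section Comp

variable {S S' S'' : Scheme.{u}} (ψ : S' ⟶ S) (y : S'' ⟶ S') {X : Over S} [GrpObj X]

/-- Character coordinates on an iterated base change. -/
def charsUncomp {M : Type} [AddCommGroup M] (C : Chars M (Red.bc (y ≫ ψ) X)) :
    Chars M (Red.bc y (Red.bc ψ X)) where
  ch x := C.ch ((reassocPt ψ y X).symm x)
  nat t x a := by
    rw [show (reassocPt ψ y X).symm (t ≫ x) = t ≫ (reassocPt ψ y X).symm x from
      (reassocPt ψ y X).injective (by rw [reassocPt_comp, Equiv.apply_symm_apply, Equiv.apply_symm_apply]), C.nat]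
  mul x x' a := by
    rw [show (reassocPt ψ y X).symm (x * x') = (reassocPt ψ y X).symm x * (reassocPt ψ y X).symm x' from
      (reassocPt ψ y X).injective (by rw [reassocPt_mul, Equiv.apply_symm_apply, Equiv.apply_symm_apply,
        Equiv.apply_symm_apply]), C.mul]
  inj h := (reassocPt ψ y X).symm.injective (C.inj h)
  surj c := by
    obtain ⟨x, hx⟩ := C.surj c
    exact ⟨reassocPt ψ y X x, by rw [Equiv.symm_apply_apply]; exact hx⟩

end Comp

variable {k K : Type u} [Field k] [Field K] (φ : Spec (CommRingCat.of K) ⟶ Spec (CommRingCat.of k))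

/-- Tori stay tori under extension of the base field. -/
theorem isTorus_bc {T : Over (Spec (CommRingCat.of k))} [GrpObj T] (hT : Red.IsTorus T) :
    Red.IsTorus (Red.bc φ T) := by
  obtain ⟨S', f, hf, hs, -, hloc⟩ := hT
  haveI := hf
  haveI := hs
  let f' : Limits.pullback f φ ⟶ Spec (CommRingCat.of K) := pullback.snd f φ
  refine ⟨Limits.pullback f φ, f', inferInstance, inferInstance, fun V hV => ?_, fun p => ?_⟩
  · rcases Set.eq_empty_or_nonempty (V : Set (Spec (CommRingCat.of K))) with h | ⟨v, hv⟩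
    · exact ⟨⊥, by simp, by simp [h]⟩
    · obtain ⟨w, hw⟩ := f'.surjective v
      obtain ⟨_, ⟨W, hW, rfl⟩, hwW, -⟩ := (Limits.pullback f φ).isBasis_affineOpens.exists_subset_of_mem_open
        (Set.mem_univ w) isOpen_univ
      have huniv : (V : Set (Spec (CommRingCat.of K))) = Set.univ :=
        Set.eq_univ_of_forall fun z => by rwa [Subsingleton.elim z v]
      refine ⟨W, hW.isCompact, ?_⟩
      rw [huniv]
      exact Set.eq_univ_of_forall fun z => ⟨w, hwW, Subsingleton.elim _ _⟩
  · obtain ⟨U, hU, r, ⟨iso⟩⟩ := hloc ((pullback.fst f φ) p)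
    let U' : (Limits.pullback f φ).Opens := pullback.fst f φ ⁻¹ᵁ U
    let g : (U' : Scheme.{u}) ⟶ (U : Scheme.{u}) := (pullback.fst f φ) ∣_ U
    refine ⟨U', hU, r, ?_⟩
    have e : g ≫ U.ι ≫ f = (U'.ι ≫ f') ≫ φ := by
      show ((pullback.fst f φ) ∣_ U) ≫ U.ι ≫ f = _
      rw [morphismRestrict_ι_assoc, pullback.condition, Category.assoc]
    have C : Nonempty (Chars (Fin r → ℤ) (Red.bc ((U'.ι ≫ f') ≫ φ) T)) := by
      rw [← e]
      exact ⟨MultAct19.charsComp _ _ (Chars.baseChange _ _ ((charsDS (U : Scheme.{u}) (Fin r → ℤ)).transport iso))⟩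
    obtain ⟨C⟩ := C
    exact isSplitTorusWith_of_chars (charsUncomp φ (U'.ι ≫ f') C)

omit [Field k] [Field K] in
theorem fl_comp_map {S S' : Scheme.{u}} (ψ : S' ⟶ S) {X Y : Over S} (f : X ⟶ Y) {W : Over S'}
    (x : W ⟶ Red.bc ψ X) : fl ψ Y (x ≫ (Over.pullback ψ).map f) = fl ψ X x ≫ f :=
  (Over.mapPullbackAdj ψ).homEquiv_naturality_right_symm x f

set_option maxHeartbeats 400000 in
/-- Centralisers commute with base change. -/
theorem isCentralizerOf_bc {S S' : Scheme.{u}} (ψ : S' ⟶ S) {G T C : Over S} [GrpObj G] [GrpObj T] [GrpObj C]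
    {iT : T ⟶ G} {c : C ⟶ G} (hc : Red.IsCentralizerOf iT c) :
    Red.IsCentralizerOf ((Over.pullback ψ).map iT) ((Over.pullback ψ).map c) := by
  obtain ⟨hm, hmono, huniv⟩ := hc
  haveI := hm
  haveI := hmono
  refine ⟨inferInstance, inferInstance, fun X g => ?_⟩
  constructor
  · rintro ⟨z, rfl⟩ X' x h
    refine fl_injective ψ G ?_
    rw [fl_mul, fl_mul, fl_comp, fl_comp_map, fl_comp_map, ← Category.assoc]
    have := (huniv _ ((Over.map ψ).map x ≫ fl ψ C z ≫ c)).1 ⟨(Over.map ψ).map x ≫ fl ψ C z, Category.assoc _ _ _⟩ _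
      (𝟙 _) (fl ψ T h)
    rwa [Category.id_comp, ← Category.assoc ((Over.map ψ).map x)] at this
  · intro hg
    obtain ⟨z, hz⟩ := (huniv _ (fl ψ G g)).2 fun Y x h => by
      let X' : Over S' := Over.mk (x.left ≫ X.hom)
      let e : (Over.map ψ).obj X' ≅ Y := Over.isoMk (Iso.refl _) (by
        show 𝟙 _ ≫ Y.hom = (x.left ≫ X.hom) ≫ ψ
        rw [Category.id_comp, ← Over.w x, Category.assoc]
        rfl)
      let x' : X' ⟶ X := Over.homMk x.left rfl
      have hx : (Over.map ψ).map x' = e.hom ≫ x := Over.OverMorphism.ext (by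
        show x.left = 𝟙 _ ≫ x.left
        rw [Category.id_comp])
      obtain ⟨h', hh'⟩ := fl_surjective ψ T (e.hom ≫ h)
      have h1 := congrArg (fl ψ G) (hg X' x' h')
      rw [fl_mul, fl_mul, fl_comp, fl_comp_map, hh', hx] at h1
      rw [← cancel_epi e.hom, MonObj.comp_mul, MonObj.comp_mul]
      simpa only [Category.assoc] using h1
    obtain ⟨z', hz'⟩ := fl_surjective ψ C z
    exact ⟨z', fl_injective ψ G (by rw [fl_comp_map, hz', hz])⟩

end Groth.Agent.TorPts21
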