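import Groth.Agent.Lib.MTRigid29.TrivGlobal
import Groth.Agent.Lib.MTRigid29.Global
import Groth.Agent.Lib.MTRigid29.BaseChange
import Groth.Agent.Lib.MTSub29.Points
import Groth.Agent.Lib.MultType.Split
import Groth.Agent.Lib.GaTorus19.Basic

/-!
# Tori over an algebraically closed field are split
-/

set_option autoImplicit false
set_option linter.style.haveILetI false
set_option backward.isDefEq.respectTransparency.types false
set_option maxSynthPendingDepth 3

universe u

open CategoryTheory Limits MonoidalCategory CartesianMonoidalCategory MonObj AlgebraicGeometry Opposite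
open scoped TensorProduct
open Groth.Agent.DiagGL

noncomputable section

namespace Groth.Agent.TorPts21

/-- Character coordinates of the spectrum of a Hopf algebra isomorphic to a group algebra. -/
def charsOfBialg {R : Type u} [CommRing R] {M : Type} [AddCommGroup M] {A : Type u} [CommRing A] [HopfAlgebra R A]
    (E : A ≃ₐc[R] MonoidAlgebra R (Multiplicative M)) : Chars M (CoactBr.sp R A) where
  ch {T} x := (ev (T := T) x : _ →* _).comp
    ((E.symm : MonoidAlgebra R (Multiplicative M) →* A).comp (MonoidAlgebra.of R (Multiplicative M)))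
  nat {T T'} t x a := ev_comp t x _
  mul {T} x y a := by
    refine ev_mul_glike (T := T) x y ?_
    have h := CoalgHomClass.map_comp_comul_apply E.symm (MonoidAlgebra.of R (Multiplicative M) a)
    show Coalgebra.comul (R := R) (E.symm (MonoidAlgebra.of R (Multiplicative M) a)) = _
    rw [← h, MonoidAlgebra.of_apply, MonoidAlgebra.comul_single]
    simp
  inj {T x y} h := by
    letI := (alg T).toAlgebra
    refine ev_injective fun a => ?_
    let f : A →ₐ[R] Γ(T.left, ⊤) := ⟨ev x, ev_algebraMap _⟩
    let g : A →ₐ[R] Γ(T.left, ⊤) := ⟨ev y, ev_algebraMap _⟩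
    let S : MonoidAlgebra R (Multiplicative M) →ₐ[R] A := (E.toAlgEquiv.symm).toAlgHom
    have h1 : f.comp S = g.comp S :=
      (MonoidAlgebra.lift R Γ(T.left, ⊤) (Multiplicative M)).symm.injective (MonoidHom.ext h)
    obtain ⟨b, rfl⟩ := E.toAlgEquiv.symm.surjective a
    exact DFunLike.congr_fun h1 b
  surj {T} c := by
    letI := (alg T).toAlgebra
    let χ := (MonoidAlgebra.lift R Γ(T.left, ⊤) (Multiplicative M) c).comp E.toAlgEquiv.toAlgHom
    refine ⟨mk χ.toRingHom fun r => χ.commutes r, MonoidHom.ext fun a => ?_⟩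
    show ev (mk χ.toRingHom fun r => χ.commutes r) (E.symm (MonoidAlgebra.of R (Multiplicative M) a)) = _
    rw [ev_mk]
    show MonoidAlgebra.lift R Γ(T.left, ⊤) (Multiplicative M) c (E (E.symm (MonoidAlgebra.of R (Multiplicative M) a))) = _
    rw [BialgEquiv.apply_symm_apply]
    exact MonoidAlgebra.lift_of c a

variable {k : Type u} [Field k]

/-- The coordinate Hopf algebra of a torus over a field becomes a Laurent polynomial ring over an extension field. -/
theorem exists_model {T : Over (Spec (CommRingCat.of k))} [GrpObj T] (hT : Red.IsTorus T) :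
    ∃ (A : Type u) (_ : CommRing A) (_ : HopfAlgebra k A) (K : Type u) (_ : Field K) (_ : Algebra k K) (r : ℕ),
      Nonempty (K ⊗[k] A ≃ₐc[K] MonoidAlgebra K (Multiplicative (Fin r → ℤ))) ∧
      Nonempty (Grp.mk (CoactBr.sp k A) ≅ Grp.mk T) := by
  have hft : SGA3x.IsMultTypeFT T := by
    obtain ⟨S', f, h1, h2, h3, h4⟩ := hT
    refine ⟨S', f, h1, h2, h3, fun s => ?_⟩
    obtain ⟨U, hU, r, h⟩ := h4 s
    exact ⟨U, hU, Fin r → ℤ, inferInstance, AddGroup.fg_iff_addMonoid_fg.2 inferInstance, h⟩
  obtain ⟨A, _, _, -, -, ⟨e⟩⟩ := MTRigid29.exists_model_affine (MTRigid29.isMT_of_ft hft)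
  obtain ⟨S', f, -, hfs, -, hloc⟩ := hT
  obtain ⟨s', -⟩ := hfs.surj (IsLocalRing.closedPoint k)
  obtain ⟨U, hsU, r, ⟨iso⟩⟩ := hloc s'
  let p : (U : Scheme.{u}) := ⟨s', hsU⟩
  let K := (U : Scheme.{u}).residueField p
  let q : Spec (CommRingCat.of K) ⟶ Spec (CommRingCat.of k) := (U : Scheme.{u}).fromSpecResidueField p ≫ U.ι ≫ f
  letI : Algebra k K := (Spec.preimage q).hom.toAlgebra
  have hq : Spec.map (CommRingCat.ofHom (algebraMap k K)) = q := Spec.map_preimage q
  have C : Nonempty (Chars (Fin r → ℤ) (Red.bc (Spec.map (CommRingCat.ofHom (algebraMap k K))) T)) := by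
    rw [hq]
    exact ⟨MultAct19.charsComp _ _
      (Chars.baseChange _ _ ((charsDS (U : Scheme.{u}) (Fin r → ℤ)).transport iso))⟩
  obtain ⟨C⟩ := C
  exact ⟨A, inferInstance, inferInstance, K, inferInstance, inferInstance, r,
    MTRigid29.nonempty_bialgEquiv e C, ⟨e⟩⟩

/-- A torus over an algebraically closed field is split. -/
theorem exists_chars [IsAlgClosed k] {T : Over (Spec (CommRingCat.of k))} [GrpObj T] (hT : Red.IsTorus T) :
    ∃ r : ℕ, Nonempty (Chars (Fin r → ℤ) T) := by
  obtain ⟨A, _, _, K, _, _, r, ⟨E⟩, ⟨e⟩⟩ := exists_model hT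
  haveI hftA : Algebra.FiniteType k A := by
    haveI : Algebra.FiniteType K (K ⊗[k] A) :=
      Algebra.FiniteType.equiv (inferInstanceAs
        (Algebra.FiniteType K (MonoidAlgebra K (Multiplicative (Fin r → ℤ))))) E.toAlgEquiv.symm
    exact Algebra.FiniteType.of_finiteType_tensorProduct_of_faithfullyFlat K
  have hc : SGA3b.IsMultTypeConst k A := by
    haveI : Nontrivial K := inferInstance
    exact ⟨K, inferInstance, inferInstance, inferInstance, ULift.{u} (Multiplicative (Fin r → ℤ)), inferInstance,
      ⟨E.trans (MonoidAlgebra.domCongrBialgEquiv K K MulEquiv.ulift.symm)⟩⟩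
  obtain ⟨M, _, ⟨F⟩⟩ := MTSub29.isDiag_algClosed hftA (MultTypeLib.isMultType_of_const hc) k
  let G : A ≃ₐc[k] MonoidAlgebra k M := (Bialgebra.TensorProduct.lid k A).symm.trans F
  have hdom : IsDomain (MonoidAlgebra k M) := by
    haveI : IsDomain (K ⊗[k] A) := E.toAlgEquiv.toMulEquiv.isDomain (MonoidAlgebra K (Multiplicative (Fin r → ℤ)))
    have hinj : Function.Injective (Algebra.TensorProduct.includeRight : A →ₐ[k] K ⊗[k] A) :=
      Algebra.TensorProduct.includeRight_injective (algebraMap k K).injective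
    haveI : IsDomain A := hinj.isDomain Algebra.TensorProduct.includeRight.toRingHom
    exact G.toAlgEquiv.symm.toMulEquiv.isDomain A
  haveI : IsMulTorsionFree M := by
    refine IsMulTorsionFree.of_not_isOfFinOrder fun m hm hfin => hm ?_
    by_contra hne
    have hgeo : (MonoidAlgebra.of k M m - 1) * (∑ i ∈ Finset.range (orderOf m), MonoidAlgebra.of k M m ^ i) = 0 := by
      rw [mul_geom_sum, ← map_pow, pow_orderOf_eq_one, map_one, sub_self]
    rcases mul_eq_zero.1 hgeo with h | h
    · exact hne (MonoidAlgebra.of_injective (R := k) (by rw [map_one, sub_eq_zero.1 h]))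
    · have := congrArg (fun x : MonoidAlgebra k M => x.coeff 1) h
      simp only [MonoidAlgebra.of_apply, MonoidAlgebra.single_pow, one_pow, MonoidAlgebra.coeff_sum,
        Finsupp.finsetSum_apply, MonoidAlgebra.coeff_zero, Finsupp.coe_zero, Pi.zero_apply,
        MonoidAlgebra.coeff_single] at this
      rw [Finset.sum_eq_single 0] at this
      · simp at this
      · intro i hi hi0
        classical
        rw [Finsupp.single_apply, if_neg]
        exact pow_ne_one_of_lt_orderOf hi0 (Finset.mem_range.1 hi)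
      · intro h0
        exact absurd (Finset.mem_range.2 hfin.orderOf_pos) h0
  haveI : Monoid.FG M := MonoidAlgebra.finiteType_iff_fg.1 (Algebra.FiniteType.equiv hftA G.toAlgEquiv)
  haveI : Module.Finite ℤ (Additive M) := Module.Finite.iff_addGroup_fg.2
    (AddGroup.fg_iff_addMonoid_fg.2 (Monoid.fg_iff_add_fg.1 inferInstance))
  haveI : IsAddTorsionFree (Additive M) := inferInstance
  let ε : Multiplicative (Fin (Module.finrank ℤ (Additive M)) → ℤ) ≃* M :=
    (AddEquiv.toMultiplicative (Module.finBasis ℤ (Additive M)).equivFun.symm.toAddEquiv).trans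
      (MulEquiv.multiplicativeAdditive M)
  exact ⟨_, ⟨(charsOfBialg (G.trans (MonoidAlgebra.domCongrBialgEquiv k k ε.symm))).transport e.symm⟩⟩

theorem isSplitTorusWith_of_chars {M : Type} [AddCommGroup M] {S : Scheme.{u}} {T : Over S} [GrpObj T]
    (C : Chars M T) : Red.IsSplitTorusWith M T :=
  MTRigid29.nonempty_grpIso_of_chars C (charsDS S M)

/-- A group with character coordinates in a free group of finite rank is a torus. -/
theorem isTorus_of_chars {r : ℕ} {S : Scheme.{u}} {T : Over S} [GrpObj T] (C : Chars (Fin r → ℤ) T) :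
    Red.IsTorus T := by
  refine ⟨S, 𝟙 S, inferInstance, inferInstance, fun V hV => ⟨V, hV.isCompact, by simp⟩, fun s => ⟨⊤, trivial, r, ?_⟩⟩
  exact isSplitTorusWith_of_chars (C.baseChange _ _)

end Groth.Agent.TorPts21
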