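import Groth.Agent.Lib.TorPts21.BorelChart
import Groth.Agent.Lib.BorelFix21.Fix
import Groth.Agent.Lib.AffGrp19.Main
import Groth.Agent.Lib.MTRigid29.CentralizerNormalizer

/-!
# Quotients of connected affine groups are affine
-/

set_option autoImplicit false
set_option linter.style.haveILetI false
set_option backward.isDefEq.respectTransparency.types false
universe u

open CategoryTheory Limits MonoidalCategory CartesianMonoidalCategory MonObj AlgebraicGeometry

noncomputable section

namespace Groth.Agent.TorPts21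

open InvRing21
open scoped Matrix

attribute [local instance] InvRing21.gamAlg BorelFix21.ptsTop

variable {k : Type u} [Field k] [IsAlgClosed k]

set_option maxHeartbeats 800000 in
/-- Functions invariant under the points of a normal subgroup of a connected group separate its cosets. -/
theorem exists_invariant_ne {G : Over (Spec (CommRingCat.of k))} [GrpObj G] [IsAffine G.left] [Smooth G.hom]
    [ConnectedSpace G.left] (K : Subgroup (VecGrp.pt k k ⟶ G)) [K.Normal]
    (hK : IsClosed (K : Set (VecGrp.pt k k ⟶ G))) (g : VecGrp.pt k k ⟶ G) (hg : g ∉ K) :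
    ∃ F : Γ(G.left, ⊤), (∀ x, ∀ n ∈ K, val (x * n) F = val x F) ∧ val g F ≠ val (1 : VecGrp.pt k k ⟶ G) F := by
  classical
  obtain ⟨N, _, i, him, hic, his, -, hpts⟩ := exists_closed_subgroup_of_pts K hK
  haveI := him
  haveI := hic
  haveI := his
  obtain ⟨m, r, hr, c, χ, hχ, hsemi, hρ', hne, hsep⟩ := exists_lineRep i
  haveI := hr
  let l : (VecGrp.pt k k ⟶ N) → k := fun h => val h (Red.gmFn χ)
  have hρ : ∀ g x, vec c (g * x) = (mtx r g : Matrix (Fin m) (Fin m) k) *ᵥ vec c x := fun g x => funext fun α =>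
    hρ' g x α
  have hright : ∀ x (n : VecGrp.pt k k ⟶ N), vec c (x * (n ≫ i)) = l n • vec c x := fun x n => funext fun α =>
    hsemi α x n
  have hvne : ∀ x, vec c x ≠ 0 := fun x h => by
    obtain ⟨α, hα⟩ := hne x
    exact hα (congrFun h α)
  have hscal : ∀ (n : VecGrp.pt k k ⟶ N) (x : VecGrp.pt k k ⟶ G), vec c ((n ≫ i) * x) = l n • vec c x := by
    intro n x
    let M : Matrix (Fin m) (Fin m) k := (mtx r (n ≫ i) : Matrix (Fin m) (Fin m) k)
    have heig : ∀ z, ∃ a : k, M *ᵥ vec c z = a • vec c z := fun z => by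
      obtain ⟨n', hn'⟩ := (hpts (z⁻¹ * (n ≫ i) * z)).2
        (by simpa using Subgroup.Normal.conj_mem inferInstance _ ((hpts _).1 ⟨n, rfl⟩) z⁻¹)
      exact ⟨l n', by rw [← hρ, ← hright z n', hn']; congr 1; group⟩
    choose f hf using heig
    haveI := BorelFix21.preconnectedSpace_pts (G := G)
    have hfin : (Set.range f).Finite := by
      refine (Module.End.finite_hasEigenvalue (Matrix.toLin' M)).subset ?_
      rintro _ ⟨z, rfl⟩
      exact Module.End.hasEigenvalue_of_hasEigenvector
        ⟨Module.End.mem_eigenspace_iff.2 (by rw [Matrix.toLin'_apply]; exact hf z), hvne z⟩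
    have hcl : ∀ a, IsClosed (f ⁻¹' {a}) := fun a => by
      have : f ⁻¹' {a} = ⋂ α, {z : VecGrp.pt k k ⟶ G |
          val z (∑ β, (M α β - if α = β then a else 0) • c β) = 0} := by
        ext z
        simp only [Set.mem_preimage, Set.mem_singleton_iff, Set.mem_iInter, Set.mem_setOf_eq, map_sum, map_smul,
          smul_eq_mul, sub_mul, ite_mul, zero_mul, Finset.sum_sub_distrib, Finset.sum_ite_eq, Finset.mem_univ,
          if_true]
        constructor
        · rintro rfl α
          exact sub_eq_zero.2 (congrFun (hf z) α)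
        · intro h
          obtain ⟨α, hα⟩ := hne z
          refine mul_right_cancel₀ hα ?_
          exact (congrFun (hf z) α).symm.trans (sub_eq_zero.1 (h α))
      rw [this]
      exact isClosed_iInter fun α => BorelFix21.isClosed_val_eq _ 0
    have h1 : f 1 = l n := by
      obtain ⟨α, hα⟩ := hne 1
      refine mul_right_cancel₀ hα ?_
      have := congrFun (hf 1) α
      rw [← hρ, _root_.mul_one (n ≫ i), show n ≫ i = 1 * (n ≫ i) from (_root_.one_mul _).symm, hright] at this
      exact this.symm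
    rw [hρ]
    exact (hf x).trans (by rw [BorelFix21.eq_of_finite_range f hfin hcl x 1, h1])
  by_contra! hall
  refine hg ?_
  let F : Fin m → Fin m → Γ(G.left, ⊤) := fun α β => c α * ((𝟙 G)⁻¹ : G ⟶ G).left.appTop (c β)
  have hF : ∀ (x : VecGrp.pt k k ⟶ G) α β, val x (F α β) = val x (c α) * val x⁻¹ (c β) := fun x α β => by
    show val x (c α * _) = _
    rw [map_mul, appTop_val, GrpObj.comp_inv, Category.comp_id]
  have hFK : ∀ α β x, ∀ n ∈ K, val (x * n) (F α β) = val x (F α β) := by
    intro α β x n hn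
    obtain ⟨y, rfl⟩ := (hpts n).2 hn
    have e : val x⁻¹ (c β) = l y * val (x * (y ≫ i))⁻¹ (c β) := by
      have := congrFun (hscal y (x * (y ≫ i))⁻¹) β
      rwa [mul_inv_rev, mul_inv_cancel_left, ← mul_inv_rev] at this
    rw [hF, hF, hsemi, e]
    ring
  obtain ⟨β, hβ⟩ := hne g⁻¹
  obtain ⟨y, hy⟩ := hsep g fun a b => by
    have ha := hall (F a β) (hFK a β)
    have hb := hall (F b β) (hFK b β)
    rw [hF, hF, inv_one] at ha hb
    refine mul_right_cancel₀ hβ ?_
    linear_combination val (1 : VecGrp.pt k k ⟶ G) (c b) * ha - val (1 : VecGrp.pt k k ⟶ G) (c a) * hb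
  exact hy ▸ (hpts _).1 ⟨y, rfl⟩

variable {G H : Over (Spec (CommRingCat.of k))} [GrpObj G] [GrpObj H] [IsAffine G.left] [Smooth G.hom]
  [ConnectedSpace G.left]

set_option maxHeartbeats 800000 in
/-- The image of a connected affine group under a flat surjective homomorphism is affine. -/
theorem isAffine_of_surjective_hom [LocallyOfFiniteType H.hom] [QuasiCompact H.hom] (π : G ⟶ H) [IsMonHom π]
    [Flat π.left] [Surjective π.left] : IsAffine H.left := by
  haveI : IsSeparated H.hom := AbRigid.isSeparated_of_grpObj H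
  -- the kernel
  let Z : Over (Spec (CommRingCat.of k)) := Over.mk (pullback.fst π.left η[H].left ≫ G.hom)
  let j : Z ⟶ G := Over.homMk (pullback.fst π.left η[H].left) rfl
  haveI : IsClosedImmersion η[H].left := isClosedImmersion_of_comp_eq_id H.hom η[H].left (Over.w η[H])
  haveI : IsClosedImmersion j.left := inferInstanceAs (IsClosedImmersion (pullback.fst π.left η[H].left))
  haveI : Mono j := Over.mono_of_mono_left j
  have hker : ∀ (X : Over (Spec (CommRingCat.of k))) (g : X ⟶ G), (∃ z : X ⟶ Z, z ≫ j = g) ↔ g ≫ π = 1 := by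
    intro X g
    constructor
    · rintro ⟨z, rfl⟩
      refine Over.OverMorphism.ext ?_
      show (z.left ≫ pullback.fst π.left η[H].left) ≫ π.left = (toUnit X).left ≫ η[H].left
      rw [Category.assoc, pullback.condition, ← Category.assoc]
      congr 1
      have h := Over.w z
      rw [show Z.hom = pullback.fst π.left η[H].left ≫ G.hom from rfl, ← Over.w π, ← Category.assoc _ π.left,
        pullback.condition, Category.assoc, Over.w η[H]] at h
      exact (Category.comp_id _).symm.trans (by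
        rw [Category.assoc]
        exact h.trans (Category.comp_id _).symm)
    · intro hg
      have h1 : g.left ≫ π.left = (toUnit X).left ≫ η[H].left := congrArg CommaMorphism.left hg
      refine ⟨Over.homMk (pullback.lift g.left (toUnit X).left h1) ?_, Over.OverMorphism.ext (pullback.lift_fst _ _ _)⟩
      show pullback.lift _ _ _ ≫ pullback.fst π.left η[H].left ≫ G.hom = _
      rw [pullback.lift_fst_assoc, Over.w g]
  obtain ⟨hZ, hj⟩ := MTRigid29.exists_grpObj_of_subgroup j
    (fun X a b => (hker X _).2 (by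
      rw [MonObj.mul_comp, (hker X _).1 ⟨a, rfl⟩, (hker X _).1 ⟨b, rfl⟩, _root_.mul_one]))
    ((hker _ _).2 (MonObj.one_comp π))
    (fun X a => (hker X _).2 (by rw [GrpObj.inv_comp, (hker X _).1 ⟨a, rfl⟩, inv_one]))
  letI := hZ
  haveI := hj
  haveI : IsAffine Z.left := isAffine_of_isAffineHom j.left
  haveI : LocallyOfFiniteType Z.hom := by rw [← Over.w j]; infer_instance
  -- the quotient structure
  let a : AlgGrp.Action G H := (OrbitTop19.mulAction H).restrict π
  let o : 𝟙_ (Over (Spec (CommRingCat.of k))) ⟶ H := 1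
  have horb : a.orbitMap o = π := by
    show lift (𝟙 G) (toUnit G ≫ o) ≫ _ = π
    rw [AlgGrp.Action.lift_restrict_act, Category.id_comp, MonObj.comp_one]
    show lift π 1 ≫ μ[H] = π
    rw [← Hom.mul_def, _root_.mul_one]
  have hshear : (G ◁ j) ≫ μ[G] = fst G Z * (snd G Z ≫ j) := by
    rw [Hom.mul_def]; congr 1
  have hw : ∀ {X : Over (Spec (CommRingCat.of k))} (x : X ⟶ G ⊗ Z),
      x ≫ ((G ◁ j) ≫ μ[G]) = (x ≫ fst G Z) * ((x ≫ snd G Z) ≫ j) := fun {X} x => by
    rw [hshear, MonObj.comp_mul, Category.assoc]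
  have hX : AGF.IsQuotient j H a o := by
    refine ⟨inferInstance, horb.symm ▸ ‹Flat π.left›, horb.symm ▸ ‹Surjective π.left›, ?_⟩
    rw [horb]
    have comm : fst G Z ≫ π = ((G ◁ j) ≫ μ[G]) ≫ π := by
      rw [hshear, MonObj.mul_comp, (hker _ (snd G Z ≫ j)).1 ⟨snd G Z, rfl⟩, _root_.mul_one]
    refine IsPullback.of_isLimit' ⟨comm⟩ (PullbackCone.IsLimit.mk comm
      (fun s => lift s.fst ((hker _ (s.fst⁻¹ * s.snd)).2 (by
        rw [MonObj.mul_comp, GrpObj.inv_comp, s.condition, inv_mul_cancel])).choose)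
      (fun s => lift_fst _ _) (fun s => ?_) fun s m h1 h2 => ?_)
    · rw [hw, lift_fst, lift_snd, Exists.choose_spec (p := fun z => z ≫ j = _), mul_inv_cancel_left]
    · refine CartesianMonoidalCategory.hom_ext _ _ (h1.trans (lift_fst _ _).symm) ?_
      rw [lift_snd, ← cancel_mono j, Exists.choose_spec (p := fun z => z ≫ j = _), ← h2, hw, h1, inv_mul_cancel_left]
  -- separation
  let πh : (VecGrp.pt k k ⟶ G) →* (VecGrp.pt k k ⟶ H) := MonoidHom.mk' (· ≫ π) fun x y => MonObj.mul_comp x y π
  have hKcl : IsClosed (πh.ker : Set (VecGrp.pt k k ⟶ G)) := by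
    have : (πh.ker : Set (VecGrp.pt k k ⟶ G)) =
        (fun x => x ≫ π) ⁻¹' (InvRing21.img ⁻¹' {img (1 : VecGrp.pt k k ⟶ H)}) :=
      Set.ext fun x => ⟨fun h => congrArg img h, fun h => pt_ext h⟩
    rw [this]
    exact ((isClosed_singleton_img _).preimage continuous_induced_dom).preimage (BorelFix21.continuous_comp π)
  haveI : QuasiSeparated H.hom := inferInstance
  refine AffGrp19.isAffine_of_injective_points H fun h h' hh => ?_
  obtain ⟨x, hx⟩ := BorelFix21.exists_pt_lift π (toUnit (VecGrp.pt k k) ≫ h)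
  obtain ⟨x', hx'⟩ := BorelFix21.exists_pt_lift π (toUnit (VecGrp.pt k k) ≫ h')
  suffices hmem : x'⁻¹ * x ∈ πh.ker by
    have h1 : x ≫ π = x' ≫ π := by
      have := MonoidHom.mem_ker.1 hmem
      rw [map_mul, map_inv, inv_mul_eq_one] at this
      exact this.symm
    rw [hx, hx'] at h1
    have e : InvRing21.toPt (𝟙_ (Over (Spec (CommRingCat.of k)))) ≫ toUnit (VecGrp.pt k k) = 𝟙 _ := toUnit_unique _ _
    calc h = (InvRing21.toPt (𝟙_ (Over (Spec (CommRingCat.of k)))) ≫ toUnit (VecGrp.pt k k)) ≫ h := by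
          rw [e, Category.id_comp]
      _ = h' := by rw [Category.assoc, h1, ← Category.assoc, e, Category.id_comp]
  by_contra hmem
  obtain ⟨F, hFK, hFne⟩ := exists_invariant_ne πh.ker hKcl _ hmem
  -- translate so that the two points are compared, one value being zero
  let F₀ : Γ(G.left, ⊤) := ((toUnit G ≫ toPt _ ≫ x'⁻¹) * 𝟙 G).left.appTop F
  let F' : Γ(G.left, ⊤) := F₀ - algebraMap k _ (val (1 : VecGrp.pt k k ⟶ G) F)
  have hF' : ∀ y : VecGrp.pt k k ⟶ G, val y F' = val (x'⁻¹ * y) F - val (1 : VecGrp.pt k k ⟶ G) F := fun y => by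
    show val y (F₀ - _) = _
    rw [map_sub, appTop_val, MonObj.comp_mul, Category.comp_id, ← Category.assoc, comp_toUnit, ← Category.assoc,
      InvRing21.comp_toPt, toPt_pt, Category.id_comp, AlgHom.commutes, Algebra.algebraMap_self, RingHom.id_apply]
  obtain ⟨q, hq, hinv⟩ := BorelFix21.exists_pow_isRTransInv j F' fun y n => by
    rw [hF', hF', ← _root_.mul_assoc]
    congr 1
    exact hFK _ _ ((hker _ _).1 ⟨n, rfl⟩)
  obtain ⟨Φ, hΦ⟩ := (InvRing21.IsQuotient.appTop_bijOn hX).2 _ hinv
  rw [horb] at hΦ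
  have hΦv : ∀ y : VecGrp.pt k k ⟶ G, val (y ≫ π) Φ = val y F' ^ q := fun y => by rw [← appTop_val, hΦ, map_pow]
  haveI := (AffGrp19.good_toAff H).appTop_iso
  obtain ⟨Φ', rfl⟩ := (ConcreteCategory.bijective_of_isIso (AffGrp19.toAff H).left.appTop).2 Φ
  have hxx : val (x ≫ π) ((AffGrp19.toAff H).left.appTop Φ') = val (x' ≫ π) ((AffGrp19.toAff H).left.appTop Φ') := by
    rw [hx, hx', appTop_val, appTop_val, Category.assoc, Category.assoc, hh]
  rw [hΦv, hΦv, hF', hF', inv_mul_cancel, sub_self, zero_pow (by omega)] at hxx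
  exact hFne (sub_eq_zero.1 (eq_zero_of_pow_eq_zero hxx))

end Groth.Agent.TorPts21
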