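import Groth.Agent.Lib.TorPts21.Nilpotent

/-!
# Cartan subgroups lie in the Borel subgroups containing the torus
-/

set_option autoImplicit false
set_option linter.style.haveILetI false
set_option backward.isDefEq.respectTransparency.types false
universe u

open CategoryTheory Limits MonoidalCategory CartesianMonoidalCategory MonObj AlgebraicGeometry

noncomputable section

namespace Groth.Agent.TorPts21

variable {k : Type u} [Field k] {G T B C : Over (Spec (CommRingCat.of k))} [GrpObj G] [GrpObj T] [GrpObj B]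
  [GrpObj C] [IsAffine G.left] [Smooth G.hom] [ConnectedSpace G.left]

set_option maxHeartbeats 800000 in
/-- Over an algebraically closed field the centraliser of a maximal torus lies in each Borel subgroup containing it. -/
theorem exists_lift_cartan_closed [IsAlgClosed k] {iT : T ⟶ G} (hT : AGF.IsMaxTorus iT) {c : C ⟶ G}
    (hc : Red.IsCentralizerOf iT c) {iB : B ⟶ G} (hB : Red.IsBorelOver k iB) (t : T ⟶ B) (ht : t ≫ iB = iT) :
    ∃ f : C ⟶ B, f ≫ iB = c := by
  haveI := hT.1
  haveI := hT.2.1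
  haveI := hB.1
  obtain ⟨hcm, hci, hcs, hca⟩ := centralizer_props hT.2.2.1 hc
  haveI := hcm
  haveI := hci
  haveI := hcs
  haveI := hca
  haveI hconn := connectedSpace_centralizer_closed hT.2.2.1 hc
  haveI : Mono c := Over.mono_of_mono_left c
  obtain ⟨d, ⟨Ch⟩⟩ := exists_chars hT.2.2.1
  obtain ⟨tC, htC, htm⟩ := exists_lift_centralizer hc (fun x y => commute_of_chars Ch x y)
  haveI := htm
  haveI : Mono (tC ≫ c) := htC.symm ▸ hT.2.1
  haveI : Mono tC := mono_of_mono tC c
  have hsol : Red.IsSolvableGrp C := isSolvableGrp_of_central_maxTorus (iT := tC)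
    ⟨htm, inferInstance, hT.2.2.1, fun T' _ j _ _ f hT' hf =>
      hT.2.2.2 T' (j ≫ c) f hT' (by rw [← Category.assoc, hf, htC])⟩
    fun x y => (cancel_mono c).1 (by
      rw [MonObj.mul_comp, MonObj.mul_comp, Category.assoc y, htC]
      exact centralizer_comm hc x y)
  obtain ⟨B₀, _, iB₀, f, hB₀, hf⟩ := BorelFix21.exists_le_borel c hsol
  haveI := hB₀.1
  obtain ⟨g, φ, f', hφ, hf'⟩ := exists_conj_pair iB₀ iB hB₀ hB hT hT (tC ≫ f)
    (by rw [Category.assoc, hf, htC]) t ht
  obtain ⟨z, hz⟩ := (hc.2.2 C (AGF.conjBy g⁻¹ c)).2 fun X x h => by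
    rw [comp_conjBy, GrpObj.comp_inv, inv_inv]
    have h1 : (toUnit X ≫ g) * (h ≫ iT) * (toUnit X ≫ g)⁻¹ = (h ≫ f'.hom) ≫ iT := by
      rw [Category.assoc, hf', comp_conjBy]
    have h2 : Commute (x ≫ c) ((toUnit X ≫ g) * (h ≫ iT) * (toUnit X ≫ g)⁻¹) := by
      rw [h1]; exact centralizer_comm hc x (h ≫ f'.hom)
    have h3 := (h2.map (MulAut.conj (toUnit X ≫ g)⁻¹).toMonoidHom).eq
    simp only [MulEquiv.coe_toMonoidHom, MulAut.conj_apply, inv_inv] at h3
    convert h3 using 2 <;> group
  refine ⟨(z ≫ f) ≫ φ.hom, ?_⟩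
  rw [Category.assoc, hφ, comp_conjBy, Category.assoc, hf, hz, AGF.conjBy, GrpObj.comp_inv]
  group

set_option maxHeartbeats 800000 in
/-- The centraliser of a maximal torus lies in each Borel subgroup containing it. -/
theorem exists_lift_cartan {iT : T ⟶ G} (hT : Red.IsMaximalTorus iT) {c : C ⟶ G}
    (hc : Red.IsCentralizerOf iT c) {iB : B ⟶ G} (hB : Red.IsBorel iB) (t : T ⟶ B) (ht : t ≫ iB = iT) :
    ∃ f : C ⟶ B, f ≫ iB = c := by
  obtain ⟨hm, hmono, htor, hmax⟩ := hT
  haveI := hm
  haveI := hmono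
  obtain ⟨-, hBc, -, hgeo⟩ := hB
  haveI := hBc
  obtain ⟨hcm, hci, hcs, hca⟩ := centralizer_props htor hc
  let s : Spec (CommRingCat.of k) := IsLocalRing.closedPoint k
  let φ := Red.geomPt s
  haveI : IsAffine (Red.bc φ G).left := BorelFix21.isAffine_bc φ G
  haveI : Smooth (Red.bc φ G).hom := BorelFix21.smooth_bc φ G
  haveI : ConnectedSpace (Red.bc φ G).left := BorelFix21.connectedSpace_bc φ G
  have hTbar : AGF.IsMaxTorus ((Over.pullback φ).map iT) :=
    ⟨inferInstance, inferInstance, isTorus_bc φ htor, fun T' _ j _ _ f hT' hf => hmax s T' j f hT' hf⟩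
  obtain ⟨f, hf⟩ := exists_lift_cartan_closed hTbar (isCentralizerOf_bc φ hc) (hgeo s) ((Over.pullback φ).map t)
    (by rw [← Functor.map_comp, ht])
  haveI : Surjective φ := ⟨fun z => ⟨IsLocalRing.closedPoint _, Subsingleton.elim _ _⟩⟩
  haveI : Flat φ := inferInstance
  let π : (Red.bc φ C).left ⟶ C.left := pullback.fst C.hom φ
  haveI : Flat π := inferInstanceAs (Flat (pullback.fst C.hom φ))
  haveI : Surjective π := inferInstanceAs (Surjective (pullback.fst C.hom φ))
  haveI : QuasiCompact π := inferInstanceAs (QuasiCompact (pullback.fst C.hom φ))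
  haveI : IsSchemeTheoreticallyDominant π := inferInstance
  have he : π ≫ c.left = f.left ≫ pullback.fst B.hom φ ≫ iB.left := by
    have h1 := congrArg (fun m : Red.bc φ C ⟶ Red.bc φ G => m.left ≫ pullback.fst G.hom φ) hf
    have h2 : ((Over.pullback φ).map c).left ≫ pullback.fst G.hom φ = π ≫ c.left := pullback.lift_fst _ _ _
    have h3 : ((Over.pullback φ).map iB).left ≫ pullback.fst G.hom φ = pullback.fst B.hom φ ≫ iB.left :=
      pullback.lift_fst _ _ _
    rw [← h2, ← h3]
    exact h1.symm.trans (by rw [Over.comp_left, Category.assoc])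
  have hker : iB.left.ker ≤ c.left.ker := by
    calc iB.left.ker ≤ ((f.left ≫ pullback.fst B.hom φ) ≫ iB.left).ker := Scheme.Hom.le_ker_comp _ _
      _ = (π ≫ c.left).ker := by rw [he, Category.assoc]
      _ = c.left.ker := by rw [Scheme.Hom.ker_comp, π.ker_eq_bot, Scheme.IdealSheafData.map_bot]
  exact ⟨Over.homMk (IsClosedImmersion.lift iB.left c.left hker)
    (by rw [← Over.w iB, IsClosedImmersion.lift_fac_assoc, Over.w]),
    Over.OverMorphism.ext (IsClosedImmersion.lift_fac _ _ _)⟩

end Groth.Agent.TorPts21
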