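import Groth.Agent.Lib.TorPts21.ProperConst
import Groth.Agent.Lib.TorPts21.CartanBorel
import Groth.Agent.S3905

/-!
# The centre and Borel subgroups
-/

set_option autoImplicit false
set_option linter.style.haveILetI false
set_option backward.isDefEq.respectTransparency.types false
universe u

open CategoryTheory Limits MonoidalCategory CartesianMonoidalCategory MonObj AlgebraicGeometry

noncomputable section

namespace Groth.Agent.TorPts21

variable {k : Type u} [Field k] {G B : Over (Spec (CommRingCat.of k))} [GrpObj G] [GrpObj B] [IsAffine G.left]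
  [Smooth G.hom] [ConnectedSpace G.left]

/-- Morphisms agreeing on the affine pieces of a scheme agree. -/
theorem hom_ext_affine {X Z : Over (Spec (CommRingCat.of k))} (f g : X ⟶ Z)
    (h : ∀ (U : Over (Spec (CommRingCat.of k))) [IsAffine U.left] (j : U ⟶ X), j ≫ f = j ≫ g) : f = g := by
  refine Over.OverMorphism.ext (X.left.affineCover.hom_ext _ _ fun i => ?_)
  let U : Over (Spec (CommRingCat.of k)) := Over.mk (X.left.affineCover.f i ≫ X.hom)
  haveI : IsAffine U.left := inferInstanceAs (IsAffine (X.left.affineCover.X i))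
  let j : U ⟶ X := Over.homMk (X.left.affineCover.f i) rfl
  exact congrArg CommaMorphism.left (h U j)

set_option maxHeartbeats 800000 in
/-- A point commuting with a Borel subgroup is central. -/
theorem commute_of_commute_borel {iB : B ⟶ G} (hB : Red.IsBorel iB) {X : Over (Spec (CommRingCat.of k))} (g : X ⟶ G)
    (hg : ∀ (W : Over (Spec (CommRingCat.of k))) (x : W ⟶ X) (b : W ⟶ B), (x ≫ g) * (b ≫ iB) = (b ≫ iB) * (x ≫ g))
    (W : Over (Spec (CommRingCat.of k))) (x : W ⟶ X) (h : W ⟶ G) : (x ≫ g) * h = h * (x ≫ g) := by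
  refine hom_ext_affine _ _ fun U _ j => ?_
  rw [MonObj.comp_mul, MonObj.comp_mul, ← Category.assoc]
  set g' := (j ≫ x) ≫ g with hg'
  have hinv : ∀ {V : Over (Spec (CommRingCat.of k))} (v : V ⟶ G) (b : V ⟶ B) (y : V ⟶ U),
      lift (v * (b ≫ iB)) y ≫ (fst G U * (snd G U ≫ g') * (fst G U)⁻¹) =
        lift v y ≫ (fst G U * (snd G U ≫ g') * (fst G U)⁻¹) := fun {V} v b y => by
    simp only [MonObj.comp_mul, GrpObj.comp_inv, lift_fst, lift_snd_assoc]
    have h1 : (y ≫ g') * (b ≫ iB) = (b ≫ iB) * (y ≫ g') := by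
      rw [hg', ← Category.assoc]
      exact hg V (y ≫ j ≫ x) b
    calc v * (b ≫ iB) * (y ≫ g') * (v * (b ≫ iB))⁻¹ = v * ((b ≫ iB) * (y ≫ g')) * (b ≫ iB)⁻¹ * v⁻¹ := by group
      _ = _ := by rw [← h1]; group
  have key := family_const hB _ hinv (j ≫ h) (𝟙 U)
  simp only [MonObj.comp_mul, GrpObj.comp_inv, lift_fst, lift_snd_assoc, Category.id_comp, inv_one,
    _root_.one_mul, _root_.mul_one] at key
  exact (mul_inv_eq_iff_eq_mul.1 key).symm

/-- Lifting to a closed subscheme may be checked after a field extension. -/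
theorem exists_lift_of_bc {K : Type u} [Field K] (φ : Spec (CommRingCat.of K) ⟶ Spec (CommRingCat.of k))
    {X Y Z : Over (Spec (CommRingCat.of k))} (i : Y ⟶ Z) [IsClosedImmersion i.left] (g : X ⟶ Z)
    (f : Red.bc φ X ⟶ Red.bc φ Y) (hf : f ≫ (Over.pullback φ).map i = (Over.pullback φ).map g) :
    ∃ f₀ : X ⟶ Y, f₀ ≫ i = g := by
  haveI : Surjective φ := ⟨fun z => ⟨IsLocalRing.closedPoint _, Subsingleton.elim _ _⟩⟩
  haveI : Flat φ := inferInstance
  haveI : IsAffineHom φ := isAffineHom_of_isAffine _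
  let π : (Red.bc φ X).left ⟶ X.left := pullback.fst X.hom φ
  haveI : Flat π := inferInstanceAs (Flat (pullback.fst X.hom φ))
  haveI : Surjective π := inferInstanceAs (Surjective (pullback.fst X.hom φ))
  haveI : QuasiCompact π := inferInstanceAs (QuasiCompact (pullback.fst X.hom φ))
  haveI : IsSchemeTheoreticallyDominant π := inferInstance
  have he : π ≫ g.left = (f.left ≫ pullback.fst Y.hom φ) ≫ i.left := by
    have h1 := congrArg (fun m : Red.bc φ X ⟶ Red.bc φ Z => m.left ≫ pullback.fst Z.hom φ) hf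
    have h2 : ((Over.pullback φ).map g).left ≫ pullback.fst Z.hom φ = π ≫ g.left := pullback.lift_fst _ _ _
    have h3 : ((Over.pullback φ).map i).left ≫ pullback.fst Z.hom φ = pullback.fst Y.hom φ ≫ i.left :=
      pullback.lift_fst _ _ _
    rw [← h2, Category.assoc, ← h3]
    exact h1.symm.trans (by rw [Over.comp_left, Category.assoc])
  have hker : i.left.ker ≤ g.left.ker := by
    calc i.left.ker ≤ ((f.left ≫ pullback.fst Y.hom φ) ≫ i.left).ker := Scheme.Hom.le_ker_comp _ _
      _ = (π ≫ g.left).ker := by rw [he]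
      _ = g.left.ker := by rw [Scheme.Hom.ker_comp, π.ker_eq_bot, Scheme.IdealSheafData.map_bot]
  exact ⟨Over.homMk (IsClosedImmersion.lift i.left g.left hker)
    (by rw [← Over.w i, IsClosedImmersion.lift_fac_assoc, Over.w]),
    Over.OverMorphism.ext (IsClosedImmersion.lift_fac _ _ _)⟩

set_option maxHeartbeats 800000 in
/-- Over an algebraically closed field a Borel subgroup contains a maximal torus of the group. -/
theorem exists_maxTorus_le [IsAlgClosed k] {iB : B ⟶ G} (hB : Red.IsBorelOver k iB) :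
    ∃ (T : Over (Spec (CommRingCat.of k))) (_ : GrpObj T) (iT : T ⟶ G) (t : T ⟶ B),
      AGF.IsMaxTorus iT ∧ t ≫ iB = iT := by
  obtain ⟨T, _, iT, hT⟩ := exists_maxTorus G
  haveI := hT.1
  haveI := hT.2.1
  obtain ⟨B', _, iB', t, hB', ht⟩ := exists_borel_containing iT hT.2.2.1
  obtain ⟨g, φ, hφ⟩ := BorelFix21.exists_conjBy iB' iB hB' hB
  exact ⟨T, inferInstance, AGF.conjBy g iT, t ≫ φ.hom, isMaxTorus_conjBy hT g, by
    rw [Category.assoc, hφ, comp_conjBy, ht]⟩

set_option maxHeartbeats 800000 in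
/-- Central points lie in every Borel subgroup. -/
theorem exists_lift_of_central {iB : B ⟶ G} (hB : Red.IsBorel iB) {X : Over (Spec (CommRingCat.of k))} (g : X ⟶ G)
    (hg : ∀ (W : Over (Spec (CommRingCat.of k))) (x : W ⟶ X) (h : W ⟶ G), (x ≫ g) * h = h * (x ≫ g)) :
    ∃ f : X ⟶ B, f ≫ iB = g := by
  obtain ⟨hm, hcl, -, hgeo⟩ := hB
  haveI := hm
  haveI := hcl
  let s₀ : Spec (CommRingCat.of k) := IsLocalRing.closedPoint k
  let φ := Red.geomPt s₀
  haveI : IsAffine (Red.bc φ G).left := BorelFix21.isAffine_bc φ G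
  haveI : Smooth (Red.bc φ G).hom := BorelFix21.smooth_bc φ G
  haveI : ConnectedSpace (Red.bc φ G).left := BorelFix21.connectedSpace_bc φ G
  obtain ⟨T, _, iT, t, hT, ht⟩ := exists_maxTorus_le (hgeo s₀)
  haveI := hT.1
  obtain ⟨C, _, c, hC, -, -⟩ := MTRigid29.exists_centralizer
    (MTRigid29.isMT_of_ft (isMultTypeFT_of_isTorus hT.2.2.1)) inferInstance inferInstance iT
  obtain ⟨fC, hfC⟩ := exists_lift_cartan_closed hT hC (hgeo s₀) t ht
  obtain ⟨z, hz⟩ := (hC.2.2 _ ((Over.pullback φ).map g)).2 fun X' x h => by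
    refine DiagGL.fl_injective φ G ?_
    rw [DiagGL.fl_mul, DiagGL.fl_mul]
    have e : DiagGL.fl φ G (x ≫ (Over.pullback φ).map g) = DiagGL.fl φ X x ≫ g :=
      (Over.mapPullbackAdj φ).homEquiv_naturality_right_symm x g
    rw [e]
    exact hg _ (DiagGL.fl φ X x) _
  exact exists_lift_of_bc φ iB g (z ≫ fC) (by rw [Category.assoc, hfC, hz])

/-- Commuting with a Borel subgroup is the same as being central. -/
theorem isCentralizerOf_borel_iff {C : Over (Spec (CommRingCat.of k))} [GrpObj C] {iB : B ⟶ G}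
    (hB : Red.IsBorel iB) (c : C ⟶ G) : Red.IsCentralizerOf iB c ↔ Red.IsCentre c := by
  have key : ∀ (X : Over (Spec (CommRingCat.of k))) (g : X ⟶ G),
      (∀ (X' : Over (Spec (CommRingCat.of k))) (x : X' ⟶ X) (h : X' ⟶ B),
        (x ≫ g) * (h ≫ iB) = (h ≫ iB) * (x ≫ g)) ↔
      ∀ (X' : Over (Spec (CommRingCat.of k))) (x : X' ⟶ X) (h : X' ⟶ G),
        (x ≫ g) * (h ≫ 𝟙 G) = (h ≫ 𝟙 G) * (x ≫ g) := fun X g => by
    simp only [Category.comp_id]
    exact ⟨fun h => commute_of_commute_borel hB g h, fun h X' x b => h X' x (b ≫ iB)⟩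
  simp only [Red.IsCentre, Red.IsCentralizerOf, key]

/-- The centre of a Borel subgroup is the centre of the group. -/
theorem isCentre_borel_comp {Z : Over (Spec (CommRingCat.of k))} [GrpObj Z] {iB : B ⟶ G} (hB : Red.IsBorel iB)
    (z : Z ⟶ B) (hz : Red.IsCentre z) : Red.IsCentre (z ≫ iB) := by
  obtain ⟨hzm, hzmono, hzu⟩ := hz
  haveI := hzm
  haveI := hzmono
  haveI := hB.1
  haveI := hB.2.1
  haveI : Mono iB := Over.mono_of_mono_left iB
  refine ⟨inferInstance, inferInstance, fun X g => ⟨?_, fun hg => ?_⟩⟩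
  · rintro ⟨w, rfl⟩ X' x h
    rw [Category.comp_id]
    refine commute_of_commute_borel hB (w ≫ z ≫ iB) (fun W y b => ?_) X' x h
    have h1 := congrArg (· ≫ iB) ((hzu X (w ≫ z)).1 ⟨w, rfl⟩ W y b)
    simpa only [MonObj.mul_comp, Category.comp_id, Category.assoc] using h1
  · simp only [Category.comp_id] at hg
    obtain ⟨f, hf⟩ := exists_lift_of_central hB g hg
    obtain ⟨w, hw⟩ := (hzu X f).2 fun X' x h => (cancel_mono iB).1 (by
      simp only [MonObj.mul_comp, Category.comp_id, Category.assoc, hf]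
      exact hg X' x (h ≫ iB))
    exact ⟨w, by rw [← Category.assoc, hw, hf]⟩

omit [IsAffine G.left] [Smooth G.hom] [ConnectedSpace G.left] in
/-- Solvability is inherited by base change. -/
theorem isSolvableGrp_bc {K : Type u} [Field K] (φ : Spec (CommRingCat.of K) ⟶ Spec (CommRingCat.of k))
    (h : Red.IsSolvableGrp G) : Red.IsSolvableGrp (Red.bc φ G) := by
  obtain ⟨n, hn⟩ := h
  refine ⟨n, fun X => ?_⟩
  let F : (X ⟶ Red.bc φ G) →* ((Over.map φ).obj X ⟶ G) :=
    MonoidHom.mk' (DiagGL.fl φ G) fun a b => DiagGL.fl_mul φ G a b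
  refine (Subgroup.eq_bot_iff_forall _).2 fun x hx => DiagGL.fl_injective φ G ?_
  have h1 := map_derivedSeries_le_derivedSeries F n ⟨x, hx, rfl⟩
  rw [hn, Subgroup.mem_bot] at h1
  exact h1.trans (map_one F).symm

set_option maxHeartbeats 800000 in
/-- Over an algebraically closed field a Borel subgroup is geometrically Borel. -/
theorem isBorel_of_isBorelOver [IsAlgClosed k] {iB : B ⟶ G} (hB : Red.IsBorelOver k iB) : Red.IsBorel iB := by
  obtain ⟨hm, hc, hs, hn, hsol, -⟩ := id hB
  haveI := hm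
  haveI := hc
  haveI := hs
  haveI := hn
  refine ⟨hm, hc, hs, fun s => ?_⟩
  let φ := Red.geomPt s
  obtain ⟨X, a, o, hX, hXs, hXq⟩ := GrassAct21.exists_quotient_affine iB
  haveI := hXs
  haveI := hXq
  haveI : IsClosedImmersion (𝟙 B ≫ iB).left := by rw [Category.id_comp]; infer_instance
  haveI : IsProper X.hom := BorelFix21.isProper_of_borel_le hX (𝟙 B) (by rw [Category.id_comp]; exact hB)
  haveI : IsAffine (Red.bc φ G).left := BorelFix21.isAffine_bc φ G
  haveI : Smooth (Red.bc φ G).hom := BorelFix21.smooth_bc φ G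
  haveI : ConnectedSpace (Red.bc φ G).left := BorelFix21.connectedSpace_bc φ G
  haveI : Smooth (Red.bc φ B).hom := BorelFix21.smooth_bc φ B
  haveI : ConnectedSpace (Red.bc φ B).left := BorelFix21.connectedSpace_bc φ B
  exact Groth.Agent.S3905.result _ (Red.bc φ G) (Red.bc φ B) ((Over.pullback φ).map iB)
    (BorelFix21.isClosedImmersion_bc φ iB) (isSolvableGrp_bc φ hsol) _ _ _ (BorelFix21.isQuotient_bc φ hX)
    (BorelFix21.isProper_bc φ X)

end Groth.Agent.TorPts21
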