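import Groth.Agent.Lib.TorPts21.ReductiveCartan
import Groth.Agent.Lib.TorPts21.BorelCentre
import Groth.Agent.Lib.MTRigid29.MonoClosedGlobal

/-!
# The maximal tori of a reductive group over a field are their own centralisers
-/

set_option autoImplicit false
set_option linter.style.haveILetI false
set_option backward.isDefEq.respectTransparency.types false
universe u

open CategoryTheory Limits MonoidalCategory CartesianMonoidalCategory MonObj AlgebraicGeometry

noncomputable section

namespace Groth.Agent.TorPts21

variable {k : Type u} [Field k] {G T : Over (Spec (CommRingCat.of k))} [GrpObj G] [GrpObj T]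

omit [GrpObj G] in
/-- Connectedness descends along extensions of the base field. -/
theorem connectedSpace_of_bc {K : Type u} [Field K] (φ : Spec (CommRingCat.of K) ⟶ Spec (CommRingCat.of k))
    (h : ConnectedSpace (Red.bc φ G).left) : ConnectedSpace G.left := by
  haveI := h
  haveI : Surjective φ := ⟨fun z => ⟨IsLocalRing.closedPoint _, Subsingleton.elim _ _⟩⟩
  let π : (Red.bc φ G).left ⟶ G.left := pullback.fst G.hom φ
  haveI : Surjective π := inferInstanceAs (Surjective (pullback.fst G.hom φ))
  haveI : PreconnectedSpace G.left := π.surjective.denseRange.preconnectedSpace π.continuous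
  exact { toNonempty := ⟨π (Classical.arbitrary _)⟩ }

omit [GrpObj T] in
/-- A reductive group over a field is affine, smooth and connected. -/
theorem props_of_isReductive (hG : Red.IsReductive G) : IsAffine G.left ∧ Smooth G.hom ∧ ConnectedSpace G.left := by
  obtain ⟨hGa, hGs, hGf⟩ := hG
  haveI := hGa
  exact ⟨isAffine_of_isAffineHom G.hom, hGs,
    connectedSpace_of_bc (Red.geomPt (IsLocalRing.closedPoint k)) (hGf _).2.2.1⟩

/-- The maximal tori are maximal after base change to the algebraic closure. -/
theorem isMaxTorus_geomFibre {iT : T ⟶ G} (hT : Red.IsMaximalTorus iT) (s : Spec (CommRingCat.of k)) :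
    AGF.IsMaxTorus ((Over.pullback (Red.geomPt s)).map iT) := by
  obtain ⟨hm, hmono, htor, hmax⟩ := hT
  haveI := hm
  haveI := hmono
  exact ⟨inferInstance, inferInstance, isTorus_bc _ htor, fun T' _ j _ _ f hT' hf => hmax s T' j f hT' hf⟩

set_option maxHeartbeats 800000 in
/-- What commutes with a maximal torus of a reductive group lies in it. -/
theorem exists_lift_of_commute_maxTorus (hG : Red.IsReductive G) {iT : T ⟶ G} (hT : Red.IsMaximalTorus iT)
    {X : Over (Spec (CommRingCat.of k))} (g : X ⟶ G)
    (hg : ∀ (X' : Over (Spec (CommRingCat.of k))) (x : X' ⟶ X) (t : X' ⟶ T),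
      (x ≫ g) * (t ≫ iT) = (t ≫ iT) * (x ≫ g)) : ∃ t : X ⟶ T, t ≫ iT = g := by
  obtain ⟨hGa, hGs, hGc⟩ := props_of_isReductive hG
  haveI := hGa
  haveI := hGs
  haveI := hT.1
  obtain ⟨C, _, c, hc, hci, -⟩ :=
    MTRigid29.exists_centralizer (MTRigid29.isMT_of_ft (isMultTypeFT_of_isTorus hT.2.2.1)) hGs inferInstance iT
  haveI := hci
  obtain ⟨z, hz⟩ := (hc.2.2 X g).2 hg
  haveI := hT.2.1
  haveI := MTRigid29.isClosedImmersion_of_mono (isMultTypeFT_of_isTorus hT.2.2.1) inferInstance iT
  let s : Spec (CommRingCat.of k) := IsLocalRing.closedPoint k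
  obtain ⟨f, hf⟩ := exists_lift_cartan_reductive (hG.2.2 s) (isMaxTorus_geomFibre hT s)
    (isCentralizerOf_bc (Red.geomPt s) hc)
  obtain ⟨f₀, hf₀⟩ := exists_lift_of_bc (Red.geomPt s) iT c f hf
  exact ⟨z ≫ f₀, by rw [Category.assoc, hf₀, hz]⟩

end Groth.Agent.TorPts21
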