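import Groth.Agent.Lib.TorPts21.DetTrick
import Groth.Agent.Lib.TorPts21.ReductiveCartanField

/-!
# Central products of commutators in a reductive group form a finite group
-/

set_option autoImplicit false
set_option linter.style.haveILetI false
set_option backward.isDefEq.respectTransparency.types false
universe u

open CategoryTheory Limits MonoidalCategory CartesianMonoidalCategory MonObj AlgebraicGeometry

noncomputable section

namespace Groth.Agent.TorPts21

open MatGrp21 InvRing21 DiagGL
open scoped Matrix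

attribute [local instance] InvRing21.gamAlg BorelFix21.ptsTop

variable {k : Type u} [Field k] [IsAlgClosed k]

/-- A torus has finitely many points of given order. -/
theorem finite_torsion {T : Over (Spec (CommRingCat.of k))} [GrpObj T] (hT : Red.IsTorus T) {N : ℕ} (hN : 0 < N) :
    {τ : VecGrp.pt k k ⟶ T | τ ^ N = 1}.Finite := by
  classical
  obtain ⟨hTa, hTs, -, -⟩ := props_of_isTorus hT
  haveI := hTa
  haveI := hTs
  obtain ⟨d, ⟨C⟩⟩ := exists_chars hT
  let F : (VecGrp.pt k k ⟶ T) → Fin d → k := fun τ i => ptChr C τ (Multiplicative.ofAdd (Pi.single i (1 : ℤ)))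
  have hone : ∀ a, ptChr C 1 a = 1 := fun a => by
    have h1 := ptChr_mul C 1 1 a
    rw [_root_.one_mul] at h1
    exact (mul_eq_left₀ (((Group.isUnit a).map (ptChr C 1)).ne_zero)).1 h1.symm
  have hinj : Function.Injective F := fun τ τ' h => by
    refine ptChr_injective C (MonoidHom.ext fun a => ?_)
    have ha : a = ∏ i, (Multiplicative.ofAdd (Pi.single i (1 : ℤ) : Fin d → ℤ)) ^ (a.toAdd i) := by
      refine Multiplicative.toAdd.injective ?_
      simp only [toAdd_prod, toAdd_zpow, toAdd_ofAdd]
      funext j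
      simp [Finset.sum_apply, Pi.single_apply]
    have hu : (ptChr C τ).toHomUnits a = (ptChr C τ').toHomUnits a := by
      rw [ha, map_prod, map_prod]
      refine Finset.prod_congr rfl fun i _ => ?_
      rw [map_zpow, map_zpow, show (ptChr C τ).toHomUnits (Multiplicative.ofAdd (Pi.single i (1 : ℤ))) =
        (ptChr C τ').toHomUnits (Multiplicative.ofAdd (Pi.single i (1 : ℤ))) from Units.ext (congrFun h i)]
    exact congrArg Units.val hu
  refine ((Set.Finite.pi (t := fun _ : Fin d => {x : k | x ^ N = 1}) fun _ => ?_).preimage hinj.injOn).subset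
    fun τ (hτ : τ ^ N = 1) i _ => ?_
  · exact ((Polynomial.nthRoots N (1 : k)).toFinset.finite_toSet).subset fun x hx => by
      simpa [Polynomial.mem_nthRoots hN] using hx
  · show F τ i ^ N = 1
    rw [← ptChr_pow C τ hN, hτ, hone]

variable {G : Over (Spec (CommRingCat.of k))} [GrpObj G] [IsAffine G.left] [Smooth G.hom] [ConnectedSpace G.left]

/-- A central rational point of a reductive group lies in every maximal torus. -/
theorem exists_pt_maxTorus_of_central (hG : Red.IsReductiveOver k G) {T : Over (Spec (CommRingCat.of k))} [GrpObj T]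
    {iT : T ⟶ G} (hT : AGF.IsMaxTorus iT) (z : VecGrp.pt k k ⟶ G)
    (hz : ∀ g : VecGrp.pt k k ⟶ G, g * z = z * g) : ∃ τ : VecGrp.pt k k ⟶ T, τ ≫ iT = z := by
  haveI := hT.1
  haveI := hT.2.1
  obtain ⟨C, _, c, hc, -, -⟩ := MTRigid29.exists_centralizer
    (MTRigid29.isMT_of_ft (isMultTypeFT_of_isTorus hT.2.2.1)) inferInstance inferInstance iT
  obtain ⟨z₀, rfl⟩ := exists_gpt z
  obtain ⟨y, hy⟩ := exists_lift_centralizer_pt hT.2.2.1 hc z₀ fun t => (hz _).symm
  obtain ⟨f, hf⟩ := exists_lift_cartan_reductive hG hT hc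
  exact ⟨gpt y ≫ f, by rw [Category.assoc, hf, gpt, gpt, Category.assoc, hy]⟩

/-- The central products of commutators of a reductive group form a finite set. -/
theorem finite_central_commutator (hG : Red.IsReductiveOver k G) :
    {z : VecGrp.pt k k ⟶ G | (∀ g, g * z = z * g) ∧ z ∈ commutator (VecGrp.pt k k ⟶ G)}.Finite := by
  obtain ⟨T, _, iT, hT⟩ := exists_maxTorus G
  haveI := hT.1
  haveI := hT.2.1
  obtain ⟨N, hN, hpow⟩ := exists_pow_eq_one_of_mem_commutator hT.2.2.1 iT
  refine ((finite_torsion hT.2.2.1 hN).image (· ≫ iT)).subset fun z ⟨hz, hzc⟩ => ?_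
  obtain ⟨τ, rfl⟩ := exists_pt_maxTorus_of_central hG hT z hz
  exact ⟨τ, hpow τ hz hzc, rfl⟩

omit [IsAffine G.left] [Smooth G.hom] [ConnectedSpace G.left] [GrpObj G] in
/-- A scheme of finite type with finitely many rational points is finite. -/
theorem finite_of_finite_pts {X : Over (Spec (CommRingCat.of k))} [LocallyOfFiniteType X.hom] [IsSeparated X.hom]
    (h : Finite (VecGrp.pt k k ⟶ X)) : Finite ↥X.left := by
  have hfin : (Set.range fun x : VecGrp.pt k k ⟶ X => InvRing21.img x).Finite := Set.finite_range _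
  have hcl : IsClosed (Set.range fun x : VecGrp.pt k k ⟶ X => InvRing21.img x) := by
    rw [← Set.biUnion_of_singleton (Set.range fun x : VecGrp.pt k k ⟶ X => InvRing21.img x)]
    refine hfin.isClosed_biUnion fun _ ⟨x, hx⟩ => ?_
    rw [← hx]
    exact isClosed_singleton_img x
  have huniv : (Set.range fun x : VecGrp.pt k k ⟶ X => InvRing21.img x) = Set.univ :=
    Set.eq_univ_of_forall fun p => by
      by_contra hp
      obtain ⟨x, hx⟩ := BorelFix21.exists_pt_mem (G := X) hcl.isOpen_compl.isLocallyClosed ⟨p, hp⟩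
      exact hx ⟨x, rfl⟩
  exact Set.finite_univ_iff.1 (huniv ▸ hfin)

omit [IsAffine G.left] [Smooth G.hom] [ConnectedSpace G.left] [GrpObj G] in
/-- A smooth connected affine group with finitely many rational points is trivial. -/
theorem isTrivialGrp_of_finite_pts {V : Over (Spec (CommRingCat.of k))} [GrpObj V] [IsAffine V.left] [Smooth V.hom]
    [ConnectedSpace V.left] [Finite (VecGrp.pt k k ⟶ V)] : Red.IsTrivialGrp V := by
  haveI : T1Space (VecGrp.pt k k ⟶ V) := ⟨fun x => by
    have : ({x} : Set (VecGrp.pt k k ⟶ V)) = InvRing21.img ⁻¹' {InvRing21.img x} := Set.ext fun y =>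
      ⟨fun e => congrArg _ e, fun e => pt_ext e⟩
    rw [this]
    exact (isClosed_singleton_img x).preimage continuous_induced_dom⟩
  haveI : DiscreteTopology (VecGrp.pt k k ⟶ V) := inferInstance
  haveI : PreconnectedSpace (VecGrp.pt k k ⟶ V) := BorelFix21.preconnectedSpace_pts
  haveI : Subsingleton (VecGrp.pt k k ⟶ V) := PreconnectedSpace.trivial_of_discrete
  exact isTrivialGrp_of_pts fun x => Subsingleton.elim _ _

end Groth.Agent.TorPts21
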