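import Groth.Agent.Lib.TorPts21.Upper
import Groth.Agent.Lib.BorelFix21.Borels
import Groth.Prelude.Def_AGF

/-!
# Maximal tori in connected solvable groups
-/

set_option autoImplicit false
set_option linter.style.haveILetI false
set_option backward.isDefEq.respectTransparency.types false
universe u

open CategoryTheory Limits MonoidalCategory CartesianMonoidalCategory MonObj AlgebraicGeometry
open Groth.Agent.DiagGL

noncomputable section

namespace Groth.Agent.TorPts21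

open MatGrp21

variable {k : Type u} [Field k] [IsAlgClosed k] {n : ℕ}

theorem props_of_isTorus {T : Over (Spec (CommRingCat.of k))} [GrpObj T] (hT : Red.IsTorus T) :
    IsAffine T.left ∧ Smooth T.hom ∧ ConnectedSpace T.left ∧ Red.IsSolvableGrp T := by
  obtain ⟨d, ⟨C⟩⟩ := exists_chars hT
  haveI := irreducibleSpace_of_chars C
  exact ⟨isAffine_of_chars C, smooth_of_chars C, inferInstance, isSolvableGrp_of_chars C⟩

theorem isClosedImmersion_of_torus {T G : Over (Spec (CommRingCat.of k))} [GrpObj T] [GrpObj G] [IsAffine G.left]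
    [LocallyOfFiniteType G.hom] (hT : Red.IsTorus T) (i : T ⟶ G) [IsMonHom i] [Mono i] :
    IsClosedImmersion i.left := by
  obtain ⟨d, ⟨C⟩⟩ := exists_chars hT
  obtain ⟨n, r, hr, hrc⟩ := GrassAct21.exists_embedding_GL G
  haveI := hr
  haveI := hrc
  haveI : Mono r := Over.mono_of_mono_left r
  haveI hci : IsClosedImmersion (i.left ≫ r.left) :=
    MTRigid29.isClosedImmersion_of_mono_split C (Iso.refl _) (i ≫ r)
  exact IsClosedImmersion.of_comp i.left r.left

variable {G : Over (Spec (CommRingCat.of k))} [GrpObj G] [IsAffine G.left]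

omit [IsAlgClosed k] [IsAffine G.left] in
theorem mono_conjBy {H : Over (Spec (CommRingCat.of k))} (g : 𝟙_ (Over (Spec (CommRingCat.of k))) ⟶ G) (i : H ⟶ G)
    [Mono i] : Mono (AGF.conjBy g i) :=
  ⟨fun {X} x y h => by
    rw [comp_conjBy, comp_conjBy] at h
    exact (cancel_mono i).1 (mul_left_cancel (mul_right_cancel h))⟩

omit [IsAlgClosed k] [IsAffine G.left] in
theorem isMaxTorus_conjBy {T : Over (Spec (CommRingCat.of k))} [GrpObj T] {i : T ⟶ G}
    (hT : AGF.IsMaxTorus i) (g : 𝟙_ (Over (Spec (CommRingCat.of k))) ⟶ G) : AGF.IsMaxTorus (AGF.conjBy g i) := by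
  obtain ⟨hm, hmono, htor, hmax⟩ := id hT
  haveI := hm
  haveI := hmono
  refine ⟨isMonHom_conjBy g i, mono_conjBy g i, htor, fun T' _ j _ _ f hT' hf => ?_⟩
  haveI := isMonHom_conjBy g⁻¹ j
  haveI := mono_conjBy g⁻¹ j
  refine hmax T' (AGF.conjBy g⁻¹ j) f hT' ?_
  rw [comp_conjBy, hf, AGF.conjBy, GrpObj.comp_inv]
  group

omit [IsAlgClosed k] [IsAffine G.left] in
theorem conjBy_conjBy {H : Over (Spec (CommRingCat.of k))} (h g : 𝟙_ (Over (Spec (CommRingCat.of k))) ⟶ G)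
    (i : H ⟶ G) : AGF.conjBy h (AGF.conjBy g i) = AGF.conjBy (h * g) i := by
  simp only [AGF.conjBy, MonObj.comp_mul]
  group

variable {B : Over (Spec (CommRingCat.of k))} [GrpObj B] (r : G ⟶ GLs k n) [IsMonHom r] [IsClosedImmersion r.left]
  (iB : B ⟶ G) [IsMonHom iB]

omit [IsAlgClosed k] [IsAffine G.left] [IsClosedImmersion r.left] in
theorem range_le_of_lift {T : Over (Spec (CommRingCat.of k))} [GrpObj T] (iT : T ⟶ G) [IsMonHom iT] (t : T ⟶ B)
    (ht : t ≫ iB = iT) : (mtx (iT ≫ r)).range ≤ (mtx (iB ≫ r)).range := by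
  rintro _ ⟨x, rfl⟩
  refine ⟨x ≫ t, ?_⟩
  rw [mtx_apply, mtx_apply, mtxFn_comp, mtxFn_comp, Category.assoc, ht]

omit [IsAlgClosed k] [IsAffine G.left] [IsClosedImmersion r.left] in
theorem range_le_range {T : Over (Spec (CommRingCat.of k))} [GrpObj T] (iT : T ⟶ G) [IsMonHom iT] :
    (mtx (iT ≫ r)).range ≤ (mtx r).range := by
  rintro _ ⟨x, rfl⟩
  exact ⟨x ≫ iT, by rw [mtx_comp]⟩

/-- In a triangular connected group a maximal torus is conjugate to the standard torus. -/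
theorem exists_conj_eq [IsClosedImmersion iB.left]
    (hu : (mtx (iB ≫ r)).range ≤ upper) (D : Decomp (mtx (iB ≫ r)).range)
    {T : Over (Spec (CommRingCat.of k))} [GrpObj T] {iT : T ⟶ G} [IsMonHom iT] (hT : AGF.IsMaxTorus iT) (t : T ⟶ B)
    (ht : t ≫ iB = iT) : ∃ u ∈ (mtx (iB ≫ r)).range ⊓ lay 1,
      (mtx (iT ≫ r)).range.map (MulAut.conj u).toMonoidHom = D.T := by
  obtain ⟨-, hmono, htor, hmax⟩ := id hT
  haveI := hmono
  obtain ⟨hTa, hTs, hTc, -⟩ := props_of_isTorus htor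
  haveI := hTa
  haveI := hTs
  obtain ⟨d, ⟨C⟩⟩ := exists_chars htor
  haveI : IsClosedImmersion (iB ≫ r).left := by rw [Over.comp_left]; infer_instance
  haveI : IsAffine B.left := isAffine_of_isAffineHom iB.left
  obtain ⟨u, hu', huT⟩ := D.exists_conj hu (isClosed_range_mtx (iB ≫ r)) (range_le_of_lift r iB iT t ht)
    (range_mtx_comm C (iT ≫ r)) (range_mtx_dense C (iT ≫ r))
  refine ⟨u, hu', ?_⟩
  let T₁ : Subgroup (GL (Fin n) k) := D.T.map (MulAut.conj u⁻¹).toMonoidHom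
  have hT₁ : ∀ g, g ∈ T₁ ↔ u * g * u⁻¹ ∈ D.T := fun g => by
    simp only [T₁, Subgroup.mem_map, MulEquiv.coe_toMonoidHom, MulAut.conj_apply, inv_inv]
    constructor
    · rintro ⟨x, hx, rfl⟩
      convert hx using 1
      group
    · exact fun h => ⟨_, h, by group⟩
  have hcoe : (T₁ : Set (GL (Fin n) k)) = (fun g => u⁻¹ * g * u) '' (D.T : Set (GL (Fin n) k)) := by
    ext g; simp [T₁]
  have hcl : IsClosed (T₁ : Set (GL (Fin n) k)) := by
    have : (T₁ : Set (GL (Fin n) k)) = (fun g => u * g * u⁻¹) ⁻¹' (D.T : Set (GL (Fin n) k)) :=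
      Set.ext fun g => hT₁ g
    rw [this]
    exact D.closed.preimage (continuous_conj u)
  have hirr : IsPreirreducible (T₁ : Set (GL (Fin n) k)) := by
    rw [hcoe]
    refine D.irreducible.image _ (Continuous.continuousOn ?_)
    simpa using continuous_conj u⁻¹
  have hle : T₁ ≤ (mtx r).range := fun g hg => by
    have huM := (range_le_range r iB) hu'.1
    have h1 := (range_le_range r iB) (D.le ((hT₁ g).1 hg))
    have h2 := mul_mem (mul_mem (inv_mem huM) h1) huM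
    convert h2 using 1
    group
  obtain ⟨σ, iσ, d', C', s, hs, hsm, hsc, hsr⟩ := exists_torus_subgroup r hle hcl hirr (D.P * u) fun g hg => by
    have h1 := D.diag _ ((hT₁ g).1 hg)
    rw [show D.P * u * g * (D.P * u)⁻¹ = D.P * (u * g * u⁻¹) * D.P⁻¹ by group, h1]
    exact Matrix.isDiag_diagonal _
  obtain ⟨f, hf, -⟩ := exists_lift_of_range_le r iT s (by
    rw [hsr]
    exact fun g hg => (hT₁ g).2 (huT g hg))
  haveI := hmax σ s f (isTorus_of_chars C') hf
  have heq : (mtx (iT ≫ r)).range = T₁ := le_antisymm (fun g hg => (hT₁ g).2 (huT g hg)) (by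
    rw [← hsr]
    exact range_le_of_lift r iT s (inv f) (by rw [← hf, IsIso.inv_hom_id_assoc]))
  rw [heq]
  ext g
  simp only [Subgroup.mem_map, MulEquiv.coe_toMonoidHom, MulAut.conj_apply]
  exact ⟨fun ⟨x, hx, e⟩ => e ▸ (hT₁ x).1 hx, fun hg => ⟨u⁻¹ * g * u, (hT₁ _).2 (by convert hg using 1; group), by group⟩⟩

variable [Smooth G.hom]

omit r in
/-- Two maximal tori of a connected solvable subgroup are conjugate under it. -/
theorem exists_conj_of_solvable [IsClosedImmersion iB.left] [Smooth B.hom] [ConnectedSpace B.left]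
    (hB : Red.IsSolvableGrp B) {T T' : Over (Spec (CommRingCat.of k))} [GrpObj T] [GrpObj T'] {iT : T ⟶ G}
    {iT' : T' ⟶ G} (hT : AGF.IsMaxTorus iT) (hT' : AGF.IsMaxTorus iT') (t : T ⟶ B) (ht : t ≫ iB = iT)
    (t' : T' ⟶ B) (ht' : t' ≫ iB = iT') :
    ∃ (y : 𝟙_ (Over (Spec (CommRingCat.of k))) ⟶ B) (f : T ≅ T') (fB : B ≅ B),
      f.hom ≫ iT' = AGF.conjBy (y ≫ iB) iT ∧ fB.hom ≫ iB = AGF.conjBy (y ≫ iB) iB := by
  obtain ⟨n, r, hr, hrc, hu⟩ := exists_upper_embedding iB hB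
  haveI := hr
  haveI := hrc
  haveI := hT.1
  haveI := hT'.1
  haveI : IsClosedImmersion (iB ≫ r).left := by rw [Over.comp_left]; infer_instance
  haveI : IsAffine B.left := isAffine_of_isAffineHom iB.left
  obtain ⟨D⟩ := nonempty_decomp hu (isClosed_range_mtx (iB ≫ r)) (isPreirreducible_range_mtx' (iB ≫ r))
  obtain ⟨u, hu1, huT⟩ := exists_conj_eq r iB hu D hT t ht
  obtain ⟨v, hv1, hvT⟩ := exists_conj_eq r iB hu D hT' t' ht'
  obtain ⟨x, hx⟩ := Subgroup.mul_mem (mtx (iB ≫ r)).range (Subgroup.inv_mem _ hv1.1) hu1.1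
  obtain ⟨y, rfl⟩ := exists_gpt x
  refine ⟨y, ?_⟩
  have hw : mtxFn r (gpt (y ≫ iB)) = v⁻¹ * u := by
    rw [← hx, mtx_apply, mtxFn_comp, gpt, gpt, Category.assoc]
  obtain ⟨hTa, hTs, -, -⟩ := props_of_isTorus hT.2.2.1
  obtain ⟨hTa', hTs', -, -⟩ := props_of_isTorus hT'.2.2.1
  haveI := hTa
  haveI := hTs
  haveI := hTa'
  haveI := hTs'
  haveI := hT.2.1
  haveI := hT'.2.1
  haveI := isClosedImmersion_of_torus hT.2.2.1 iT
  haveI := isClosedImmersion_of_torus hT'.2.2.1 iT'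
  haveI := isMonHom_conjBy (y ≫ iB) iT
  haveI := isClosedImmersion_conjBy (y ≫ iB) iT
  haveI := isMonHom_conjBy (y ≫ iB) iB
  haveI := isClosedImmersion_conjBy (y ≫ iB) iB
  obtain ⟨f, hf⟩ := exists_iso_of_range_eq r (AGF.conjBy (y ≫ iB) iT) iT' (by
    rw [range_conjBy r (y ≫ iB) iT _ rfl, hw]
    refine Subgroup.map_injective (f := (MulAut.conj v).toMonoidHom) (MulAut.conj v).injective ?_
    rw [hvT, Subgroup.map_map, ← huT]
    congr 1
    refine MonoidHom.ext fun a => ?_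
    simp only [MonoidHom.comp_apply, MulEquiv.coe_toMonoidHom, MulAut.conj_apply]
    group)
  obtain ⟨fB, hfB⟩ := exists_iso_of_range_eq r (AGF.conjBy (y ≫ iB) iB) iB (by
    rw [range_conjBy r (y ≫ iB) iB _ rfl, hw]
    have hmem : v⁻¹ * u ∈ (mtx (iB ≫ r)).range := ⟨_, hx⟩
    refine le_antisymm ?_ fun a ha => ⟨(v⁻¹ * u)⁻¹ * a * (v⁻¹ * u), mul_mem (mul_mem (inv_mem hmem) ha) hmem, ?_⟩
    · rintro _ ⟨a, ha, rfl⟩
      exact mul_mem (mul_mem hmem ha) (inv_mem hmem)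
    · simp only [MulEquiv.coe_toMonoidHom, MulAut.conj_apply]
      group)
  exact ⟨f, fB, hf, hfB⟩

omit r in
/-- A torus lies in a Borel subgroup. -/
theorem exists_borel_containing [ConnectedSpace G.left] {T : Over (Spec (CommRingCat.of k))} [GrpObj T]
    (iT : T ⟶ G) [IsMonHom iT] [Mono iT] (hT : Red.IsTorus T) :
    ∃ (B : Over (Spec (CommRingCat.of k))) (_ : GrpObj B) (iB : B ⟶ G) (t : T ⟶ B),
      Red.IsBorelOver k iB ∧ t ≫ iB = iT := by
  obtain ⟨-, hs, hc, hsol⟩ := props_of_isTorus hT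
  haveI := hs
  haveI := hc
  haveI := isClosedImmersion_of_torus hT iT
  exact BorelFix21.exists_le_borel iT hsol

omit r [IsMonHom iB] in
/-- Borel pairs are conjugate. -/
theorem exists_conj_pair [ConnectedSpace G.left] {B' : Over (Spec (CommRingCat.of k))} [GrpObj B'] (iB' : B' ⟶ G)
    (hB : Red.IsBorelOver k iB) (hB' : Red.IsBorelOver k iB') {T T' : Over (Spec (CommRingCat.of k))} [GrpObj T]
    [GrpObj T'] {iT : T ⟶ G} {iT' : T' ⟶ G} (hT : AGF.IsMaxTorus iT) (hT' : AGF.IsMaxTorus iT') (t : T ⟶ B)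
    (ht : t ≫ iB = iT) (t' : T' ⟶ B') (ht' : t' ≫ iB' = iT') :
    ∃ (g : 𝟙_ (Over (Spec (CommRingCat.of k))) ⟶ G) (f : B ≅ B') (f' : T ≅ T'),
      f.hom ≫ iB' = AGF.conjBy g iB ∧ f'.hom ≫ iT' = AGF.conjBy g iT := by
  obtain ⟨g, f, hf⟩ := BorelFix21.exists_conjBy iB iB' hB hB'
  obtain ⟨hm, hc, hs, hn, hsol, -⟩ := id hB'
  haveI := hm
  haveI := hc
  haveI := hs
  haveI := hn
  obtain ⟨y, f', fB, hf', hfB⟩ := exists_conj_of_solvable iB' hsol (isMaxTorus_conjBy hT g) hT' (t ≫ f.hom)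
    (by rw [Category.assoc, hf, comp_conjBy, ht]) t' ht'
  refine ⟨(y ≫ iB') * g, f ≪≫ fB, f', ?_, by rw [hf', conjBy_conjBy]⟩
  rw [Iso.trans_hom, Category.assoc, hfB, ← conjBy_conjBy, ← hf, comp_conjBy]

omit r in
/-- Maximal tori are conjugate. -/
theorem exists_conj_maxTorus [ConnectedSpace G.left] {T T' : Over (Spec (CommRingCat.of k))} [GrpObj T]
    [GrpObj T'] {iT : T ⟶ G} {iT' : T' ⟶ G} (hT : AGF.IsMaxTorus iT) (hT' : AGF.IsMaxTorus iT') :
    ∃ (g : 𝟙_ (Over (Spec (CommRingCat.of k))) ⟶ G) (f : T ≅ T'), f.hom ≫ iT' = AGF.conjBy g iT := by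
  haveI := hT.1
  haveI := hT'.1
  haveI := hT.2.1
  haveI := hT'.2.1
  obtain ⟨B, _, iB, t, hB, ht⟩ := exists_borel_containing iT hT.2.2.1
  obtain ⟨B', _, iB', t', hB', ht'⟩ := exists_borel_containing iT' hT'.2.2.1
  haveI := hB.1
  obtain ⟨g, f, f', -, hf'⟩ := exists_conj_pair iB iB' hB hB' hT hT' t ht t' ht'
  exact ⟨g, f', hf'⟩

end Groth.Agent.TorPts21
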