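import Groth.Agent.Lib.TorPts21.Max

/-!
# Existence of maximal tori over algebraically closed fields
-/

set_option autoImplicit false
set_option linter.style.haveILetI false
set_option backward.isDefEq.respectTransparency.types false
universe u

open CategoryTheory Limits MonoidalCategory CartesianMonoidalCategory MonObj AlgebraicGeometry
open Groth.Agent.DiagGL

noncomputable section

namespace Groth.Agent.TorPts21

open MatGrp21

variable {k : Type u} [Field k] {n : ℕ}

/-- A closed subgroup that is conjugated into itself is normalised. -/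
theorem map_conj_eq_of_le {M : Subgroup (GL (Fin n) k)} (hM : IsClosed (M : Set (GL (Fin n) k)))
    (w : GL (Fin n) k) (h : M.map (MulAut.conj w).toMonoidHom ≤ M) :
    M.map (MulAut.conj w).toMonoidHom = M := by
  have hmem : ∀ (x g : GL (Fin n) k), g ∈ M.map (MulAut.conj x).toMonoidHom ↔ x⁻¹ * g * x ∈ M := fun x g => by
    simp only [Subgroup.mem_map, MulEquiv.coe_toMonoidHom, MulAut.conj_apply]
    exact ⟨fun ⟨y, hy, e⟩ => by convert hy using 1; rw [← e]; group, fun hg => ⟨_, hg, by group⟩⟩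
  let Z : ℕ → TopologicalSpace.Closeds (GL (Fin n) k) := fun i =>
    ⟨(fun g => (w ^ i)⁻¹ * g * ((w ^ i)⁻¹)⁻¹) ⁻¹' (M : Set (GL (Fin n) k)), hM.preimage (continuous_conj _)⟩
  have hZ : ∀ i g, g ∈ Z i ↔ (w ^ i)⁻¹ * g * (w ^ i) ∈ M := fun i g => by
    show (w ^ i)⁻¹ * g * ((w ^ i)⁻¹)⁻¹ ∈ M ↔ _
    rw [inv_inv]
  have hstep : ∀ i, Z (i + 1) ≤ Z i := fun i g hg => by
    have h1 := (hZ _ g).1 hg
    refine (hZ i g).2 (h ((hmem w _).2 ?_))
    rw [pow_succ] at h1
    convert h1 using 1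
    group
  obtain ⟨i, hi⟩ := IsWellFounded.wf.has_min (r := ((· < ·) : TopologicalSpace.Closeds (GL (Fin n) k) → _ → Prop))
    (Set.range Z) (Set.range_nonempty Z)
  obtain ⟨⟨i, rfl⟩, hmin⟩ := hi
  have heq : Z (i + 1) = Z i := ((hstep i).lt_or_eq).resolve_left (hmin _ ⟨i + 1, rfl⟩)
  refine le_antisymm h fun g hg => (hmem w g).2 ?_
  have h1 : w ^ i * g * (w ^ i)⁻¹ ∈ Z i := (hZ i _).2 (by convert hg using 1; group)
  rw [← heq] at h1
  have h2 := (hZ _ _).1 h1
  rw [pow_succ] at h2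
  convert h2 using 1
  group

variable [IsAlgClosed k]

set_option maxHeartbeats 800000 in
/-- Maximal tori exist. -/
theorem exists_maxTorus (G : Over (Spec (CommRingCat.of k))) [GrpObj G] [IsAffine G.left] [Smooth G.hom]
    [ConnectedSpace G.left] :
    ∃ (T : Over (Spec (CommRingCat.of k))) (_ : GrpObj T) (iT : T ⟶ G), AGF.IsMaxTorus iT := by
  obtain ⟨B, _, iB, hB, -⟩ := BorelFix21.exists_isBorelOver G
  obtain ⟨hm, hc, hs, hn, hsol, -⟩ := id hB
  haveI := hm
  haveI := hc
  haveI := hs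
  haveI := hn
  obtain ⟨n, r, hr, hrc, hu⟩ := exists_upper_embedding iB hsol
  haveI := hr
  haveI := hrc
  haveI : IsAffine B.left := isAffine_of_isAffineHom iB.left
  haveI : IsClosedImmersion (iB ≫ r).left := by rw [Over.comp_left]; infer_instance
  obtain ⟨D⟩ := nonempty_decomp hu (isClosed_range_mtx (iB ≫ r)) (isPreirreducible_range_mtx' (iB ≫ r))
  obtain ⟨σ, iσ, d, C, s, hsm, hsmono, hsc, hsr⟩ := exists_torus_subgroup r
    (D.le.trans (range_le_range r iB)) D.closed D.irreducible D.P fun g hg => by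
      rw [D.diag g hg]; exact Matrix.isDiag_diagonal _
  haveI := hsc
  refine ⟨σ, iσ, s, hsm, hsmono, isTorus_of_chars C, fun T' _ j _ _ f hT' hf => ?_⟩
  haveI := isClosedImmersion_of_torus hT' j
  obtain ⟨hTa, hTs, hTc, -⟩ := props_of_isTorus hT'
  haveI := hTa
  haveI := hTs
  haveI := hTc
  haveI : Smooth σ.hom := smooth_of_chars C
  haveI : IsAffine σ.left := isAffine_of_chars C
  obtain ⟨d', ⟨C'⟩⟩ := exists_chars hT'
  obtain ⟨B', _, iB', t', hB', ht'⟩ := exists_borel_containing j hT'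
  obtain ⟨g, φ, hφ⟩ := BorelFix21.exists_conjBy iB' iB hB' hB
  haveI := isMonHom_conjBy g j
  obtain ⟨u, hu1, hu2⟩ := D.exists_conj hu (isClosed_range_mtx (iB ≫ r))
    (range_le_of_lift r iB (AGF.conjBy g j) (t' ≫ φ.hom) (by rw [Category.assoc, hφ, comp_conjBy, ht']))
    (range_mtx_comm C' (AGF.conjBy g j ≫ r)) (range_mtx_dense C' (AGF.conjBy g j ≫ r))
  rw [range_conjBy r g j _ rfl] at hu2
  have h1 : (mtx (j ≫ r)).range.map (MulAut.conj (u * mtxFn r (gpt g))).toMonoidHom ≤ (mtx (s ≫ r)).range := by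
    rintro _ ⟨x, hx, rfl⟩
    rw [hsr]
    have := hu2 _ ⟨x, hx, rfl⟩
    simp only [MulEquiv.coe_toMonoidHom, MulAut.conj_apply] at this ⊢
    convert this using 1
    group
  have h2 : (mtx (s ≫ r)).range ≤ (mtx (j ≫ r)).range := range_le_of_lift r j s f hf
  haveI : IsClosedImmersion (j ≫ r).left := by rw [Over.comp_left]; infer_instance
  have h3 := map_conj_eq_of_le (isClosed_range_mtx (j ≫ r)) _ (h1.trans h2)
  obtain ⟨e, he⟩ := exists_iso_of_range_eq r s j (le_antisymm h2 (h3 ▸ h1))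
  haveI : Mono j := ‹_›
  rw [(cancel_mono j).1 (hf.trans he.symm)]
  infer_instance

end Groth.Agent.TorPts21
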