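import Groth.Agent.Lib.TorPts21.Max

/-!
# A point of a torus with the same centraliser
-/

set_option autoImplicit false
set_option linter.style.haveILetI false
set_option backward.isDefEq.respectTransparency.types false
universe u

open CategoryTheory Limits MonoidalCategory CartesianMonoidalCategory MonObj AlgebraicGeometry
open Groth.Agent.DiagGL

noncomputable section

namespace Groth.Agent.TorPts21

open MatGrp21

variable {k : Type u} [Field k] [IsAlgClosed k]

attribute [local instance] InvRing21.gamAlg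

/-- A torus in an affine group contains a point with the same centraliser. -/
theorem exists_pt_centralizer {G S : Over (Spec (CommRingCat.of k))} [GrpObj G] [GrpObj S] [IsAffine G.left]
    [LocallyOfFiniteType G.hom] (iS : S ⟶ G) [IsMonHom iS] (hS : Red.IsTorus S) :
    ∃ s : 𝟙_ (Over (Spec (CommRingCat.of k))) ⟶ S,
      ∀ (T : Over (Spec (CommRingCat.of k))) (g : T ⟶ G),
        g * (toUnit T ≫ s ≫ iS) = (toUnit T ≫ s ≫ iS) * g ↔
          ∀ (T' : Over (Spec (CommRingCat.of k))) (t : T' ⟶ T) (h : T' ⟶ S),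
            (t ≫ g) * (h ≫ iS) = (h ≫ iS) * (t ≫ g) := by
  classical
  obtain ⟨d, ⟨C⟩⟩ := exists_chars hS
  haveI := irreducibleSpace_of_chars C
  haveI := isAffine_of_chars C
  haveI := smooth_of_chars C
  haveI := OrbitTop19.isReduced_of_smooth S.hom
  haveI : IsIntegral S.left := isIntegral_of_irreducibleSpace_of_isReduced S.left
  haveI : Nonempty (⊤ : S.left.Opens) := ⟨⟨Classical.arbitrary _, trivial⟩⟩
  obtain ⟨n, r, hr, hrc⟩ := GrassAct21.exists_embedding_GL G
  haveI := hr
  haveI := hrc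
  haveI : Mono r := Over.mono_of_mono_left r
  obtain ⟨P, hP⟩ := range_mtx_diag C (iS ≫ r)
  let Pm : ∀ T : Over (Spec (CommRingCat.of k)), Matrix (Fin n) (Fin n) Γ(T.left, ⊤) := fun T =>
    (P : Matrix (Fin n) (Fin n) k).map (alg T)
  let Qm : ∀ T : Over (Spec (CommRingCat.of k)), Matrix (Fin n) (Fin n) Γ(T.left, ⊤) := fun T =>
    ((P⁻¹ : GL (Fin n) k) : Matrix (Fin n) (Fin n) k).map (alg T)
  have hPQ : ∀ T, Pm T * Qm T = 1 := fun T => by
    show Matrix.map _ _ * Matrix.map _ _ = _
    rw [← Matrix.map_mul, Units.mul_inv, Matrix.map_one _ (map_zero _) (map_one _)]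
  have hQP : ∀ T, Qm T * Pm T = 1 := fun T => by
    show Matrix.map _ _ * Matrix.map _ _ = _
    rw [← Matrix.map_mul, Units.inv_mul, Matrix.map_one _ (map_zero _) (map_one _)]
  let A : Matrix (Fin n) (Fin n) Γ(S.left, ⊤) := Pm S * mat (iS ≫ r) * Qm S
  let e : Fin n → Γ(S.left, ⊤) := fun j => A j j
  have hnat : ∀ {T T' : Over (Spec (CommRingCat.of k))} (t : T' ⟶ T) (x : T ⟶ G),
      (Pm T * mat (x ≫ r) * Qm T).map t.left.appTop = Pm T' * mat ((t ≫ x) ≫ r) * Qm T' := fun {T T'} t x => by
    simp only [Pm, Qm, Matrix.map_mul, Matrix.map_map, Category.assoc, mat_comp t]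
    have ha : (t.left.appTop : _ → Γ(T'.left, ⊤)) ∘ alg T = alg T' := funext fun c => alg_comp t c
    rw [ha]
  have hA : A = Matrix.diagonal e := by
    refine Matrix.ext fun i j => ?_
    rcases eq_or_ne i j with rfl | hij
    · rw [Matrix.diagonal_apply_eq]
    rw [Matrix.diagonal_apply_ne _ hij]
    refine InvRing21.ext_val fun x => ?_
    rw [map_zero]
    have h1 := hP (mtx (iS ≫ r) x) ⟨x, rfl⟩ hij
    rw [← h1]
    show InvRing21.ptHom k ((A.map x.left.appTop) i j) = _
    rw [hnat x iS, Units.val_mul, Units.val_mul, mtx_apply, mtxFn_comp, coe_mtxFn, mtxMat]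
    have hp : (InvRing21.ptHom (k := k) k : _ → k) ∘ alg (VecGrp.pt k k) = id :=
      funext fun c => (InvRing21.ptHom k).commutes c
    show Matrix.map (Pm (VecGrp.pt k k) * mat ((x ≫ iS) ≫ r) * Qm (VecGrp.pt k k)) (InvRing21.ptHom k) i j = _
    simp only [Pm, Qm, Matrix.map_mul, Matrix.map_map, hp, Matrix.map_id]
  -- the separating point
  let D : Γ(S.left, ⊤) := ∏ p ∈ (Finset.univ.filter fun p : Fin n × Fin n => e p.1 ≠ e p.2), (e p.1 - e p.2)
  have hD : D ≠ 0 := Finset.prod_ne_zero_iff.2 fun p hp => sub_ne_zero.2 (Finset.mem_filter.1 hp).2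
  obtain ⟨x, hx⟩ := InvRing21.exists_val_ne_zero hD
  obtain ⟨s, rfl⟩ := exists_gpt x
  refine ⟨s, fun T g => ⟨fun hg T' t h => ?_, fun hg => ?_⟩⟩
  · let m := Pm T * mat (g ≫ r) * Qm T
    have hs : Pm T * mat ((toUnit T ≫ s ≫ iS) ≫ r) * Qm T =
        Matrix.diagonal fun j => alg T (InvRing21.val (gpt s) (e j)) := by
      have h1 : toUnit T ≫ s = InvRing21.toPt T ≫ gpt s := by
        rw [gpt, ← Category.assoc, comp_toUnit]
      rw [show toUnit T ≫ s ≫ iS = (InvRing21.toPt T ≫ gpt s) ≫ iS by rw [← h1, Category.assoc],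
        ← hnat, show Pm S * mat (iS ≫ r) * Qm S = A from rfl, hA, Matrix.diagonal_map (map_zero _)]
      congr 1
      funext j
      show ((InvRing21.toPt T ≫ gpt s).left.appTop) (e j) = _
      rw [Over.comp_left, Scheme.Hom.comp_appTop, CommRingCat.comp_apply]
      have hb : ∀ z, (InvRing21.toPt T).left.appTop z = alg T (InvRing21.ptHom (k := k) k z) := fun z => by
        have hk : z = alg (VecGrp.pt k k) (InvRing21.ptHom (k := k) k z) := by
          refine BorelFix21.ptHom_bijective.1 ?_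
          exact ((InvRing21.ptHom (k := k) k).commutes _).symm
        conv_lhs => rw [hk]
        exact alg_comp _ _
      exact hb _
    have hcomm : m * (Pm T * mat ((toUnit T ≫ s ≫ iS) ≫ r) * Qm T) =
        (Pm T * mat ((toUnit T ≫ s ≫ iS) ≫ r) * Qm T) * m := by
      have h1 := congrArg (fun z => mat (z ≫ r)) hg
      simp only [MonObj.mul_comp, mat_mul] at h1
      simp only [m, Matrix.mul_assoc]
      rw [← Matrix.mul_assoc (Qm T) (Pm T), hQP, Matrix.one_mul, ← Matrix.mul_assoc (Qm T) (Pm T), hQP,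
        Matrix.one_mul, ← Matrix.mul_assoc (mat (g ≫ r)), h1, Matrix.mul_assoc]
    rw [hs] at hcomm
    have hzero : ∀ i j, e i ≠ e j → m i j = 0 := fun i j hij => by
      have h1 := congrFun (congrFun hcomm i) j
      rw [Matrix.mul_diagonal, Matrix.diagonal_mul] at h1
      have hne : InvRing21.val (gpt s) (e i) - InvRing21.val (gpt s) (e j) ≠ 0 := by
        intro h0
        refine hx ?_
        rw [map_prod]
        exact Finset.prod_eq_zero (i := (i, j)) (by simp [hij]) (by rw [map_sub]; exact h0)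
      have h2 : (alg T (InvRing21.val (gpt s) (e i) - InvRing21.val (gpt s) (e j))) * m i j = 0 := by
        rw [map_sub, sub_mul, ← h1, mul_comm, sub_self]
      exact ((IsUnit.mk0 _ hne).map (alg T)).mul_right_eq_zero.1 h2
    refine (cancel_mono r).1 (mat_injective ?_)
    rw [MonObj.mul_comp, MonObj.mul_comp, mat_mul, mat_mul]
    have hm : (Pm T' * mat ((t ≫ g) ≫ r) * Qm T') = m.map t.left.appTop := (hnat t g).symm
    have hh : (Pm T' * mat ((h ≫ iS) ≫ r) * Qm T') = Matrix.diagonal fun j => h.left.appTop (e j) := by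
      rw [← hnat h iS, show Pm S * mat (iS ≫ r) * Qm S = A from rfl, hA, Matrix.diagonal_map (map_zero _)]
    have key : (Pm T' * mat ((t ≫ g) ≫ r) * Qm T') * (Pm T' * mat ((h ≫ iS) ≫ r) * Qm T') =
        (Pm T' * mat ((h ≫ iS) ≫ r) * Qm T') * (Pm T' * mat ((t ≫ g) ≫ r) * Qm T') := by
      rw [hm, hh]
      refine Matrix.ext fun i j => ?_
      rw [Matrix.mul_diagonal, Matrix.diagonal_mul, Matrix.map_apply]
      by_cases hij : e i = e j
      · rw [hij, mul_comm]
      · rw [hzero i j hij, map_zero, mul_zero, zero_mul]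
    have hQP' : ∀ z : Matrix (Fin n) (Fin n) Γ(T'.left, ⊤), Qm T' * (Pm T' * z) = z := fun z => by
      rw [← Matrix.mul_assoc, hQP, Matrix.one_mul]
    have k2 := congrArg (fun z => Qm T' * z * Pm T') key
    simp only [Matrix.mul_assoc, hQP, hQP', Matrix.mul_one] at k2
    exact k2
  · have := hg T (𝟙 T) (toUnit T ≫ s)
    rwa [Category.id_comp, Category.assoc] at this

end Groth.Agent.TorPts21
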