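import Groth.Agent.Lib.TorPts21.Cartan
import Groth.Agent.Lib.TorPts21.Sep
import Groth.Agent.Lib.VarDim.Fibre
import Groth.Agent.Lib.FibDim4.GenericFP

/-!
# The conjugates of the centraliser of a maximal torus are dense
-/

set_option autoImplicit false
set_option linter.style.haveILetI false
set_option backward.isDefEq.respectTransparency.types false
universe u

open CategoryTheory Limits MonoidalCategory CartesianMonoidalCategory MonObj AlgebraicGeometry
open Groth.Agent.DiagGL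

noncomputable section

namespace Groth.Agent.TorPts21

open MatGrp21

variable {k : Type u} [Field k] [IsAlgClosed k]

attribute [local instance] InvRing21.gamAlg

/-- Simultaneously diagonalisable matrices with a given characteristic polynomial form a finite set. -/
theorem finite_of_isDiag_charpoly {n : ℕ} (Q : GL (Fin n) k) (p : Polynomial k) (hp : p ≠ 0) :
    {g : GL (Fin n) k | ((Q * g * Q⁻¹ : GL (Fin n) k) : Matrix (Fin n) (Fin n) k).IsDiag ∧
      (g : Matrix (Fin n) (Fin n) k).charpoly = p}.Finite := by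
  classical
  let f : GL (Fin n) k → (Fin n → k) := fun g i => ((Q * g * Q⁻¹ : GL (Fin n) k) : Matrix (Fin n) (Fin n) k) i i
  refine Set.Finite.of_finite_image (f := f) ?_ ?_
  · refine (Set.Finite.pi' (t := fun _ : Fin n => (p.roots.toFinset : Set k)) fun _ => Finset.finite_toSet _).subset ?_
    rintro _ ⟨g, ⟨hd, hg⟩, rfl⟩ i
    have h1 : ((Q * g * Q⁻¹ : GL (Fin n) k) : Matrix (Fin n) (Fin n) k).charpoly = p := by
      rw [Units.val_mul, Units.val_mul, Matrix.coe_units_inv, Matrix.charpoly_units_conj]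
      exact hg
    rw [← (Matrix.isDiag_iff_diagonal_diag _).1 hd, Matrix.charpoly_diagonal] at h1
    rw [Finset.mem_coe, Multiset.mem_toFinset, Polynomial.mem_roots hp, ← h1, Polynomial.IsRoot,
      Polynomial.eval_prod]
    exact Finset.prod_eq_zero (Finset.mem_univ i) (by simp [f])
  · intro g hg g' hg' h
    have e : Q * g * Q⁻¹ = Q * g' * Q⁻¹ := by
      refine Units.ext ?_
      rw [← (Matrix.isDiag_iff_diagonal_diag _).1 hg.1, ← (Matrix.isDiag_iff_diagonal_diag _).1 hg'.1]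
      exact congrArg Matrix.diagonal h
    exact mul_left_cancel (mul_right_cancel e)

variable {G : Over (Spec (CommRingCat.of k))} [GrpObj G] [IsAffine G.left] [Smooth G.hom] [ConnectedSpace G.left]

/-- The point of a rational point. -/
def img' {X : Over (Spec (CommRingCat.of k))} (x : 𝟙_ (Over (Spec (CommRingCat.of k))) ⟶ X) : X.left :=
  x.left (IsLocalRing.closedPoint k)

theorem img_gpt {X : Over (Spec (CommRingCat.of k))} (x : 𝟙_ (Over (Spec (CommRingCat.of k))) ⟶ X) :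
    InvRing21.img (gpt x) = img' x :=
  congrArg x.left (Subsingleton.elim (α := PrimeSpectrum k) _ _)

theorem isClosed_img' {X : Over (Spec (CommRingCat.of k))} [LocallyOfFiniteType X.hom]
    (x : 𝟙_ (Over (Spec (CommRingCat.of k))) ⟶ X) : IsClosed ({img' x} : Set X.left) :=
  haveI : JacobsonSpace (Spec (CommRingCat.of k)) := inferInstance
  haveI hc : IsClosedImmersion x.left := isClosedImmersion_of_comp_eq_id X.hom x.left (Over.w x)
  (show Set.range x.left = {img' x} from Set.ext fun z =>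
    ⟨fun ⟨w, hw⟩ => hw ▸ congrArg x.left (Subsingleton.elim (α := PrimeSpectrum k) _ _),
      fun hz => ⟨IsLocalRing.closedPoint k, hz.symm⟩⟩) ▸ x.left.isClosedEmbedding.isClosed_range

/-- Conjugation `(x, c) ↦ x c x⁻¹`. -/
def conjMor {C : Over (Spec (CommRingCat.of k))} (i : C ⟶ G) : G ⊗ C ⟶ G :=
  fst G C * (snd G C ≫ i) * (fst G C)⁻¹

theorem comp_conjMor {C T : Over (Spec (CommRingCat.of k))} (i : C ⟶ G) (x : T ⟶ G) (c : T ⟶ C) :
    lift x c ≫ conjMor i = x * (c ≫ i) * x⁻¹ := by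
  simp only [conjMor, MonObj.comp_mul, GrpObj.comp_inv, lift_fst, lift_snd_assoc]

theorem irreducibleSpace_prod (A B : Over (Spec (CommRingCat.of k))) [GrpObj A] [GrpObj B] [Smooth A.hom]
    [Smooth B.hom] [ConnectedSpace A.left] [ConnectedSpace B.left] : IrreducibleSpace (A ⊗ B).left := by
  haveI := AbRigid.irreducibleSpace_of_isAlgClosed A
  haveI := AbRigid.geometricallyIrreducible_of_connected B
  exact inferInstanceAs (IrreducibleSpace ↥(Limits.pullback A.hom B.hom))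

/-- The product has at least the sum of the dimensions. -/
theorem sdim_add_le (A B : Over (Spec (CommRingCat.of k))) [GrpObj A] [GrpObj B] [Smooth A.hom]
    [Smooth B.hom] [IsAffine A.left] [IsAffine B.left] [IrreducibleSpace A.left] [IrreducibleSpace B.left]
    [IrreducibleSpace (A ⊗ B).left] :
    VarDim.sdim A.hom (genericPoint A.left) + VarDim.sdim B.hom (genericPoint B.left) ≤
      VarDim.sdim (A ⊗ B).hom (genericPoint (A ⊗ B).left) := by
  haveI : IsAffine (A ⊗ B).left := inferInstanceAs (IsAffine (Limits.pullback A.hom B.hom))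
  set ζ := genericPoint (A ⊗ B).left
  have hw : (snd A B).left ≫ B.hom = (A ⊗ B).hom := Over.w _
  haveI : LocallyOfFiniteType (A ⊗ B).hom :=
    inferInstanceAs (LocallyOfFiniteType (Limits.pullback.fst A.hom B.hom ≫ A.hom))
  haveI : LocallyOfFiniteType ((snd A B).left ≫ B.hom) := by rw [hw]; infer_instance
  haveI : LocallyOfFiniteType (snd A B).left := locallyOfFiniteType_of_comp _ B.hom
  obtain ⟨V, hζV, hV⟩ := VarDim.exists_opens_fibre_upper B.hom (snd A B).left ζ
  obtain ⟨c, hcV⟩ := BorelFix21.exists_pt_mem V.isOpen.isLocallyClosed ⟨_, hζV⟩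
  obtain ⟨c, rfl⟩ := exists_gpt c
  rw [img_gpt] at hcV
  let σ : A ⟶ A ⊗ B := lift (𝟙 A) (toUnit A ≫ c)
  have hσ2 : ∀ a, (snd A B).left (σ.left a) = img' c := fun a => by
    rw [OrbitTop19.apply_comp_left σ (snd A B) (toUnit A ≫ c) (lift_snd _ _), Over.comp_left, Scheme.Hom.comp_apply]
    exact congrArg c.left (Subsingleton.elim (α := PrimeSpectrum k) _ _)
  have h := hV (σ.left (genericPoint A.left)) (by rw [hσ2]; exact hcV) (genericPoint_specializes _)
  haveI : IsSplitMono σ.left := IsSplitMono.mk' ⟨(fst A B).left, by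
    rw [← Over.comp_left, lift_fst]; rfl⟩
  haveI : IsSeparated (fst A B).left := inferInstance
  haveI : IsClosedImmersion σ.left := by
    haveI : IsClosedImmersion (σ.left ≫ (fst A B).left) := by
      rw [← Over.comp_left, lift_fst]; exact inferInstanceAs (IsClosedImmersion (𝟙 A.left))
    exact IsClosedImmersion.of_comp σ.left (fst A B).left
  have e1 : VarDim.sdim (A ⊗ B).hom (σ.left (genericPoint A.left)) = VarDim.sdim A.hom (genericPoint A.left) := by
    rw [← VarDim.sdim_comp_of_surjective (A ⊗ B).hom σ.left]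
    congr 1
    exact Over.w σ
  have e2 : VarDim.sdim B.hom (img' c) = 0 := (VarDim.sdim_eq_zero_iff_isClosed _ _).2 (isClosed_img' c)
  have e3 : VarDim.sdim B.hom ((snd A B).left ζ) = VarDim.sdim B.hom (genericPoint B.left) := by
    congr 1
    have hsurj : ∀ b : B.left, ∃ z, (snd A B).left z = b := fun b => ⟨(lift (toUnit B ≫ η[A]) (𝟙 B)).left b,
      (OrbitTop19.apply_comp_left _ (snd A B) (𝟙 B) (lift_snd _ _) b).trans rfl⟩
    obtain ⟨z, hz⟩ := hsurj (genericPoint B.left)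
    have h1 : (snd A B).left ζ ⤳ genericPoint B.left :=
      hz ▸ (genericPoint_specializes z).map (snd A B).left.continuous
    exact (h1.antisymm (genericPoint_specializes _)).eq
  rw [hw, hσ2, e1, e2, e3, Nat.add_zero] at h
  exact h

set_option maxHeartbeats 1000000 in
/-- The conjugates of the identity component of the centraliser of a maximal torus contain a nonempty open set. -/
theorem exists_open_conj {T C : Over (Spec (CommRingCat.of k))} [GrpObj T] [GrpObj C] {iT : T ⟶ G}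
    (hT : AGF.IsMaxTorus iT) {c : C ⟶ G} (hc : Red.IsCentralizerOf iT c) :
    ∃ (C₀ : Over (Spec (CommRingCat.of k))) (_ : GrpObj C₀) (j : C₀ ⟶ C) (U : G.left.Opens),
      IsMonHom (j ≫ c) ∧ IsClosedImmersion (j ≫ c).left ∧ Smooth C₀.hom ∧ ConnectedSpace C₀.left ∧
        Red.IsSolvableGrp C₀ ∧ (U : Set G.left).Nonempty ∧
        ∀ x : 𝟙_ (Over (Spec (CommRingCat.of k))) ⟶ G, img' x ∈ U →
          ∃ (g : 𝟙_ (Over (Spec (CommRingCat.of k))) ⟶ G) (y : 𝟙_ (Over (Spec (CommRingCat.of k))) ⟶ C₀),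
            g * (y ≫ j ≫ c) * g⁻¹ = x := by
  classical
  haveI := hT.1
  haveI := hT.2.1
  obtain ⟨C₀, _, j, i₀, t, hjm, hjo, hCs, hCc, hi₀, hi₀m, hi₀c, ht, hsol⟩ := exists_centralizer_component hT hc
  subst hi₀
  haveI := hjm
  haveI := hjo
  haveI := hCs
  haveI := hCc
  haveI := hi₀m
  haveI := hi₀c
  obtain ⟨hcm, hci, hcs, hca⟩ := centralizer_props hT.2.2.1 hc
  haveI := hcm
  haveI := hci
  haveI := hcs
  haveI := hca
  haveI : Mono c := Over.mono_of_mono_left c
  obtain ⟨d, ⟨Ch⟩⟩ := exists_chars hT.2.2.1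
  obtain ⟨s, hs⟩ := exists_pt_centralizer iT hT.2.2.1
  obtain ⟨n, r, hr, hrc, hu⟩ := exists_upper_embedding (j ≫ c) hsol
  haveI := hr
  haveI := hrc
  haveI : IsClosedImmersion ((j ≫ c) ≫ r).left := by rw [Over.comp_left]; infer_instance
  haveI : IsAffine C₀.left := isAffine_of_isAffineHom (j ≫ c).left
  obtain ⟨D⟩ := nonempty_decomp hu (isClosed_range_mtx ((j ≫ c) ≫ r)) (isPreirreducible_range_mtx' ((j ≫ c) ≫ r))
  have hDT := decomp_eq_of_central r (j ≫ c) hu D hT t ht fun x y => by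
    rw [← Category.assoc]; exact centralizer_comm hc (x ≫ j) y
  obtain ⟨Q, hQ⟩ := range_mtx_diag Ch (iT ≫ r)
  set t₀ := mtxFn r (gpt s ≫ iT) with ht₀
  have ht₀mem : t₀ ∈ (mtx (iT ≫ r)).range := ⟨gpt s, by rw [mtx_apply, mtxFn_comp]⟩
  -- the finitely many conjugates of the point in the torus
  have hfin : {τ | τ ∈ (mtx (iT ≫ r)).range ∧ ∃ x : VecGrp.pt k k ⟶ G,
      τ = mtxFn r x⁻¹ * t₀ * (mtxFn r x⁻¹)⁻¹}.Finite := by
    refine (finite_of_isDiag_charpoly Q _ (Matrix.charpoly_monic (t₀ : Matrix (Fin n) (Fin n) k)).ne_zero).subset ?_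
    rintro τ ⟨hτ, x, rfl⟩
    refine ⟨hQ _ hτ, ?_⟩
    rw [Units.val_mul, Units.val_mul, Matrix.coe_units_inv, Matrix.charpoly_units_conj]
  obtain ⟨F, hF⟩ := hfin.exists_finset_coe
  have hwit : ∀ τ : F, ∃ (x : VecGrp.pt k k ⟶ G) (y : VecGrp.pt k k ⟶ C₀), (τ : GL (Fin n) k) = mtxFn r (y ≫ j ≫ c) ∧
      x * (y ≫ j ≫ c) * x⁻¹ = gpt s ≫ iT := fun τ => by
    obtain ⟨hτ, x, hx⟩ : (τ : GL (Fin n) k) ∈ {τ | τ ∈ (mtx (iT ≫ r)).range ∧ ∃ x : VecGrp.pt k k ⟶ G,
        τ = mtxFn r x⁻¹ * t₀ * (mtxFn r x⁻¹)⁻¹} := by rw [← hF]; exact τ.2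
    obtain ⟨z, hz⟩ := hτ
    refine ⟨x, z ≫ t, ?_, mtxFn_injective r ?_⟩
    · rw [← hz, mtx_apply, mtxFn_comp, Category.assoc, ht]
    · rw [Category.assoc, ht, ← mtx_apply r, map_mul, map_mul, map_inv, mtx_apply, mtx_apply,
        show mtxFn r (z ≫ iT) = τ by rw [← hz, mtx_apply, mtxFn_comp], hx, ← ht₀, ← mtx_apply r, ← mtx_apply r,
        map_inv, inv_inv]
      group
  choose xw yw hyw hxw using hwit
  obtain ⟨W, hW⟩ := InvRing21.exists_finite_cosets j
  let φ := conjMor (j ≫ c)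
  let σ : W × F → (C₀ ⟶ G ⊗ C₀) := fun p =>
    lift (((InvRing21.toPt C₀ ≫ (p.1 : VecGrp.pt k k ⟶ C))⁻¹ * j) ≫ c * (InvRing21.toPt C₀ ≫ xw p.2))
      (InvRing21.toPt C₀ ≫ yw p.2)
  have hcover : ∀ q : VecGrp.pt k k ⟶ G ⊗ C₀, q ≫ φ = gpt s ≫ iT →
      ∃ (p : W × F) (z : VecGrp.pt k k ⟶ C₀), z ≫ σ p = q := by
    intro q hq
    obtain ⟨x, y, rfl⟩ : ∃ x y, lift x y = q := ⟨q ≫ fst G C₀, q ≫ snd G C₀,
      CartesianMonoidalCategory.hom_ext _ _ (lift_fst _ _) (lift_snd _ _)⟩
    rw [comp_conjMor] at hq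
    have hy : mtxFn r (y ≫ j ≫ c) = mtxFn r x⁻¹ * t₀ * (mtxFn r x⁻¹)⁻¹ := by
      rw [ht₀, ← mtx_apply r, ← mtx_apply r, ← mtx_apply r, ← hq, map_mul, map_mul, map_inv]
      group
    have hyM : mtxFn r (y ≫ j ≫ c) ∈ (mtx ((j ≫ c) ≫ r)).range := ⟨y, by rw [mtx_apply, mtxFn_comp]⟩
    have hyT : mtxFn r (y ≫ j ≫ c) ∈ (mtx (iT ≫ r)).range := by
      rw [← hDT]
      refine D.mem_of_diag hyM (fun τ hτ => ?_) (Q := Q * (mtxFn r x⁻¹)⁻¹) ?_
      · rw [hDT] at hτ
        obtain ⟨z, rfl⟩ := hτ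
        rw [mtx_comp, ← mtx_apply r]
        exact Commute.map (show Commute (y ≫ j ≫ c) (z ≫ iT) by
          rw [← Category.assoc]; exact centralizer_comm hc (y ≫ j) z) (mtx r)
      · have := hQ t₀ ht₀mem
        rw [hy]
        convert this using 2
        group
    have hmemF : mtxFn r (y ≫ j ≫ c) ∈ F := Finset.mem_coe.1 (hF.symm ▸ ⟨hyT, x, hy⟩)
    let τ : F := ⟨_, hmemF⟩
    haveI : Mono (j ≫ c) := Over.mono_of_mono_left _
    have hyτ : y = yw τ := (cancel_mono (j ≫ c)).1 (mtxFn_injective r (hyw τ))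
    -- `x (xw τ)⁻¹` centralises the point
    have hcomm : (x * (xw τ)⁻¹) * (gpt s ≫ iT) = (gpt s ≫ iT) * (x * (xw τ)⁻¹) := by
      have h1 := hxw τ
      rw [← hyτ] at h1
      calc (x * (xw τ)⁻¹) * (gpt s ≫ iT) = (x * (xw τ)⁻¹) * (xw τ * (y ≫ j ≫ c) * (xw τ)⁻¹) := by rw [h1]
        _ = (x * (y ≫ j ≫ c) * x⁻¹) * (x * (xw τ)⁻¹) := by group
        _ = _ := by rw [hq]
    obtain ⟨z, hz⟩ := (hc.2.2 _ (x * (xw τ)⁻¹)).2 ((hs _ (x * (xw τ)⁻¹)).1 (by
      rw [show toUnit (VecGrp.pt k k) ≫ s ≫ iT = gpt s ≫ iT by rw [gpt, Category.assoc]]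
      exact hcomm))
    obtain ⟨w, hw, z₀, hz₀⟩ := hW z
    refine ⟨(⟨w, hw⟩, τ), z₀, CartesianMonoidalCategory.hom_ext _ _ ?_ ?_⟩
    · show (z₀ ≫ lift _ _) ≫ fst G C₀ = lift x y ≫ fst G C₀
      rw [Category.assoc, lift_fst, lift_fst, MonObj.comp_mul, ← Category.assoc, MonObj.comp_mul, GrpObj.comp_inv,
        ← Category.assoc, InvRing21.comp_toPt, InvRing21.toPt_pt, Category.id_comp, ← Category.assoc,
        InvRing21.comp_toPt, InvRing21.toPt_pt, Category.id_comp, hz₀, inv_mul_cancel_left, hz, inv_mul_cancel_right]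
    · rw [Category.assoc, lift_snd, lift_snd, ← Category.assoc, InvRing21.comp_toPt, InvRing21.toPt_pt,
        Category.id_comp, hyτ]
  -- dimensions
  haveI := AbRigid.irreducibleSpace_of_isAlgClosed G
  haveI := AbRigid.irreducibleSpace_of_isAlgClosed C₀
  haveI := irreducibleSpace_prod G C₀
  haveI : IsAffine (G ⊗ C₀).left := inferInstanceAs (IsAffine (Limits.pullback G.hom C₀.hom))
  haveI : Smooth (G ⊗ C₀).hom := inferInstanceAs (Smooth (Limits.pullback.fst G.hom C₀.hom ≫ G.hom))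
  have hφw : φ.left ≫ G.hom = (G ⊗ C₀).hom := Over.w φ
  haveI : LocallyOfFiniteType (φ.left ≫ G.hom) := by rw [hφw]; infer_instance
  haveI : LocallyOfFiniteType φ.left := locallyOfFiniteType_of_comp _ G.hom
  haveI : JacobsonSpace (G ⊗ C₀).left := LocallyOfFiniteType.jacobsonSpace (G ⊗ C₀).hom
  set t₁ : G.left := img' (s ≫ iT)
  have ht₁ : IsClosed ({t₁} : Set G.left) := isClosed_img' _
  have hfibre : φ.left ⁻¹' {t₁} ⊆ closure (⋃ p : W × F, Set.range (σ p).left) := by
    intro z hz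
    by_contra hzc
    obtain ⟨q, hq⟩ := BorelFix21.exists_pt_mem (G := G ⊗ C₀)
      ((ht₁.preimage φ.left.continuous).isLocallyClosed.inter isClosed_closure.isOpen_compl.isLocallyClosed)
      ⟨z, hz, hzc⟩
    obtain ⟨q, rfl⟩ := exists_gpt q
    rw [img_gpt] at hq
    have he : gpt q ≫ φ = gpt s ≫ iT := by
      have hid : ∀ x : 𝟙_ (Over (Spec (CommRingCat.of k))) ⟶ G, x.left ≫ G.hom = 𝟙 _ := fun x => Over.w x
      have : q ≫ φ = s ≫ iT := Over.OverMorphism.ext
        (ext_of_apply_closedPoint_eq G.hom (hid _) (hid _) hq.1)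
      rw [gpt, gpt, Category.assoc, this, Category.assoc]
    obtain ⟨p, y, hy⟩ := hcover (gpt q) he
    refine hq.2 (subset_closure (Set.mem_iUnion.2 ⟨p, InvRing21.img y, ?_⟩))
    rw [← img_gpt, ← hy]
    rfl
  have hdimfib : ∀ z : (G ⊗ C₀).left, φ.left z = t₁ →
      VarDim.sdim (G ⊗ C₀).hom z ≤ VarDim.sdim C₀.hom (genericPoint C₀.left) := by
    intro z hz
    have h1 := hfibre hz
    rw [closure_iUnion_of_finite, Set.mem_iUnion] at h1
    obtain ⟨p, hp⟩ := h1
    have h2 : (σ p).left (genericPoint C₀.left) ⤳ z := by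
      rw [specializes_iff_mem_closure]
      refine closure_minimal ?_ isClosed_closure hp
      rintro _ ⟨y, rfl⟩
      exact ((genericPoint_specializes y).map (σ p).left.continuous).mem_closure
    have h3 : VarDim.sdim (G ⊗ C₀).hom ((σ p).left (genericPoint C₀.left)) ≤
        VarDim.sdim C₀.hom (genericPoint C₀.left) := by
      have hσw : (σ p).left ≫ (G ⊗ C₀).hom = C₀.hom := Over.w _
      haveI : LocallyOfFiniteType ((σ p).left ≫ (G ⊗ C₀).hom) := by rw [hσw]; infer_instance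
      haveI : LocallyOfFiniteType (σ p).left := locallyOfFiniteType_of_comp _ (G ⊗ C₀).hom
      have h := VarDim.sdim_le_comp (G ⊗ C₀).hom (σ p).left (genericPoint C₀.left)
      rwa [hσw] at h
    refine le_trans ?_ h3
    rcases eq_or_ne ((σ p).left (genericPoint C₀.left)) z with rfl | hne
    · exact le_rfl
    · exact (VarDim.sdim_lt_of_specializes _ h2 hne).le
  let q₀ : 𝟙_ (Over (Spec (CommRingCat.of k))) ⟶ G ⊗ C₀ := lift 1 (s ≫ t)
  have hq₀ : φ.left (img' q₀) = t₁ := by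
    refine OrbitTop19.apply_comp_left q₀ φ (s ≫ iT) ?_ _
    rw [comp_conjMor, Category.assoc, ht, inv_one, _root_.one_mul (s ≫ iT), _root_.mul_one (s ≫ iT)]
  obtain ⟨z, -, hzx, hzt, hineq⟩ := VarDim.exists_fibre_lower G.hom φ.left
    (genericPoint_specializes (img' q₀))
  rw [hφw, hq₀, (VarDim.sdim_eq_zero_iff_isClosed G.hom t₁).2 ht₁, Nat.add_zero] at hineq
  have hgen : φ.left (genericPoint (G ⊗ C₀).left) = genericPoint G.left := by
    by_contra hne
    have h1 := VarDim.sdim_lt_of_specializes G.hom (genericPoint_specializes _) (Ne.symm hne)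
    have h2 := hdimfib z (hzt.trans hq₀)
    have h3 := sdim_add_le G C₀
    omega
  have hcons : Topology.IsConstructible (Set.range φ.left) := by
    haveI : IsLocallyNoetherian G.left := LocallyOfFiniteType.isLocallyNoetherian G.hom
    haveI : QuasiCompact φ.left := inferInstance
    haveI : LocallyOfFinitePresentation φ.left := inferInstance
    rw [← Set.image_univ]
    exact Scheme.Hom.isConstructible_image φ.left .univ
  obtain ⟨O, hO, hηO, hOsub⟩ := FibDim4.exists_open_subset_of_isConstructible hcons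
    (fun U hU hne => (genericPoint_specializes hne.some).mem_open hU hne.some_mem) ⟨_, hgen⟩
  refine ⟨C₀, inferInstance, j, ⟨O, hO⟩, inferInstance, inferInstance, hCs, hCc, hsol, ⟨_, hηO⟩, fun x hx => ?_⟩
  obtain ⟨z, hz⟩ := hOsub hx
  obtain ⟨q, hq⟩ := BorelFix21.exists_pt_mem (G := G ⊗ C₀)
    ((isClosed_img' x).preimage φ.left.continuous).isLocallyClosed ⟨z, hz⟩
  obtain ⟨q, rfl⟩ := exists_gpt q
  rw [img_gpt] at hq
  have he : q ≫ φ = x := Over.OverMorphism.ext (ext_of_apply_closedPoint_eq G.hom (Over.w _) (Over.w _) hq)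
  refine ⟨q ≫ fst G C₀, q ≫ snd G C₀, ?_⟩
  rw [← comp_conjMor, show lift (q ≫ fst G C₀) (q ≫ snd G C₀) = q from
    CartesianMonoidalCategory.hom_ext _ _ (lift_fst _ _) (lift_snd _ _), he]

end Groth.Agent.TorPts21
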