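import Groth.Agent.Lib.TorPts21.Luna
import Groth.Agent.Lib.TorPts21.CartanBorel
import Groth.Agent.S3938

/-!
# The maximal tori of a reductive group are their own centralisers
-/

set_option autoImplicit false
set_option linter.style.haveILetI false
set_option backward.isDefEq.respectTransparency.types false
universe u

open CategoryTheory Limits MonoidalCategory CartesianMonoidalCategory MonObj AlgebraicGeometry

noncomputable section

namespace Groth.Agent.TorPts21

open MatGrp21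

attribute [local instance] BorelFix21.ptsTop

variable {k : Type u} [Field k] [IsAlgClosed k] {G T : Over (Spec (CommRingCat.of k))} [GrpObj G] [GrpObj T]

variable [IsAffine G.left] [Smooth G.hom] [ConnectedSpace G.left] {U : Over (Spec (CommRingCat.of k))} [GrpObj U]

set_option maxHeartbeats 800000 in
/-- The rational points of a Cartan subgroup are products of points of the torus and of the unipotent radical. -/
theorem exists_pt_cartan_decomp {u : U ⟶ G} (hU : Par.IsUnipotentRadical u) {iT : T ⟶ G} (hT : AGF.IsMaxTorus iT)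
    {C : Over (Spec (CommRingCat.of k))} [GrpObj C] {c : C ⟶ G} (hc : Red.IsCentralizerOf iT c)
    (z : VecGrp.pt k k ⟶ C) :
    ∃ (y : VecGrp.pt k k ⟶ T) (w : VecGrp.pt k k ⟶ U), z ≫ c = (y ≫ iT) * (w ≫ u) := by
  haveI := hT.1
  haveI := hT.2.1
  obtain ⟨hcm, hci, hcs, hca⟩ := centralizer_props hT.2.2.1 hc
  haveI := hcm
  haveI := hci
  haveI := hcs
  haveI := hca
  haveI hconn := connectedSpace_centralizer_closed hT.2.2.1 hc
  haveI : Mono c := Over.mono_of_mono_left c
  obtain ⟨d, ⟨Ch⟩⟩ := exists_chars hT.2.2.1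
  obtain ⟨tC, htC, htm⟩ := exists_lift_centralizer hc (fun x y => commute_of_chars Ch x y)
  haveI := htm
  haveI : Mono (tC ≫ c) := htC.symm ▸ hT.2.1
  haveI : Mono tC := mono_of_mono tC c
  have hT' : AGF.IsMaxTorus tC := ⟨htm, inferInstance, hT.2.2.1, fun T' _ j _ _ f hT' hf =>
    hT.2.2.2 T' (j ≫ c) f hT' (by rw [← Category.assoc, hf, htC])⟩
  have hcent : ∀ {X : Over (Spec (CommRingCat.of k))} (x : X ⟶ C) (y : X ⟶ T),
      x * (y ≫ tC) = (y ≫ tC) * x := fun x y => (cancel_mono c).1 (by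
    rw [MonObj.mul_comp, MonObj.mul_comp, Category.assoc y, htC]
    exact centralizer_comm hc x y)
  have hsol : Red.IsSolvableGrp C := isSolvableGrp_of_central_maxTorus hT' hcent
  obtain ⟨n, r, hr, hrc, hu⟩ := exists_upper_embedding (𝟙 C) hsol
  haveI := hr
  haveI := hrc
  haveI : IsClosedImmersion (𝟙 C : C ⟶ C).left := inferInstanceAs (IsClosedImmersion (𝟙 C.left))
  obtain ⟨V, _, v, hvm, hvc, hvs, hvn, -, hns, hvpts⟩ := exists_unip_part r (𝟙 C) hu
  haveI := hvm
  haveI := hvc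
  haveI := hvs
  haveI := hvn
  haveI : IsClosedImmersion (v ≫ c).left := by rw [Over.comp_left]; infer_instance
  obtain ⟨f, hf⟩ := exists_lift_unipotentRadical hU hT (v ≫ c) hns fun B' _ iB' t hB' ht => by
    obtain ⟨f, hf⟩ := exists_lift_cartan_closed hT hc hB' t ht
    exact ⟨v ≫ f, by rw [Category.assoc, hf]⟩
  haveI : IsClosedImmersion (𝟙 C ≫ r).left := by rw [Category.id_comp]; infer_instance
  obtain ⟨D⟩ := nonempty_decomp hu (isClosed_range_mtx (𝟙 C ≫ r)) (isPreirreducible_range_mtx' (𝟙 C ≫ r))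
  have hDT := decomp_eq_of_central r (𝟙 C) hu D hT' tC (Category.comp_id _)
    fun x y => by rw [Category.comp_id]; exact hcent x y
  obtain ⟨τ, hτ, hu'⟩ := D.exists_mem _ ⟨z, rfl⟩
  obtain ⟨y, hy⟩ := hDT ▸ hτ
  have hz : mtx (𝟙 C ≫ r) ((y ≫ tC)⁻¹ * z) ∈ lay 1 := by
    rw [map_mul, map_inv, show mtx (𝟙 C ≫ r) (y ≫ tC) = τ by
      rw [← hy, mtx_comp, mtx_comp, Category.comp_id]]
    exact hu'
  obtain ⟨w, hw⟩ := (hvpts _).2 hz
  refine ⟨y, w ≫ f, ?_⟩
  rw [Category.assoc, hf, ← htC, ← Category.assoc w, ← Category.assoc y, ← MonObj.mul_comp, hw, mul_inv_cancel_left]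

omit [GrpObj T] [GrpObj U] in
/-- A group of points containing the points of a nonempty open set is everything. -/
theorem eq_top_of_open (P : Subgroup (VecGrp.pt k k ⟶ G)) (O : G.left.Opens) (hne : (O : Set G.left).Nonempty)
    (hsub : ∀ x : VecGrp.pt k k ⟶ G, InvRing21.img x ∈ O → x ∈ P) : P = ⊤ := by
  haveI : IrreducibleSpace G.left := AbRigid.irreducibleSpace_of_isAlgClosed G
  let O' : Set (VecGrp.pt k k ⟶ G) := InvRing21.img ⁻¹' (O : Set G.left)
  have hO' : IsOpen O' := isOpen_induced O.isOpen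
  obtain ⟨a, ha⟩ : O'.Nonempty := BorelFix21.exists_pt_mem O.isOpen.isLocallyClosed hne
  refine Subgroup.ext fun x => ⟨fun _ => trivial, fun _ => ?_⟩
  have h2 : IsOpen {y : VecGrp.pt k k ⟶ G | x * y ∈ O'} := hO'.preimage (BorelFix21.continuous_mul_left x)
  obtain ⟨y, -, hy, hxy⟩ := isPreirreducible_pts (X := G) O' _ hO' h2 ⟨a, trivial, ha⟩
    ⟨x⁻¹ * a, trivial, by rw [Set.mem_setOf_eq, mul_inv_cancel_left]; exact ha⟩
  have h3 := Subgroup.mul_mem _ (hsub _ hxy) (Subgroup.inv_mem _ (hsub _ hy))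
  rwa [mul_inv_cancel_right] at h3

set_option maxHeartbeats 800000 in
/-- A normal group of points containing a maximal torus and the unipotent radical is everything. -/
theorem eq_top_of_cartan {u : U ⟶ G} (hU : Par.IsUnipotentRadical u) {iT : T ⟶ G} (hT : AGF.IsMaxTorus iT)
    (P : Subgroup (VecGrp.pt k k ⟶ G)) [P.Normal]
    (hTP : ∀ t : VecGrp.pt k k ⟶ T, t ≫ iT ∈ P) (hUP : ∀ w : VecGrp.pt k k ⟶ U, w ≫ u ∈ P) : P = ⊤ := by
  haveI := hT.1
  obtain ⟨C, _, c, hc, -, -⟩ :=
    MTRigid29.exists_centralizer (MTRigid29.isMT_of_ft (isMultTypeFT_of_isTorus hT.2.2.1)) ‹_› inferInstance iT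
  obtain ⟨O, hne, hO⟩ := Groth.Agent.S3938.result k G T iT hT C c hc
  have hsub : ∀ x : VecGrp.pt k k ⟶ G, InvRing21.img x ∈ O → x ∈ P := fun x hx => by
    obtain ⟨x₀, rfl⟩ := exists_gpt x
    obtain ⟨g, y, h⟩ := hO x₀ (by
      convert hx using 1
      exact congrArg x₀.left (Subsingleton.elim (α := Spec (CommRingCat.of k)) _ _))
    obtain ⟨t, w, hy⟩ := exists_pt_cartan_decomp hU hT hc (gpt y)
    have hx' : gpt x₀ = gpt g * ((t ≫ iT) * (w ≫ u)) * (gpt g)⁻¹ := by
      rw [← hy, ← h, gpt, gpt, gpt, MonObj.comp_mul, MonObj.comp_mul, GrpObj.comp_inv, Category.assoc]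
    rw [hx']
    exact Subgroup.Normal.conj_mem inferInstance _ (Subgroup.mul_mem _ (hTP t) (hUP w)) _
  exact eq_top_of_open P O hne hsub

omit [IsAffine G.left] [Smooth G.hom] [ConnectedSpace G.left] [GrpObj U] in
/-- The centraliser of a maximal torus of a reductive group is that torus. -/
theorem exists_lift_cartan_reductive (hG : Red.IsReductiveOver k G) {iT : T ⟶ G} (hT : AGF.IsMaxTorus iT)
    {C : Over (Spec (CommRingCat.of k))} [GrpObj C] {c : C ⟶ G} (hc : Red.IsCentralizerOf iT c) :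
    ∃ f : C ⟶ T, f ≫ iT = c := by
  obtain ⟨hGa, hGs, hGc, hGu⟩ := hG
  haveI := hGa
  haveI := hGs
  haveI := hGc
  haveI := hT.1
  haveI := hT.2.1
  obtain ⟨hcm, hci, hcs, hca⟩ := centralizer_props hT.2.2.1 hc
  haveI := hcs
  haveI := hca
  haveI := isClosedImmersion_of_torus hT.2.2.1 iT
  obtain ⟨U, _, u, hU, -⟩ := exists_unipotentRadical_connected G
  obtain ⟨hum, huc, hun, hus, -, hucon, huns, -⟩ := (isUnipotentRadical_iff u).1 hU
  haveI := hum
  haveI : IsIso U.hom := hGu U u huc hus hucon hun huns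
  refine exists_lift_of_pts iT c fun z => ?_
  obtain ⟨y, w, h⟩ := exists_pt_cartan_decomp hU hT hc z
  have hw1 : w = 1 := Over.OverMorphism.ext (by rw [← cancel_mono U.hom, Over.w, Over.w])
  exact ⟨y, by rw [h, hw1, MonObj.one_comp, _root_.mul_one]⟩

end Groth.Agent.TorPts21
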