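import Groth.Agent.Lib.TorPts21.UnipBorel

/-!
# The unipotent radical of a connected group over an algebraically closed field
-/

set_option autoImplicit false
set_option linter.style.haveILetI false
set_option backward.isDefEq.respectTransparency.types false
universe u

open CategoryTheory Limits MonoidalCategory CartesianMonoidalCategory MonObj AlgebraicGeometry

noncomputable section

namespace Groth.Agent.TorPts21

open MatGrp21

attribute [local instance] InvRing21.gamAlg BorelFix21.ptsTop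

variable {k : Type u} [Field k] [IsAlgClosed k]

omit [IsAlgClosed k] in
theorem pt_end_eq_id (w : VecGrp.pt k k ⟶ VecGrp.pt k k) : w = 𝟙 _ := by
  have hpt : (VecGrp.pt k k).hom = 𝟙 (Spec (CommRingCat.of k)) := by
    show Spec.map (CommRingCat.ofHom (algebraMap k k)) = 𝟙 _
    rw [show CommRingCat.ofHom (algebraMap k k) = 𝟙 _ from rfl, Spec.map_id]
  haveI : Mono (VecGrp.pt k k).hom := by rw [hpt]; exact (inferInstance : IsSplitMono (𝟙 _)).mono
  refine Over.OverMorphism.ext ?_
  rw [← cancel_mono (VecGrp.pt k k).hom, Over.w, Over.id_left, Category.id_comp]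

/-- A subgroup normalised by the rational points of a smooth group is normal. -/
theorem isNormalHom_of_pts {G U : Over (Spec (CommRingCat.of k))} [GrpObj G] [GrpObj U] [IsAffine G.left]
    [Smooth G.hom] (u : U ⟶ G) [IsClosedImmersion u.left] [Smooth U.hom]
    (h : ∀ (g : VecGrp.pt k k ⟶ G) (x : VecGrp.pt k k ⟶ U), ∃ y, y ≫ u = g * (x ≫ u) * g⁻¹) :
    AlgGrp.IsNormalHom u := by
  haveI : IsAffine U.left := isAffine_of_isAffineHom u.left
  haveI : Smooth (G ⊗ U).hom := inferInstanceAs (Smooth (pullback.fst G.hom U.hom ≫ G.hom))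
  haveI : IsAffine (G ⊗ U).left := inferInstanceAs (IsAffine (pullback G.hom U.hom))
  obtain ⟨c, hc⟩ := exists_lift_of_pts u (fst G U * (snd G U ≫ u) * (fst G U)⁻¹) fun w => by
    rw [MonObj.comp_mul, MonObj.comp_mul, GrpObj.comp_inv, ← Category.assoc]
    exact h _ _
  intro T g x
  refine ⟨lift g x ≫ c, ?_⟩
  rw [Category.assoc, hc, MonObj.comp_mul, MonObj.comp_mul, GrpObj.comp_inv, lift_fst, lift_snd_assoc]

set_option maxHeartbeats 800000 in
/-- The largest connected normal subgroup without subtori absorbs every connected subgroup without subtori all of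
whose conjugates lie in a given connected solvable subgroup. -/
theorem exists_unipotent_core {G B : Over (Spec (CommRingCat.of k))} [GrpObj G] [GrpObj B] [IsAffine G.left]
    [Smooth G.hom] (iB : B ⟶ G) [IsMonHom iB] [IsClosedImmersion iB.left] [Smooth B.hom] [ConnectedSpace B.left]
    (hsol : Red.IsSolvableGrp B) :
    ∃ (U : Over (Spec (CommRingCat.of k))) (_ : GrpObj U) (u : U ⟶ G) (_ : IsMonHom u),
      IsClosedImmersion u.left ∧ Smooth U.hom ∧ ConnectedSpace U.left ∧ AlgGrp.IsNormalHom u ∧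
      Red.HasNoSubtorus k U ∧
      ∀ (H : Over (Spec (CommRingCat.of k))) [GrpObj H] (j : H ⟶ G) [IsMonHom j], IsClosedImmersion j.left →
        Smooth H.hom → ConnectedSpace H.left → Red.HasNoSubtorus k H →
        (∀ (g : VecGrp.pt k k ⟶ G) (h : VecGrp.pt k k ⟶ H),
          ∃ b : VecGrp.pt k k ⟶ B, b ≫ iB = g * (h ≫ j) * g⁻¹) →
        ∃ f : H ⟶ U, f ≫ u = j := by
  haveI : IsAffine B.left := isAffine_of_isAffineHom iB.left
  obtain ⟨n, r, hr, hrc, hu⟩ := exists_upper_embedding iB hsol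
  haveI := hr
  haveI := hrc
  haveI : IsClosedImmersion (iB ≫ r).left := by rw [Over.comp_left]; infer_instance
  let N : Subgroup (GL (Fin n) k) := (mtx (iB ≫ r)).range ⊓ lay 1
  have hN : IsClosed (N : Set (GL (Fin n) k)) := isClosed_inf (isClosed_range_mtx (iB ≫ r)) (isClosed_lay 1)
  let P : Subgroup (VecGrp.pt k k ⟶ G) :=
    ⨅ g : VecGrp.pt k k ⟶ G, N.comap ((mtx r).comp (MulAut.conj g).toMonoidHom)
  have hPmem : ∀ x, x ∈ P ↔ ∀ g : VecGrp.pt k k ⟶ G, mtx r (g * x * g⁻¹) ∈ N := fun x => by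
    simp [P, Subgroup.mem_iInf]
  have hP : IsClosed (P : Set (VecGrp.pt k k ⟶ G)) := by
    have he : (P : Set (VecGrp.pt k k ⟶ G)) = ⋂ g, (fun x => mtxFn r (g * x * g⁻¹)) ⁻¹' N := by
      ext x
      simp only [SetLike.mem_coe, hPmem, Set.mem_iInter, Set.mem_preimage, mtx_apply]
    rw [he]
    exact isClosed_iInter fun g => hN.preimage ((continuous_mtxFn r).comp
      ((BorelFix21.continuous_mul_right g⁻¹).comp (BorelFix21.continuous_mul_left g)))
  obtain ⟨U, _, u, hum, huc, hus, hun, hupts, hall⟩ := exists_component_of_pts P hP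
  haveI := hum
  haveI := huc
  haveI := hus
  haveI := hun
  haveI : IsAffine U.left := isAffine_of_isAffineHom u.left
  have hnorm : AlgGrp.IsNormalHom u := by
    refine isNormalHom_of_pts u fun g x => ?_
    obtain ⟨g₀, hg₀⟩ := exists_gpt g
    haveI := isMonHom_conjBy g₀ u
    obtain ⟨f, hf⟩ := hall U (AGF.conjBy g₀ u) fun y => (hPmem _).2 fun h => by
      have hy := (hPmem _).1 (hupts y) (h * g)
      rw [show h * (y ≫ AGF.conjBy g₀ u) * h⁻¹ = (h * g) * (y ≫ u) * (h * g)⁻¹ by
        rw [comp_conjBy, show toUnit (VecGrp.pt k k) ≫ g₀ = g from hg₀]; group]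
      exact hy
    exact ⟨x ≫ f, by rw [Category.assoc, hf, comp_conjBy, show toUnit (VecGrp.pt k k) ≫ g₀ = g from hg₀]⟩
  have hns : Red.HasNoSubtorus k U := by
    haveI : IsClosedImmersion (u ≫ r).left := by rw [Over.comp_left]; infer_instance
    refine hasNoSubtorus_of_range_le_lay (u ≫ r) ?_
    rintro _ ⟨y, rfl⟩
    have hy := (hPmem _).1 (hupts y) 1
    rw [_root_.one_mul, inv_one, _root_.mul_one, ← mtx_comp] at hy
    exact hy.2
  refine ⟨U, inferInstance, u, hum, huc, hus, hun, hnorm, hns, fun H _ j _ hjc hjs hjn hH hall' => ?_⟩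
  haveI := hjc
  haveI := hjs
  haveI := hjn
  haveI : IsAffine H.left := isAffine_of_isAffineHom j.left
  refine hall H j fun y => (hPmem _).2 fun g => ?_
  obtain ⟨g₀, hg₀⟩ := exists_gpt g
  haveI := isMonHom_conjBy g₀ j
  haveI := isClosedImmersion_conjBy g₀ j
  haveI : IsClosedImmersion (AGF.conjBy g₀ j ≫ r).left := by rw [Over.comp_left]; infer_instance
  have hc : ∀ z, ∃ b : VecGrp.pt k k ⟶ B, b ≫ iB = z ≫ AGF.conjBy g₀ j := fun z => by
    rw [comp_conjBy, show toUnit (VecGrp.pt k k) ≫ g₀ = g from hg₀]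
    exact hall' g z
  have hVu : (mtx (AGF.conjBy g₀ j ≫ r)).range ≤ upper := by
    rintro _ ⟨z, rfl⟩
    obtain ⟨b, hb⟩ := hc z
    refine hu ⟨b, ?_⟩
    rw [mtx_comp, mtx_comp, hb]
  have hl := range_le_lay_of_hasNoSubtorus (AGF.conjBy g₀ j ≫ r) hVu hH
  have hz : y ≫ AGF.conjBy g₀ j = g * (y ≫ j) * g⁻¹ := by
    rw [comp_conjBy, show toUnit (VecGrp.pt k k) ≫ g₀ = g from hg₀]
  obtain ⟨b, hb⟩ := hall' g y
  exact ⟨⟨b, by rw [mtx_comp, hb]⟩, hl ⟨y, by rw [mtx_comp, hz]⟩⟩

/-- A connected group has a largest connected normal subgroup without subtori, its unipotent radical; it is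
stable under conjugation by any rational point of an overgroup normalising the group. -/
theorem exists_unipotentRadical_connected (G : Over (Spec (CommRingCat.of k))) [GrpObj G] [IsAffine G.left]
    [Smooth G.hom] [ConnectedSpace G.left] :
    ∃ (U : Over (Spec (CommRingCat.of k))) (_ : GrpObj U) (u : U ⟶ G), Par.IsUnipotentRadical u ∧
      ∀ (V : Over (Spec (CommRingCat.of k))) [GrpObj V] (v : V ⟶ G) [IsMonHom v], IsClosedImmersion v.left →
        Smooth V.hom → ConnectedSpace V.left → AlgGrp.IsNormalHom v → Red.HasNoSubtorus k V →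
          ∃ f : V ⟶ U, f ≫ u = v := by
  obtain ⟨B, _, iB, hB, -⟩ := BorelFix21.exists_isBorelOver G
  obtain ⟨hm, hc, hs, hn, hsol, -⟩ := id hB
  haveI := hm
  haveI := hc
  haveI := hs
  haveI := hn
  obtain ⟨U, _, u, hum, huc, hus, hun, hnorm, hns, hall⟩ := exists_unipotent_core iB hsol
  haveI := huc
  haveI : IsAffine U.left := isAffine_of_isAffineHom u.left
  have huniv : ∀ (V : Over (Spec (CommRingCat.of k))) [GrpObj V] (v : V ⟶ G) [IsMonHom v], IsClosedImmersion v.left →
      Smooth V.hom → ConnectedSpace V.left → AlgGrp.IsNormalHom v → Red.HasNoSubtorus k V →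
        ∃ f : V ⟶ U, f ≫ u = v := by
    intro V _ v _ hvc hvs hvn hvnorm hV
    haveI := hvc
    haveI := hvs
    haveI := hvn
    haveI : IsAffine V.left := isAffine_of_isAffineHom v.left
    obtain ⟨f, hf⟩ := exists_lift_of_normal_solvable v (isSolvableGrp_of_hasNoSubtorus V hV) hvnorm iB hB
    refine hall V v hvc hvs hvn hV fun g y => ?_
    obtain ⟨y', hy'⟩ := hvnorm _ g y
    exact ⟨y' ≫ f, by rw [Category.assoc, hf, hy']⟩
  refine ⟨U, inferInstance, u, (isUnipotentRadical_iff u).2 ⟨hum, huc, hnorm, hus, inferInstance, hun, hns, ?_⟩, huniv⟩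
  exact fun V _ v _ hvc hvnorm hvs _ hvn hV => huniv V v hvc hvs hvn hvnorm hV

end Groth.Agent.TorPts21
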