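import Groth.Agent.Lib.InvRing21.Semi
import Groth.Agent.Lib.BorelFix21.Pts

/-!
# Extending a power of a character through the determinant on a weight space of a central subgroup
-/

set_option autoImplicit false
set_option linter.style.haveILetI false
set_option backward.isDefEq.respectTransparency.types false
universe u

open CategoryTheory MonoidalCategory CartesianMonoidalCategory MonObj AlgebraicGeometry

noncomputable section

namespace Groth.Agent.TorPts21

open InvRing21

variable {k : Type u} [Field k] [IsAlgClosed k]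

attribute [local instance] InvRing21.gamAlg

variable {G S : Over (Spec (CommRingCat.of k))} [GrpObj G] [IsAffine G.left] [Smooth G.hom]

/-- If a function is semi-invariant under a central subgroup with some weight, a positive power of the weight extends
to a character of the whole group. -/
theorem exists_det_char (j : S ⟶ G) (l : (VecGrp.pt k k ⟶ S) → k)
    (hcent : ∀ (s : VecGrp.pt k k ⟶ S) (g : VecGrp.pt k k ⟶ G), (s ≫ j) * g = g * (s ≫ j))
    {f : Γ(G.left, ⊤)} (hf : Semi j l f) (hf0 : f ≠ 0) :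
    ∃ (m : ℕ) (ψ : Γ(G.left, ⊤)), 0 < m ∧ val (1 : VecGrp.pt k k ⟶ G) ψ = 1 ∧
      (∀ g h : VecGrp.pt k k ⟶ G, val (g * h) ψ = val g ψ * val h ψ) ∧ ∀ s, val (s ≫ j) ψ = l s ^ m := by
  classical
  obtain ⟨W, hWf, hfW, hWs⟩ := exists_stable_span (regular G) ({f} : Finset Γ(G.left, ⊤))
  haveI := hWf
  haveI : Module.Free k W := Module.Free.of_divisionRing _ _
  let e := Module.finBasis k W
  obtain ⟨ξ, -, hexp, hE⟩ := exists_coords (regular G) hWs e
  have hRW : ∀ g, ∀ w ∈ W, (rTr g).left.appTop w ∈ W := fun g w hw => by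
    have hR : ∀ b, (rTr g).left.appTop (e b : Γ(G.left, ⊤)) =
        ∑ a, val g (coef (regular G) (ξ a) (e b)) • (e a : Γ(G.left, ⊤)) := fun b => ext_val fun x => by
      rw [val_rTr, val_mul_coords e hE x g b, map_sum]
      simp
    have key : ∀ z : W, (InvRing21.appAlg (rTr g)).toLinearMap z ∈ W := fun z => by
      rw [← e.sum_repr z, Submodule.coe_sum, map_sum]
      refine Submodule.sum_mem _ fun b _ => ?_
      rw [SetLike.val_smul, map_smul]
      refine W.smul_mem _ ?_
      show (rTr g).left.appTop (e b : Γ(G.left, ⊤)) ∈ W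
      rw [hR b]
      exact Submodule.sum_mem _ fun a _ => W.smul_mem _ (e a).2
    exact key ⟨w, hw⟩
  let V : Submodule k Γ(G.left, ⊤) :=
    { carrier := {w | w ∈ W ∧ ∀ x s, val (x * (s ≫ j)) w = l s * val x w}
      add_mem' := fun {a b} ha hb => ⟨W.add_mem ha.1 hb.1, fun x s => by
        rw [map_add, map_add, ha.2, hb.2, mul_add]⟩
      zero_mem' := ⟨W.zero_mem, fun x s => by rw [map_zero, map_zero, mul_zero]⟩
      smul_mem' := fun c w hw => ⟨W.smul_mem c hw.1, fun x s => by
        rw [map_smul, map_smul, hw.2, smul_eq_mul, smul_eq_mul, mul_left_comm]⟩ }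
  have hfV : f ∈ V := ⟨hfW f (Finset.mem_singleton_self f), hf⟩
  haveI : Module.Finite k V := Submodule.finiteDimensional_of_le (S₂ := W) fun w hw => hw.1
  haveI : Nontrivial V := ⟨⟨⟨f, hfV⟩, 0, fun h => hf0 (congrArg Subtype.val h)⟩⟩
  haveI : Module.Free k V := Module.Free.of_divisionRing _ _
  have hRV : ∀ g, ∀ w ∈ V, (InvRing21.appAlg (rTr g)).toLinearMap w ∈ V := fun g w hw => ⟨hRW g w hw.1, fun x s => by
    show val (x * (s ≫ j)) ((rTr g).left.appTop w) = l s * val x ((rTr g).left.appTop w)
    rw [val_rTr, val_rTr, _root_.mul_assoc x, hcent, ← _root_.mul_assoc x, hw.2]⟩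
  let R : (VecGrp.pt k k ⟶ G) → Module.End k V := fun g =>
    (InvRing21.appAlg (rTr g)).toLinearMap.restrict (hRV g)
  have hR : ∀ g (v : V) x, val x (R g v).1 = val (x * g) v.1 := fun g v x => val_rTr x g v.1
  have hR1 : R 1 = 1 := by
    refine LinearMap.ext fun v => Subtype.ext (ext_val fun x => ?_)
    rw [hR, _root_.mul_one x]
    rfl
  have hRmul : ∀ g h, R (g * h) = R g * R h := fun g h => LinearMap.ext fun v => Subtype.ext (ext_val fun x => by
    rw [hR, Module.End.mul_apply, hR, hR, _root_.mul_assoc x])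
  let ev : (VecGrp.pt k k ⟶ G) → Module.Dual k V := fun x => (val x).toLinearMap ∘ₗ V.subtype
  have hspan : Submodule.span k (Set.range ev) = ⊤ := Submodule.span_eq_top_of_ne_zero fun z hz => by
    obtain ⟨x, hx⟩ := exists_val_ne_zero (fun h => hz (Subtype.ext h) : (z : Γ(G.left, ⊤)) ≠ 0)
    exact ⟨ev x, ⟨x, rfl⟩, hx⟩
  have hcoef : ∀ (v : V) (φ : Module.Dual k V), ∃ F, ∀ g, φ (R g v) = val g F := fun v φ => by
    have hφ : φ ∈ Submodule.span k (Set.range ev) := hspan ▸ Submodule.mem_top
    induction hφ using Submodule.span_induction with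
    | zero => exact ⟨0, fun g => by simp⟩
    | add φ ψ _ _ h h' =>
      obtain ⟨F, hF⟩ := h
      obtain ⟨F', hF'⟩ := h'
      exact ⟨F + F', fun g => by rw [LinearMap.add_apply, hF, hF', map_add]⟩
    | smul c φ _ h =>
      obtain ⟨F, hF⟩ := h
      exact ⟨c • F, fun g => by rw [LinearMap.smul_apply, hF, map_smul]⟩
    | mem φ h =>
      obtain ⟨x, rfl⟩ := h
      refine ⟨(lTr x).left.appTop v.1, fun g => ?_⟩
      show val x (R g v).1 = _
      rw [hR, val_lTr]
  let d := Module.finBasis k V
  choose F hF using fun a b => hcoef (d b) (d.coord a)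
  let Cm : Matrix (Fin (Module.finrank k V)) (Fin (Module.finrank k V)) Γ(G.left, ⊤) := Matrix.of F
  have hdet : ∀ g, val g Cm.det = LinearMap.det (R g) := fun g => by
    rw [AlgHom.map_det, ← LinearMap.det_toMatrix d]
    congr 1
    ext a b
    rw [AlgHom.mapMatrix_apply, Matrix.map_apply, LinearMap.toMatrix_apply]
    exact (hF a b g).symm
  refine ⟨Module.finrank k V, Cm.det, Module.finrank_pos, ?_, fun g h => ?_, fun s => ?_⟩
  · rw [hdet, hR1, map_one]
  · rw [hdet, hdet, hdet, hRmul, map_mul]
  · rw [hdet, show R (s ≫ j) = l s • (LinearMap.id : V →ₗ[k] V) from ?_, LinearMap.det_smul, LinearMap.det_id,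
      _root_.mul_one]
    refine LinearMap.ext fun v => Subtype.ext (ext_val fun x => ?_)
    rw [hR, v.2.2]
    simp

end Groth.Agent.TorPts21
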