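import Groth.Agent.Lib.MatGrp21.Tri
import Mathlib.FieldTheory.IsAlgClosed.Basic

/-!
# Regular characters are trivial on unipotent elements
-/

set_option autoImplicit false
universe u

open Polynomial

noncomputable section

namespace Groth.Agent.TorPts21

open MatGrp21

variable {k : Type u} [Field k] [IsAlgClosed k] {n : ℕ}

/-- A regular character of a closed subgroup is trivial on unipotent elements. -/
theorem eq_one_of_isUnip {U : Subgroup (GL (Fin n) k)} (hU : IsClosed (U : Set (GL (Fin n) k)))
    {F : GL (Fin n) k → k} (hF : IsReg F) (hmul : ∀ a ∈ U, ∀ b ∈ U, F (a * b) = F a * F b)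
    (hne : ∀ a ∈ U, F a ≠ 0) {g : GL (Fin n) k} (hgU : g ∈ U) (hg : IsUnip g) : F g = 1 := by
  have h1 : F 1 = 1 := by
    have := hmul 1 U.one_mem 1 U.one_mem
    rw [mul_one] at this
    exact (mul_eq_left₀ (hne 1 U.one_mem)).1 this.symm
  obtain ⟨p, hp⟩ := CharP.exists k
  rcases CharP.char_is_prime_or_zero k p with hpp | rfl
  · have := Fact.mk hpp
    have hpow : ∀ m : ℕ, F (g ^ m) = F g ^ m := fun m => by
      induction m with
      | zero => rw [pow_zero, pow_zero, h1]
      | succ m ih => rw [pow_succ, pow_succ, hmul _ (U.pow_mem hgU m) _ hgU, ih]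
    have h2 := hpow (p ^ n)
    rw [pow_ringChar_pow hg p, h1] at h2
    have : (F g - 1) ^ p ^ n = 0 := by rw [sub_pow_char_pow, one_pow, ← h2, sub_self]
    exact sub_eq_zero.1 (eq_zero_of_pow_eq_zero this)
  · have : CharZero k := CharP.charP_to_charZero k
    obtain ⟨P, N, hP⟩ := hF
    let q : k[X] := MvPolynomial.eval₂ C (fun x => powPoly g x.1 x.2) P
    have hq : ∀ t : k, ∀ h : GL (Fin n) k, h ∈ U → (h : Matrix (Fin n) (Fin n) k) = powAt g t → q.eval t = F h := by
      intro t h _ hh
      have hd : (h : Matrix (Fin n) (Fin n) k).det = 1 := by rw [hh, det_powAt hg]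
      have := hP h
      rw [hd, one_pow, mul_one] at this
      rw [this]
      show evalRingHom t (MvPolynomial.eval₂ C (fun x => powPoly g x.1 x.2) P) = _
      rw [MvPolynomial.eval₂_comp_left, show (evalRingHom t).comp C = RingHom.id k from RingHom.ext fun c => by simp]
      congr 1
      funext x
      show eval t (powPoly g x.1 x.2) = (h : Matrix (Fin n) (Fin n) k) x.1 x.2
      rw [hh]
      rfl
    have hroot : ∀ t, ¬ q.IsRoot t := fun t ht => by
      obtain ⟨h, hhU, hh⟩ := exists_powAt_mem hU hgU hg t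
      exact hne h hhU ((hq t h hhU hh).symm.trans ht)
    have hdeg : q.degree = 0 := by
      by_contra hne0
      obtain ⟨t, ht⟩ := IsAlgClosed.exists_root q hne0
      exact hroot t ht
    obtain ⟨c, hc⟩ : ∃ c, q = C c := ⟨_, eq_C_of_degree_eq_zero hdeg⟩
    have e1 := hq 1 g hgU (by rw [← Nat.cast_one, powAt_nat hg, pow_one])
    have e0 := hq 0 1 U.one_mem (by rw [← Nat.cast_zero, powAt_nat hg, pow_zero])
    rw [← e1, hc, eval_C]
    rw [hc, eval_C, h1] at e0
    exact e0

end Groth.Agent.TorPts21
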