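import Groth.Agent.Lib.TorPts21.Max
import Groth.Agent.Lib.TorPts21.UnipChar
import Groth.Agent.Lib.TorPts21.DetChar
import Groth.Agent.Lib.MTRigid29.CentralizerNormalizer
import Groth.Agent.Lib.BorelFix21.Parabolic
import Groth.Agent.Lib.BorelFix21.NoComplete
import Groth.Agent.Lib.InvRing21.Line
import Groth.Agent.S11189

/-!
# The identity component of the centraliser of a maximal torus is solvable
-/

set_option autoImplicit false
set_option linter.style.haveILetI false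
set_option backward.isDefEq.respectTransparency.types false
universe u

open CategoryTheory Limits MonoidalCategory CartesianMonoidalCategory MonObj AlgebraicGeometry
open Groth.Agent.DiagGL

noncomputable section

namespace Groth.Agent.TorPts21

open MatGrp21

attribute [local instance] InvRing21.gamAlg

section Props

variable {k : Type u} [Field k] {G T C : Over (Spec (CommRingCat.of k))} [GrpObj G] [GrpObj T] [GrpObj C]
  {iT : T ⟶ G} {c : C ⟶ G}

theorem isMultTypeFT_of_isTorus {S : Scheme.{u}} {T : Over S} [GrpObj T] (hT : Red.IsTorus T) :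
    SGA3x.IsMultTypeFT T := by
  obtain ⟨S', f, h1, h2, h3, h4⟩ := hT
  refine ⟨S', f, h1, h2, h3, fun s => ?_⟩
  obtain ⟨U, hU, r, h⟩ := h4 s
  exact ⟨U, hU, Fin r → ℤ, inferInstance, AddGroup.fg_iff_addMonoid_fg.2 inferInstance, h⟩

/-- The centraliser of a torus in a smooth affine group is closed and smooth. -/
theorem centralizer_props [IsAffine G.left] [Smooth G.hom] [IsMonHom iT] (hT : Red.IsTorus T)
    (hc : Red.IsCentralizerOf iT c) : IsMonHom c ∧ IsClosedImmersion c.left ∧ Smooth C.hom ∧ IsAffine C.left := by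
  obtain ⟨Z, _, j, hj, hjc, hZ⟩ :=
    MTRigid29.exists_centralizer (MTRigid29.isMT_of_ft (isMultTypeFT_of_isTorus hT)) ‹_› inferInstance iT
  obtain ⟨hcm, hcmono, hcu⟩ := hc
  obtain ⟨-, hjmono, hju⟩ := hj
  haveI := hcmono
  haveI := hjmono
  obtain ⟨f, hf⟩ := (hju C c).2 ((hcu C c).1 ⟨𝟙 C, Category.id_comp c⟩)
  obtain ⟨g, hg⟩ := (hcu Z j).2 ((hju Z j).1 ⟨𝟙 Z, Category.id_comp j⟩)
  haveI : IsIso f := ⟨g, (cancel_mono c).1 (by rw [Category.assoc, hg, hf, Category.id_comp]),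
    (cancel_mono j).1 (by rw [Category.assoc, hf, hg, Category.id_comp])⟩
  haveI : IsIso f.left := inferInstanceAs (IsIso ((Over.forget _).map f))
  haveI : IsClosedImmersion c.left := by
    rw [← hf, Over.comp_left]; infer_instance
  refine ⟨hcm, inferInstance, ?_, isAffine_of_isAffineHom c.left⟩
  rw [← Over.w f]
  infer_instance

omit [GrpObj T] in
theorem centralizer_comm (hc : Red.IsCentralizerOf iT c) {X : Over (Spec (CommRingCat.of k))} (z : X ⟶ C)
    (h : X ⟶ T) : (z ≫ c) * (h ≫ iT) = (h ≫ iT) * (z ≫ c) := by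
  have := (hc.2.2 _ (z ≫ c)).1 ⟨z, rfl⟩ _ (𝟙 _) h
  rwa [Category.id_comp] at this

theorem exists_lift_centralizer (hc : Red.IsCentralizerOf iT c) [IsMonHom iT] [IsMonHom c] [Mono c]
    (hT : ∀ {X : Over (Spec (CommRingCat.of k))} (x y : X ⟶ T), Commute x y) :
    ∃ t : T ⟶ C, t ≫ c = iT ∧ IsMonHom t := by
  obtain ⟨t, ht⟩ := (hc.2.2 T iT).2 fun X x h => by
    rw [← MonObj.mul_comp, ← MonObj.mul_comp, (hT x h).eq]
  exact ⟨t, ht, BorelFix21.isMonHom_of_comp c t (ht.symm ▸ ‹IsMonHom iT›)⟩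

end Props

variable {k : Type u} [Field k] [IsAlgClosed k] {G : Over (Spec (CommRingCat.of k))} [GrpObj G] [IsAffine G.left]

/-- When the torus is central its standard conjugate is itself. -/
theorem decomp_eq_of_central {n : ℕ} (r : G ⟶ GLs k n) [IsMonHom r] [IsClosedImmersion r.left]
    {B : Over (Spec (CommRingCat.of k))} [GrpObj B] (iB : B ⟶ G) [IsMonHom iB] [IsClosedImmersion iB.left]
    (hu : (mtx (iB ≫ r)).range ≤ upper) (D : Decomp (mtx (iB ≫ r)).range)
    {T : Over (Spec (CommRingCat.of k))} [GrpObj T] {iT : T ⟶ G} [IsMonHom iT] (hT : AGF.IsMaxTorus iT) (t : T ⟶ B)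
    (ht : t ≫ iB = iT) (hcent : ∀ (x : VecGrp.pt k k ⟶ B) (y : VecGrp.pt k k ⟶ T),
      (x ≫ iB) * (y ≫ iT) = (y ≫ iT) * (x ≫ iB)) : D.T = (mtx (iT ≫ r)).range := by
  obtain ⟨u, ⟨⟨x, rfl⟩, -⟩, hu'⟩ := exists_conj_eq r iB hu D hT t ht
  rw [← hu']
  refine Eq.trans ?_ (Subgroup.map_id _)
  ext g
  simp only [Subgroup.mem_map, MulEquiv.coe_toMonoidHom, MulAut.conj_apply, MonoidHom.id_apply]
  have key : ∀ a ∈ (mtx (iT ≫ r)).range, mtx (iB ≫ r) x * a * (mtx (iB ≫ r) x)⁻¹ = a := by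
    rintro _ ⟨y, rfl⟩
    rw [mtx_comp, mtx_comp, ← map_mul, hcent x y, map_mul, mul_inv_cancel_right]
  exact ⟨fun ⟨a, ha, e⟩ => ⟨a, ha, by rw [← e, key a ha]⟩, fun ⟨a, ha, e⟩ => ⟨a, ha, by rw [key a ha, e]⟩⟩

variable [Smooth G.hom]

set_option maxHeartbeats 1000000 in
/-- A connected group with a central maximal torus is solvable. -/
theorem isSolvableGrp_of_central_maxTorus [ConnectedSpace G.left] {T : Over (Spec (CommRingCat.of k))} [GrpObj T]
    {iT : T ⟶ G} (hT : AGF.IsMaxTorus iT)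
    (hcent : ∀ {X : Over (Spec (CommRingCat.of k))} (x : X ⟶ G) (y : X ⟶ T), x * (y ≫ iT) = (y ≫ iT) * x) :
    Red.IsSolvableGrp G := by
  haveI := hT.1
  haveI := hT.2.1
  obtain ⟨B, _, b, t, hB, ht⟩ := exists_borel_containing iT hT.2.2.1
  obtain ⟨hm, hcl, hs, hn, hsol, -⟩ := id hB
  haveI := hm
  haveI := hcl
  haveI := hs
  haveI := hn
  haveI : IsAffine B.left := isAffine_of_isAffineHom b.left
  haveI : Mono b := Over.mono_of_mono_left b
  obtain ⟨n, r, hr, hrc, hu⟩ := exists_upper_embedding b hsol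
  haveI := hr
  haveI := hrc
  haveI : IsClosedImmersion (b ≫ r).left := by rw [Over.comp_left]; infer_instance
  obtain ⟨D⟩ := nonempty_decomp hu (isClosed_range_mtx (b ≫ r)) (isPreirreducible_range_mtx' (b ≫ r))
  have hDT := decomp_eq_of_central r b hu D hT t ht fun x y => hcent _ y
  obtain ⟨X, a, o, hX, -, -⟩ := GrassAct21.exists_quotient_affine b
  haveI : IsProper X.hom := BorelFix21.isProper_of_borel_le hX (𝟙 B) (by rw [Category.id_comp]; exact hB)
  haveI hqa : X.left.IsQuasiAffine := by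
    refine (Groth.Agent.S11189.result k G B b X a o hX).1 (InvRing21.observable_of_inverse fun χ hχ f hf hf1 => ?_)
    haveI := hχ
    have hf0 : f ≠ 0 := fun h => one_ne_zero (α := k) (by rw [← hf1, h, map_zero])
    let l : (VecGrp.pt k k ⟶ B) → k := fun h => InvRing21.val h (Red.gmFn χ)
    have hfl : InvRing21.Semi b l f := hf
    obtain ⟨hl1, hlm⟩ := hfl.mult (by rw [hf1]; exact one_ne_zero)
    have hl0 := hfl.ne_zero (by rw [hf1]; exact one_ne_zero)
    obtain ⟨m, ψ, hm0, hψ1, hψm, hψT⟩ := exists_det_char (t ≫ b) (fun s => l (s ≫ t))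
      (fun s g => by rw [ht]; exact (hcent g s).symm) (f := f)
      (fun x s => by rw [← Category.assoc]; exact hfl x (s ≫ t)) hf0
    have hψinv : ∀ g : VecGrp.pt k k ⟶ G, InvRing21.val g⁻¹ ψ * InvRing21.val g ψ = 1 := fun g => by
      rw [← hψm, inv_mul_cancel, hψ1]
    -- the character and the extension agree
    have hagree : ∀ h : VecGrp.pt k k ⟶ B, InvRing21.val (h ≫ b) ψ = l h ^ m := by
      let Φ : Γ(B.left, ⊤) := b.left.appTop ψ * (((𝟙 B)⁻¹ : B ⟶ B).left.appTop (Red.gmFn χ)) ^ m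
      obtain ⟨q, hq⟩ := exists_eq_appTop (b ≫ r) Φ
      have hΦ : ∀ h, evalGL (mtxFn (b ≫ r) h) q = InvRing21.val (h ≫ b) ψ * l h⁻¹ ^ m := fun h => by
        rw [← val_eq_evalGL, hq, map_mul, map_pow, InvRing21.appTop_val, InvRing21.appTop_val, GrpObj.comp_inv,
          Category.comp_id]
      let F : GL (Fin n) k → k := fun g => evalGL g q
      have hlinv : ∀ h, l h⁻¹ = (l h)⁻¹ := fun h => by
        refine eq_inv_of_mul_eq_one_left ?_
        rw [← hlm, mul_inv_cancel, hl1]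
      have hFv : ∀ h, F (mtx (b ≫ r) h) = InvRing21.val (h ≫ b) ψ * (l h)⁻¹ ^ m := fun h => by
        rw [← hlinv]; exact hΦ h
      have hFmul : ∀ h h', F (mtx (b ≫ r) h * mtx (b ≫ r) h') = F (mtx (b ≫ r) h) * F (mtx (b ≫ r) h') := fun h h' => by
        rw [← map_mul, hFv, hFv, hFv, MonObj.mul_comp, hψm, hlm, mul_inv, mul_pow]
        ring
      intro h
      suffices F (mtx (b ≫ r) h) = 1 by
        rw [hFv, inv_pow] at this
        exact (mul_inv_eq_one₀ (pow_ne_zero _ (hl0 h))).1 this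
      obtain ⟨τ, hτ, hu'⟩ := D.exists_mem _ ⟨h, rfl⟩
      obtain ⟨y, hy⟩ := hDT ▸ hτ
      have hτ' : τ = mtx (b ≫ r) (y ≫ t) := by
        rw [← hy, mtx_comp, mtx_comp, Category.assoc, ht]
      obtain ⟨hu'', hu'2⟩ : τ⁻¹ * mtx (b ≫ r) h ∈ (mtx (b ≫ r)).range ∧ τ⁻¹ * mtx (b ≫ r) h ∈ lay 1 :=
        ⟨Subgroup.mul_mem _ (Subgroup.inv_mem _ ⟨_, hτ'.symm⟩) ⟨h, rfl⟩, hu'⟩
      have hF1 : F (τ⁻¹ * mtx (b ≫ r) h) = 1 := eq_one_of_isUnip
        (U := (mtx (b ≫ r)).range ⊓ lay 1) (isClosed_inf (isClosed_range_mtx (b ≫ r)) (isClosed_lay 1))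
        (isReg_evalGL q)
        (by rintro _ ⟨⟨h₁, rfl⟩, -⟩ _ ⟨⟨h₂, rfl⟩, -⟩; exact hFmul h₁ h₂)
        (by
          rintro _ ⟨⟨h₁, rfl⟩, -⟩
          show F _ ≠ 0
          rw [hFv]
          exact mul_ne_zero (fun h0 => one_ne_zero (α := k) (by rw [← hψinv (h₁ ≫ b), h0, mul_zero]))
            (pow_ne_zero _ (inv_ne_zero (hl0 h₁))))
        ⟨hu'', hu'2⟩ (isUnip_of_mem_lay hu'2)
      obtain ⟨v, hv⟩ := hu''
      have e : mtx (b ≫ r) h = mtx (b ≫ r) (y ≫ t) * mtx (b ≫ r) v := by rw [hv, ← hτ', mul_inv_cancel_left]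
      rw [e, hFmul, show F (mtx (b ≫ r) v) = 1 by rw [hv]; exact hF1, _root_.mul_one, hFv, Category.assoc,
        hψT, inv_pow, mul_inv_cancel₀ (pow_ne_zero _ (hl0 _))]
    refine ⟨f ^ (m - 1) * ((𝟙 G)⁻¹ : G ⟶ G).left.appTop ψ, fun x h => ?_, ?_⟩
    · simp only [map_mul, map_pow, InvRing21.appTop_val, GrpObj.comp_inv, Category.comp_id]
      rw [hfl x h, mul_pow, mul_inv_rev, hψm]
      have h1 := hψinv (h ≫ b)
      rw [hagree h] at h1
      have h2 : InvRing21.val (h ≫ b)⁻¹ ψ = ((l h) ^ m)⁻¹ := eq_inv_of_mul_eq_one_left h1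
      rw [h2]
      show _ = (l h)⁻¹ * _
      obtain ⟨p, rfl⟩ : ∃ p, m = p + 1 := ⟨m - 1, by omega⟩
      rw [Nat.add_sub_cancel, pow_succ (l h) p, mul_inv]
      have := pow_ne_zero p (hl0 h)
      field_simp
    · simp only [map_mul, map_pow, InvRing21.appTop_val, GrpObj.comp_inv, Category.comp_id]
      rw [hf1, one_pow, _root_.one_mul, inv_one, hψ1]
      exact one_ne_zero
  haveI : IsProper (𝟙 X.left ≫ X.hom) := by rw [Category.id_comp]; infer_instance
  haveI := BorelFix21.finite_of_isProper_quasiAffine (𝟙 X.left) X.hom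
  obtain ⟨hlft, -, hsurj, -⟩ := id hX
  haveI := hlft
  haveI := hsurj
  haveI : JacobsonSpace X.left := LocallyOfFiniteType.jacobsonSpace X.hom
  haveI : PreconnectedSpace X.left :=
    (a.orbitMap o).left.surjective.denseRange.preconnectedSpace (a.orbitMap o).left.continuous
  haveI : Subsingleton X.left := PreconnectedSpace.trivial_of_discrete
  have hpt : (VecGrp.pt k k).hom = 𝟙 (Spec (CommRingCat.of k)) := by
    show Spec.map (CommRingCat.ofHom (algebraMap k k)) = 𝟙 _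
    rw [show CommRingCat.ofHom (algebraMap k k) = 𝟙 _ from rfl, Spec.map_id]
  haveI : IsClosedImmersion (𝟙 G : G ⟶ G).left := inferInstanceAs (IsClosedImmersion (𝟙 G.left))
  obtain ⟨f, hf⟩ := exists_lift_of_pts b (𝟙 G) fun x => by
    have he : (1 : VecGrp.pt k k ⟶ G) ≫ a.orbitMap o = x ≫ a.orbitMap o :=
      Over.OverMorphism.ext (ext_of_apply_closedPoint_eq X.hom ((Over.w _).trans hpt) ((Over.w _).trans hpt)
        (Subsingleton.elim _ _))
    obtain ⟨h, hh⟩ := (BorelFix21.orbit_eq_iff hX (1 : VecGrp.pt k k ⟶ G) x).1 he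
    exact ⟨h, by rw [Category.comp_id, hh, _root_.one_mul]⟩
  haveI : IsIso b := ⟨f, (cancel_mono b).1 (by rw [Category.assoc, hf, Category.comp_id, Category.id_comp]), hf⟩
  exact BorelFix21.isSolvableGrp_of_isIso b hsol

/-- The identity component of the centraliser of a maximal torus. -/
theorem exists_centralizer_component {T C : Over (Spec (CommRingCat.of k))} [GrpObj T] [GrpObj C] {iT : T ⟶ G}
    (hT : AGF.IsMaxTorus iT) {c : C ⟶ G} (hc : Red.IsCentralizerOf iT c) :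
    ∃ (C₀ : Over (Spec (CommRingCat.of k))) (_ : GrpObj C₀) (j : C₀ ⟶ C) (i₀ : C₀ ⟶ G) (t : T ⟶ C₀),
      IsMonHom j ∧ IsOpenImmersion j.left ∧ Smooth C₀.hom ∧ ConnectedSpace C₀.left ∧ j ≫ c = i₀ ∧ IsMonHom i₀ ∧
        IsClosedImmersion i₀.left ∧ t ≫ i₀ = iT ∧ Red.IsSolvableGrp C₀ := by
  haveI := hT.1
  haveI := hT.2.1
  obtain ⟨hTa, hTs, hTc, -⟩ := props_of_isTorus hT.2.2.1
  haveI := hTc
  obtain ⟨hcm, hci, hcs, hca⟩ := centralizer_props hT.2.2.1 hc
  haveI := hcm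
  haveI := hci
  haveI := hcs
  haveI := hca
  haveI : Mono c := Over.mono_of_mono_left c
  obtain ⟨d, ⟨Ch⟩⟩ := exists_chars hT.2.2.1
  obtain ⟨t, ht, htm⟩ := exists_lift_centralizer hc (fun x y => commute_of_chars Ch x y)
  haveI := htm
  obtain ⟨C₀, _, j, hjm, hjo, hjc⟩ := BorelFix21.exists_identity_component C
  haveI := hjm
  haveI := hjo
  haveI := hjc
  haveI : IsClosedImmersion j.left := InvRing21.isClosedImmersion_of_open_subgroup j
  haveI : Smooth C₀.hom := by rw [← Over.w j]; infer_instance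
  obtain ⟨t₀, ht₀⟩ := BorelFix21.exists_lift_component j j.left.isClosedEmbedding.isClosed_range t
  haveI hi₀ : IsClosedImmersion (j ≫ c).left := by rw [Over.comp_left]; infer_instance
  haveI : IsAffine C₀.left := isAffine_of_isAffineHom j.left
  refine ⟨C₀, inferInstance, j, j ≫ c, t₀, hjm, hjo, inferInstance, hjc, rfl, inferInstance, hi₀,
    by rw [← ht, ← ht₀, Category.assoc], ?_⟩
  haveI : Mono j := Over.mono_of_mono_left j
  haveI : IsMonHom t₀ := BorelFix21.isMonHom_of_comp j t₀ (ht₀.symm ▸ htm)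
  haveI : Mono (t₀ ≫ j ≫ c) := by rw [← Category.assoc, ht₀, ht]; exact hT.2.1
  haveI : Mono t₀ := mono_of_mono t₀ (j ≫ c)
  have hT' : AGF.IsMaxTorus t₀ := ⟨inferInstance, inferInstance, hT.2.2.1, fun T' _ s _ _ f hT'' hf => by
    haveI := isClosedImmersion_of_torus hT'' s
    haveI : IsClosedImmersion (s ≫ j ≫ c).left := by rw [Over.comp_left]; infer_instance
    haveI : Mono (s ≫ j ≫ c) := Over.mono_of_mono_left _
    exact hT.2.2.2 T' (s ≫ j ≫ c) f hT'' (by rw [← Category.assoc, hf, ← Category.assoc, ht₀, ht])⟩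
  refine isSolvableGrp_of_central_maxTorus hT' fun x y => ?_
  haveI : Mono (j ≫ c) := Over.mono_of_mono_left _
  refine (cancel_mono (j ≫ c)).1 ?_
  rw [MonObj.mul_comp, MonObj.mul_comp, show (y ≫ t₀) ≫ j ≫ c = y ≫ iT by
    rw [Category.assoc, ← Category.assoc t₀, ht₀, ht], ← Category.assoc x j c]
  exact centralizer_comm hc (x ≫ j) y

end Groth.Agent.TorPts21
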