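import Groth.Agent.Lib.TorPts21.UnipPart
import Groth.Agent.Lib.TorPts21.BorelCentre
import Groth.Agent.Lib.TorPts21.Cartan
import Groth.Agent.Lib.BorelFix21.BorelConj

/-!
# Connected unipotent subgroups and Borel subgroups
-/

set_option autoImplicit false
set_option linter.style.haveILetI false
set_option backward.isDefEq.respectTransparency.types false
universe u

open CategoryTheory Limits MonoidalCategory CartesianMonoidalCategory MonObj AlgebraicGeometry

noncomputable section

namespace Groth.Agent.TorPts21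

variable {k : Type u} [Field k] [IsAlgClosed k]

/-- A connected group without subtori is solvable. -/
theorem isSolvableGrp_of_hasNoSubtorus (U : Over (Spec (CommRingCat.of k))) [GrpObj U] [IsAffine U.left]
    [Smooth U.hom] [ConnectedSpace U.left] (h : Red.HasNoSubtorus k U) : Red.IsSolvableGrp U := by
  obtain ⟨T, _, iT, hT⟩ := exists_maxTorus U
  haveI := hT.1
  haveI := hT.2.1
  haveI : IsIso T.hom := h T iT hT.2.2.1
  refine isSolvableGrp_of_central_maxTorus hT fun {X} x y => ?_
  have hy : y = 1 := Over.OverMorphism.ext (by rw [← cancel_mono T.hom, Over.w, Over.w])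
  rw [hy, MonObj.one_comp, _root_.mul_one, _root_.one_mul]

variable {G : Over (Spec (CommRingCat.of k))} [GrpObj G] [IsAffine G.left] [Smooth G.hom] [ConnectedSpace G.left]

/-- A normal connected solvable subgroup lies in every Borel subgroup. -/
theorem exists_lift_of_normal_solvable {U B : Over (Spec (CommRingCat.of k))} [GrpObj U] [GrpObj B] (u : U ⟶ G)
    [IsMonHom u] [IsClosedImmersion u.left] [Smooth U.hom] [ConnectedSpace U.left] (hU : Red.IsSolvableGrp U)
    (hn : AlgGrp.IsNormalHom u) (iB : B ⟶ G) (hB : Red.IsBorelOver k iB) : ∃ f : U ⟶ B, f ≫ iB = u := by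
  obtain ⟨B', _, iB', f, hB', hf⟩ := BorelFix21.exists_le_borel u hU
  obtain ⟨g, φ, hφ⟩ := BorelFix21.exists_conjBy iB' iB hB' hB
  obtain ⟨n', hn'⟩ := hn U (toUnit U ≫ g)⁻¹ (𝟙 U)
  refine ⟨n' ≫ f ≫ φ.hom, ?_⟩
  rw [Category.assoc, Category.assoc, hφ, ← Category.assoc, comp_conjBy, Category.assoc, hf, ← hn', Category.id_comp]
  group

/-- A connected subgroup without subtori is contained in some Borel subgroup, inside its unipotent radical. -/
theorem exists_borel_unipotentRadical_ge {U : Over (Spec (CommRingCat.of k))} [GrpObj U] (iU : U ⟶ G) [IsMonHom iU]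
    [IsClosedImmersion iU.left] [Smooth U.hom] [ConnectedSpace U.left] (nU : Red.HasNoSubtorus k U) :
    ∃ (B : Over (Spec (CommRingCat.of k))) (_ : GrpObj B) (iB : B ⟶ G) (V : Over (Spec (CommRingCat.of k)))
      (_ : GrpObj V) (v : V ⟶ B) (f : U ⟶ V), Red.IsBorelOver k iB ∧ Par.IsUnipotentRadical v ∧ f ≫ v ≫ iB = iU ∧
        ∀ (W : Over (Spec (CommRingCat.of k))) [GrpObj W] (w : W ⟶ B) [IsMonHom w], IsClosedImmersion w.left →
          Smooth W.hom → ConnectedSpace W.left → Red.HasNoSubtorus k W → ∃ f : W ⟶ V, f ≫ v = w := by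
  haveI : IsAffine U.left := isAffine_of_isAffineHom iU.left
  obtain ⟨B, _, iB, f, hB, hf⟩ := BorelFix21.exists_le_borel iU (isSolvableGrp_of_hasNoSubtorus U nU)
  obtain ⟨hm, hc, hs, hn, hsol, -⟩ := id hB
  haveI := hm
  haveI := hc
  haveI := hs
  haveI := hn
  haveI : IsAffine B.left := isAffine_of_isAffineHom iB.left
  obtain ⟨V, _, v, hv, hall⟩ := exists_unipotentRadical B hsol
  haveI : Mono iB := Over.mono_of_mono_left iB
  haveI : IsMonHom f := BorelFix21.isMonHom_of_comp iB f (hf ▸ ‹IsMonHom iU›)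
  haveI : IsClosedImmersion (f ≫ iB).left := hf ▸ ‹IsClosedImmersion iU.left›
  haveI : IsClosedImmersion f.left := IsClosedImmersion.of_comp f.left iB.left
  obtain ⟨f', hf'⟩ := hall U f inferInstance inferInstance inferInstance nU
  exact ⟨B, inferInstance, iB, V, inferInstance, v, f', hB, hv, by rw [← Category.assoc, hf', hf], hall⟩

end Groth.Agent.TorPts21
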