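import Groth.Agent.Lib.TorPts21.BorelCent

/-!
# Every Borel subgroup of a centraliser of a torus is cut out by a Borel subgroup
-/

set_option autoImplicit false
set_option linter.style.haveILetI false
set_option backward.isDefEq.respectTransparency.types false
universe u

open CategoryTheory Limits MonoidalCategory CartesianMonoidalCategory MonObj AlgebraicGeometry

noncomputable section

namespace Groth.Agent.TorPts21

variable {k : Type u} [Field k] [IsAlgClosed k] {G T C D : Over (Spec (CommRingCat.of k))} [GrpObj G] [GrpObj T]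
  [GrpObj C] [GrpObj D] [IsAffine G.left] [Smooth G.hom] [ConnectedSpace G.left]

set_option maxHeartbeats 1000000 in
set_option synthInstance.maxHeartbeats 100000 in
/-- A Borel subgroup of the centraliser is the intersection with a Borel subgroup containing the torus. -/
theorem exists_borel_inter_eq {iT : T ⟶ G} [IsMonHom iT] [Mono iT] (hT : Red.IsTorus T) {c : C ⟶ G}
    (hc : Red.IsCentralizerOf iT c) {dC : D ⟶ C} (hD : Red.IsBorelOver k dC) :
    ∃ (B : Over (Spec (CommRingCat.of k))) (_ : GrpObj B) (iB : B ⟶ G) (t : T ⟶ B) (dB : D ⟶ B),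
      Red.IsBorelOver k iB ∧ t ≫ iB = iT ∧ IsPullback dC dB c iB := by
  obtain ⟨hdm, hdc, hds, hdn, hdsol, hdmax⟩ := id hD
  haveI := hdm
  haveI := hdc
  haveI : IsPreimmersion dC.left := inferInstance
  haveI : Mono dC.left := IsPreimmersion.instMonoScheme dC.left
  haveI : Mono dC := Over.mono_of_mono_left dC
  haveI := hds
  haveI := hdn
  obtain ⟨hcm, hci, hcs, hca⟩ := centralizer_props hT hc
  haveI := hcm
  haveI := hci
  haveI := hcs
  haveI := hca
  haveI : ConnectedSpace C.left := connectedSpace_centralizer_closed hT hc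
  haveI : Mono c := Over.mono_of_mono_left c
  obtain ⟨d, ⟨Ch⟩⟩ := exists_chars hT
  obtain ⟨tC, htC, htm⟩ := exists_lift_centralizer hc (fun x y => commute_of_chars Ch x y)
  haveI := htm
  haveI : Mono (tC ≫ c) := htC.symm ▸ ‹Mono iT›
  haveI : Mono tC := mono_of_mono tC c
  obtain ⟨D', _, iD', t', hD', ht'⟩ := exists_borel_containing tC hT
  obtain ⟨g, φ, hφ⟩ := BorelFix21.exists_conjBy iD' dC hD' hD
  have htD : (t' ≫ φ.hom) ≫ dC = tC := by
    rw [Category.assoc, hφ, comp_conjBy, ht']
    refine (cancel_mono c).1 ?_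
    have h1 := centralizer_comm hc (toUnit T ≫ g) (𝟙 T)
    rw [Category.id_comp, ← htC] at h1
    rw [MonObj.mul_comp, MonObj.mul_comp, GrpObj.inv_comp, h1, mul_inv_cancel_right]
  haveI : IsClosedImmersion (dC ≫ c).left := by rw [Over.comp_left]; infer_instance
  obtain ⟨B, _, iB, f, hB, hf⟩ := BorelFix21.exists_le_borel (dC ≫ c) hdsol
  obtain ⟨hm, hcl, hs, hn, hsol, -⟩ := id hB
  haveI := hm
  haveI := hcl
  haveI := hs
  haveI := hn
  haveI : IsAffine B.left := isAffine_of_isAffineHom iB.left
  haveI : Mono iB := Over.mono_of_mono_left iB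
  let t : T ⟶ B := (t' ≫ φ.hom) ≫ f
  have ht : t ≫ iB = iT := by rw [Category.assoc, hf, ← Category.assoc, htD, htC]
  haveI : IsMonHom t := BorelFix21.isMonHom_of_comp iB t (ht.symm ▸ ‹IsMonHom iT›)
  refine ⟨B, inferInstance, iB, t, f, hB, ht, ?_⟩
  obtain ⟨P, _, j, hP, -, -⟩ := MTRigid29.exists_centralizer
    (MTRigid29.isMT_of_ft (isMultTypeFT_of_isTorus hT)) ‹_› inferInstance t
  obtain ⟨hjm, hjc, hjs, hja⟩ := centralizer_props hT hP
  haveI := hjm
  haveI := hjc
  haveI := hjs
  haveI := hja
  haveI : ConnectedSpace P.left := connectedSpace_centralizer_closed hT hP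
  haveI : Mono j := Over.mono_of_mono_left j
  obtain ⟨p, hp⟩ := (hc.2.2 P (j ≫ iB)).2 fun X x h => by
    have h1 := congrArg (· ≫ iB) (centralizer_comm hP x h)
    simp only [MonObj.mul_comp, Category.assoc, ht] at h1
    exact h1
  haveI : IsMonHom (p ≫ c) := by rw [hp]; infer_instance
  haveI : IsMonHom p := BorelFix21.isMonHom_of_comp c p inferInstance
  haveI : IsClosedImmersion p.left := by
    haveI : IsClosedImmersion (p.left ≫ c.left) := by rw [← Over.comp_left, hp, Over.comp_left]; infer_instance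
    exact IsClosedImmersion.of_comp p.left c.left
  obtain ⟨e, he⟩ := (hP.2.2 D f).2 fun X x h => (cancel_mono iB).1 (by
    rw [MonObj.mul_comp, MonObj.mul_comp, Category.assoc x, hf, Category.assoc h, ht, ← Category.assoc]
    exact centralizer_comm hc (x ≫ dC) h)
  have hep : e ≫ p = dC := (cancel_mono c).1 (by rw [Category.assoc, hp, ← Category.assoc, he, hf])
  haveI : IsIso e := hdmax P p e inferInstance inferInstance inferInstance (isSolvableGrp_of_mono j hsol) hep
  have hex : ∀ s : Limits.PullbackCone c iB, ∃ l : s.pt ⟶ D, l ≫ dC = s.fst ∧ l ≫ f = s.snd := fun s => by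
    obtain ⟨w, hw⟩ := (hP.2.2 s.pt s.snd).2 fun X x h => (cancel_mono iB).1 (by
      rw [MonObj.mul_comp, MonObj.mul_comp, Category.assoc x, ← s.condition, Category.assoc h, ht, ← Category.assoc]
      exact centralizer_comm hc (x ≫ s.fst) h)
    refine ⟨w ≫ inv e, (cancel_mono c).1 ?_, ?_⟩
    · rw [← hep, ← Category.assoc, Category.assoc w, IsIso.inv_hom_id, Category.comp_id, Category.assoc, hp,
        ← Category.assoc, hw, s.condition]
    · rw [← he, ← Category.assoc, Category.assoc w, IsIso.inv_hom_id, Category.comp_id, hw]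
  choose l hl1 hl2 using hex
  exact IsPullback.of_isLimit' ⟨hf.symm⟩ (Limits.PullbackCone.IsLimit.mk hf.symm l hl1 hl2
    (fun s m hm _ => (cancel_mono dC).1 (by rw [hm, hl1])))

end Groth.Agent.TorPts21
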