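import Groth.Agent.Lib.TorPts21.Connected
import Groth.Agent.Lib.BorelFix21.Conj
import Groth.Agent.S8022

/-!
# Borel subgroups of centralisers of tori
-/

set_option autoImplicit false
set_option linter.style.haveILetI false
set_option backward.isDefEq.respectTransparency.types false
universe u

open CategoryTheory Limits MonoidalCategory CartesianMonoidalCategory MonObj AlgebraicGeometry

noncomputable section

namespace Groth.Agent.TorPts21

open MatGrp21

attribute [local instance] InvRing21.gamAlg BorelFix21.ptsTop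

section Grp

variable {k : Type u} [Field k] {B D : Over (Spec (CommRingCat.of k))} [GrpObj B] [GrpObj D]

/-- A subgroup of a solvable group is solvable. -/
theorem isSolvableGrp_of_mono (i : D ⟶ B) [IsMonHom i] [Mono i] (h : Red.IsSolvableGrp B) :
    Red.IsSolvableGrp D := by
  obtain ⟨n, hn⟩ := h
  refine ⟨n, fun X => ?_⟩
  let F : (X ⟶ D) →* (X ⟶ B) := MonoidHom.mk' (· ≫ i) fun a b => MonObj.mul_comp a b i
  refine (Subgroup.eq_bot_iff_forall _).2 fun x hx => ?_
  have h1 := map_derivedSeries_le_derivedSeries F n ⟨x, hx, rfl⟩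
  rw [hn, Subgroup.mem_bot] at h1
  exact (cancel_mono i).1 (h1.trans (MonObj.one_comp i).symm)

end Grp

variable {k : Type u} [Field k] [IsAlgClosed k] {G T B C : Over (Spec (CommRingCat.of k))} [GrpObj G] [GrpObj T]
  [GrpObj B] [GrpObj C] [IsAffine G.left] [Smooth G.hom]

set_option maxHeartbeats 1000000 in
/-- The points conjugating the torus into the Borel subgroup with unchanged diagonal form a closed set consisting of
the products of a point of the centraliser and a point of the Borel subgroup. -/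
theorem exists_closed_centralizer_mul_borel {iT : T ⟶ G} [IsMonHom iT] (hT : Red.IsTorus T) (iB : B ⟶ G)
    [IsMonHom iB] [IsClosedImmersion iB.left] [Smooth B.hom] [ConnectedSpace B.left] (hB : Red.IsSolvableGrp B)
    (t : T ⟶ B) (ht : t ≫ iB = iT) {c : C ⟶ G} (hc : Red.IsCentralizerOf iT c) :
    ∃ Z : Set G.left, IsClosed Z ∧ ∀ g : VecGrp.pt k k ⟶ G, InvRing21.img g ∈ Z ↔
      ∃ (x : VecGrp.pt k k ⟶ C) (b : VecGrp.pt k k ⟶ B), g = (x ≫ c) * (b ≫ iB) := by
  obtain ⟨hcm, hci, hcs, hca⟩ := centralizer_props hT hc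
  haveI := hcm
  haveI : IsAffine B.left := isAffine_of_isAffineHom iB.left
  obtain ⟨n, r, hr, hrc, hu⟩ := exists_upper_embedding iB hB
  haveI := hr
  haveI := hrc
  haveI : IsClosedImmersion (iB ≫ r).left := by rw [Over.comp_left]; infer_instance
  obtain ⟨d, ⟨Ch⟩⟩ := exists_chars hT
  obtain ⟨D⟩ := nonempty_decomp hu (isClosed_range_mtx (iB ≫ r)) (isPreirreducible_range_mtx' (iB ≫ r))
  let M := (mtx (iB ≫ r)).range
  let Φ : Set (VecGrp.pt k k ⟶ G) := {g | ∀ a ∈ (mtx (iT ≫ r)).range,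
    (mtx r g)⁻¹ * a * ((mtx r g)⁻¹)⁻¹ ∈ M ∧
      ∀ i, (((mtx r g)⁻¹ * a * ((mtx r g)⁻¹)⁻¹ : GL (Fin n) k) : Matrix (Fin n) (Fin n) k) i i =
        (a : Matrix (Fin n) (Fin n) k) i i}
  have hΦ : IsClosed Φ := by
    have he : Φ = ⋂ a ∈ (mtx (iT ≫ r)).range, (fun g => (mtx r g)⁻¹ * a * ((mtx r g)⁻¹)⁻¹) ⁻¹'
        ((M : Set (GL (Fin n) k)) ∩ ⋂ i, {h | (h : Matrix (Fin n) (Fin n) k) i i =
          (a : Matrix (Fin n) (Fin n) k) i i}) := by
      ext g
      simp [Φ]
    rw [he]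
    refine isClosed_biInter fun a _ => ?_
    refine ((isClosed_range_mtx (iB ≫ r)).inter (isClosed_iInter fun i =>
      MatGrp21.isClosed_eq (isReg_entry i i) (isReg_const _))).preimage ?_
    exact (continuous_conjugate a).comp (continuous_inv'.comp (continuous_mtxFn r))
  obtain ⟨Z, hZ, hZΦ⟩ := isClosed_induced_iff.1 hΦ
  refine ⟨Z, hZ, fun g => ?_⟩
  have hmemΦ : InvRing21.img g ∈ Z ↔ g ∈ Φ := by rw [← hZΦ]; rfl
  rw [hmemΦ]
  have hTM : (mtx (iT ≫ r)).range ≤ M := range_le_of_lift r iB iT t ht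
  constructor
  · intro hg
    let S : Set (GL (Fin n) k) := (fun a => (mtx r g)⁻¹ * a * ((mtx r g)⁻¹)⁻¹) ''
      ((mtx (iT ≫ r)).range : Set (GL (Fin n) k))
    have hSM : S ⊆ M := by
      rintro _ ⟨a, ha, rfl⟩
      exact (hg a ha).1
    have hS : S ⊆ closure (tors S) := by
      rintro _ ⟨a, ha, rfl⟩
      refine closure_mono ?_ (image_closure_subset_closure_image (continuous_conj (mtx r g)⁻¹)
        ⟨a, range_mtx_dense Ch (iT ≫ r) ha, rfl⟩)
      rintro _ ⟨b, ⟨hb, L, hL, hbL⟩, rfl⟩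
      exact ⟨⟨b, hb, rfl⟩, L, hL, by rw [conj_pow, hbL, _root_.mul_one, mul_inv_cancel]⟩
    obtain ⟨u, hu1, hu2⟩ := D.exists_conj hu (isClosed_range_mtx (iB ≫ r)) hSM (by
      rintro _ ⟨a, ha, rfl⟩ _ ⟨b, hb, rfl⟩
      exact (range_mtx_comm Ch (iT ≫ r) a ha b hb).map (MulAut.conj (mtx r g)⁻¹).toMonoidHom) hS
    obtain ⟨u₀, hu₀, hu₀'⟩ := D.exists_conj hu (isClosed_range_mtx (iB ≫ r)) hTM (range_mtx_comm Ch (iT ≫ r))
      (range_mtx_dense Ch (iT ≫ r))
    obtain ⟨v, hv⟩ := hu1.1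
    obtain ⟨v₀, hv₀⟩ := hu₀.1
    rw [mtx_comp] at hv hv₀
    let x' : VecGrp.pt k k ⟶ G := g * (v ≫ iB)⁻¹ * (v₀ ≫ iB)
    have hcomm : ∀ s : VecGrp.pt k k ⟶ T, x' * (s ≫ iT) = (s ≫ iT) * x' := fun s => by
      set a := mtx r (s ≫ iT) with ha
      have haT : a ∈ (mtx (iT ≫ r)).range := ⟨s, by rw [mtx_comp]⟩
      have h1 := hu2 _ ⟨a, haT, rfl⟩
      have h2 := hu₀' a haT
      have hd : ∀ (w : GL (Fin n) k), w ∈ (lay 1 : Subgroup (GL (Fin n) k)) → ∀ h ∈ M, ∀ i,
          ((w * h * w⁻¹ : GL (Fin n) k) : Matrix (Fin n) (Fin n) k) i i = (h : Matrix (Fin n) (Fin n) k) i i := by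
        intro w hw h hh i
        rw [diag_mul (Subgroup.mul_mem _ hw.1 (hu hh)) (Subgroup.inv_mem _ hw.1), diag_mul hw.1 (hu hh),
          (mem_lay_one_iff.1 hw).2, (mem_lay_one_iff.1 (Subgroup.inv_mem _ hw)).2, _root_.one_mul, _root_.mul_one]
      set p := u * ((mtx r g)⁻¹ * a * ((mtx r g)⁻¹)⁻¹) * u⁻¹ with hp
      set q := u₀ * a * u₀⁻¹ with hq
      have hpu := hu (D.le h1)
      have hqu := hu (D.le h2)
      have hdiag : q⁻¹ * p ∈ (lay 1 : Subgroup (GL (Fin n) k)) := by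
        refine mem_lay_one_iff.2 ⟨Subgroup.mul_mem _ (Subgroup.inv_mem _ hqu) hpu, fun i => ?_⟩
        have hpi : (p : Matrix (Fin n) (Fin n) k) i i = (q : Matrix (Fin n) (Fin n) k) i i := by
          rw [hp, hq, hd u hu1.2 _ (hg a haT).1 i, hd u₀ hu₀.2 a (hTM haT) i, (hg a haT).2 i]
        rw [diag_mul (Subgroup.inv_mem _ hqu) hpu, hpi, ← diag_mul (Subgroup.inv_mem _ hqu) hqu, inv_mul_cancel,
          Units.val_one, Matrix.one_apply_eq]
      have heq : q⁻¹ * p = 1 := by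
        rw [← Subgroup.mem_bot, ← D.inf_eq]
        exact ⟨Subgroup.mul_mem _ (Subgroup.inv_mem _ h2) h1, hdiag⟩
      rw [inv_mul_eq_one] at heq
      refine mtxFn_injective r ?_
      rw [← mtx_apply r, ← mtx_apply r]
      simp only [x', map_mul, map_inv, hv, hv₀, ← ha]
      calc mtx r g * u⁻¹ * u₀ * a = mtx r g * u⁻¹ * q * u₀ := by rw [hq]; group
        _ = mtx r g * u⁻¹ * p * u₀ := by rw [heq]
        _ = _ := by rw [hp]; group
    obtain ⟨y, hy⟩ := exists_gpt x'
    obtain ⟨z, hz⟩ := exists_lift_centralizer_pt hT hc y fun s => by rw [hy]; exact hcomm s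
    refine ⟨gpt z, v₀⁻¹ * v, ?_⟩
    rw [show gpt z ≫ c = x' by rw [gpt, Category.assoc, hz]; exact hy, MonObj.mul_comp, GrpObj.inv_comp]
    simp only [x']
    group
  · rintro ⟨x, b, rfl⟩ _ ⟨s, rfl⟩
    rw [mtx_comp]
    have hx : (mtx r (x ≫ c))⁻¹ * mtx r (s ≫ iT) * ((mtx r (x ≫ c))⁻¹)⁻¹ = mtx r (s ≫ iT) := by
      rw [inv_inv, _root_.mul_assoc, ← map_mul, ← centralizer_comm hc x s, map_mul, inv_mul_cancel_left]
    have he : (mtx r ((x ≫ c) * (b ≫ iB)))⁻¹ * mtx r (s ≫ iT) * ((mtx r ((x ≫ c) * (b ≫ iB)))⁻¹)⁻¹ =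
        (mtx r (b ≫ iB))⁻¹ * mtx r (s ≫ iT) * ((mtx r (b ≫ iB))⁻¹)⁻¹ := by
      conv_rhs => rw [← hx]
      rw [map_mul]
      group
    have hbM : mtx r (b ≫ iB) ∈ M := ⟨b, by rw [mtx_comp]⟩
    have hsM : mtx r (s ≫ iT) ∈ M := hTM ⟨s, by rw [mtx_comp]⟩
    rw [he]
    refine ⟨Subgroup.mul_mem _ (Subgroup.mul_mem _ (Subgroup.inv_mem _ hbM) hsM)
      (Subgroup.inv_mem _ (Subgroup.inv_mem _ hbM)), fun i => ?_⟩
    have hbu := hu hbM
    have hsu := hu hsM
    rw [inv_inv, diag_mul (Subgroup.mul_mem _ (Subgroup.inv_mem _ hbu) hsu) hbu,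
      diag_mul (Subgroup.inv_mem _ hbu) hsu, mul_right_comm, ← diag_mul (Subgroup.inv_mem _ hbu) hbu,
      inv_mul_cancel, Units.val_one, Matrix.one_apply_eq, _root_.one_mul]

variable [ConnectedSpace G.left] {D : Over (Spec (CommRingCat.of k))} [GrpObj D]

set_option maxHeartbeats 1000000 in
/-- A Borel subgroup containing a torus meets its centraliser in a Borel subgroup of the centraliser. -/
theorem isBorelOver_inter {iT : T ⟶ G} [IsMonHom iT] (hT : Red.IsTorus T) {iB : B ⟶ G}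
    (hB : Red.IsBorelOver k iB) (t : T ⟶ B) (ht : t ≫ iB = iT) {c : C ⟶ G} (hc : Red.IsCentralizerOf iT c)
    (dC : D ⟶ C) [IsMonHom dC] (dB : D ⟶ B) (hD : IsPullback dC dB c iB) : Red.IsBorelOver k dC := by
  obtain ⟨hm, hcl, hs, hn, hsol, -⟩ := id hB
  haveI := hm
  haveI := hcl
  haveI := hs
  haveI := hn
  obtain ⟨hcm, hci, hcs, hca⟩ := centralizer_props hT hc
  haveI := hcm
  haveI := hci
  haveI := hcs
  haveI := hca
  haveI : IsAffine B.left := isAffine_of_isAffineHom iB.left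
  haveI : Mono iB := Over.mono_of_mono_left iB
  haveI : Mono c := Over.mono_of_mono_left c
  haveI : IsMonHom (dB ≫ iB) := by rw [← hD.w]; infer_instance
  haveI hdBm : IsMonHom dB := BorelFix21.isMonHom_of_comp iB dB inferInstance
  haveI : IsMonHom t := BorelFix21.isMonHom_of_comp iB t (ht.symm ▸ ‹IsMonHom iT›)
  haveI : Mono dB := hD.mono_snd_of_mono
  haveI : Mono dC := hD.mono_fst_of_mono
  haveI hsqL : IsClosedImmersion dC.left :=
    MorphismProperty.of_isPullback (P := @IsClosedImmersion) (hD.map (Over.forget _)).flip ‹_›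
  -- the intersection is the centraliser in the Borel subgroup
  have hcD : Red.IsCentralizerOf t dB := by
    refine ⟨hdBm, inferInstance, fun X g => ⟨?_, fun hg => ?_⟩⟩
    · rintro ⟨z, rfl⟩ X' x h
      refine (cancel_mono iB).1 ?_
      rw [MonObj.mul_comp, MonObj.mul_comp, Category.assoc h, ht, Category.assoc x, Category.assoc z, ← hD.w,
        ← Category.assoc x, ← Category.assoc (x ≫ z) dC c]
      exact centralizer_comm hc ((x ≫ z) ≫ dC) h
    · obtain ⟨z, hz⟩ := (hc.2.2 X (g ≫ iB)).2 fun X' x h => by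
        have h1 := congrArg (· ≫ iB) (hg X' x h)
        simp only [MonObj.mul_comp, Category.assoc, ht] at h1
        exact h1
      obtain ⟨w, -, hw⟩ := hD.exists_lift z g hz
      exact ⟨w, hw⟩
  obtain ⟨-, hdBc, hDs, hDa⟩ := centralizer_props hT hcD
  haveI := hdBc
  haveI := hDs
  haveI := hDa
  haveI hDc : ConnectedSpace D.left := connectedSpace_centralizer_closed hT hcD
  refine ⟨inferInstance, hsqL, hDs, hDc, isSolvableGrp_of_mono dB hsol,
    fun B' _ i' _ f h₁ h₂ h₃ h₄ h₅ => ?_⟩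
  haveI := h₁
  haveI := h₂
  haveI := h₃
  -- the orbit of the base point under the centraliser
  haveI : IsClosedImmersion (𝟙 B ≫ iB).left := by rw [Category.id_comp]; infer_instance
  obtain ⟨X, a, o, hX, hXs, hXq⟩ := GrassAct21.exists_quotient_affine iB
  haveI := hXs
  haveI := hXq
  haveI : IsProper X.hom := BorelFix21.isProper_of_borel_le hX (𝟙 B) (by rw [Category.id_comp]; exact hB)
  obtain ⟨hlft, hflat, hsurj, -⟩ := id hX
  haveI := hlft
  haveI := hflat
  haveI := hsurj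
  let q : G ⟶ X := a.orbitMap o
  have horb : ∀ {S : Over (Spec (CommRingCat.of k))} (p : S ⟶ C),
      p ≫ (a.restrict c).orbitMap o = (p ≫ c) ≫ q := fun p => by
    rw [AlgGrp.Action.comp_orbitMap, AlgGrp.Action.comp_orbitMap, AlgGrp.Action.lift_restrict_act]
  have h1o : ∀ S : Over (Spec (CommRingCat.of k)), (1 : S ⟶ G) ≫ q = toUnit S ≫ o := fun S => by
    rw [AlgGrp.Action.comp_orbitMap, AlgGrpBasic19.act_one]
  have hex : ∀ s : Limits.PullbackCone ((a.restrict c).orbitMap o) o, ∃ h : s.pt ⟶ D, h ≫ dC = s.fst := fun s => by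
    obtain ⟨h, hh⟩ := (BorelFix21.orbit_eq_iff hX (1 : s.pt ⟶ G) (s.fst ≫ c)).1 (by
      rw [← horb, s.condition, h1o, toUnit_unique s.snd (toUnit _)])
    rw [_root_.one_mul] at hh
    obtain ⟨w, hw, -⟩ := hD.exists_lift s.fst h hh
    exact ⟨w, hw⟩
  choose l hl using hex
  have hsq : IsPullback dC (toUnit D) ((a.restrict c).orbitMap o) o := by
    have w : dC ≫ (a.restrict c).orbitMap o = toUnit D ≫ o := by
      rw [horb, hD.w, ← h1o, ← (BorelFix21.orbit_eq_iff hX (1 : D ⟶ G) (dB ≫ iB)).2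
        ⟨dB, by rw [_root_.one_mul]⟩]
    exact IsPullback.of_isLimit' ⟨w⟩ (Limits.PullbackCone.IsLimit.mk w l hl (fun s => toUnit_unique _ _)
      (fun s m hm _ => (cancel_mono dC).1 (by rw [hm, hl])))
  haveI : QuasiCompact C.hom := inferInstance
  obtain ⟨Y, b, y, e, hY, hbe, hye, hei⟩ := Groth.Agent.S8022.result k C X D (a.restrict c) o dC hsq
  haveI := hei
  obtain ⟨hlftY, hflatY, hsurjY, -⟩ := id hY
  haveI := hlftY
  haveI := hsurjY
  have horbY : b.orbitMap y ≫ e = (a.restrict c).orbitMap o := by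
    rw [AlgGrp.Action.orbitMap, Category.assoc, ← hbe, lift_whiskerLeft_assoc, Category.assoc, hye]
    rfl
  have hrange : Set.range e.left = Set.range ((a.restrict c).orbitMap o).left := by
    rw [← horbY, Over.comp_left, Scheme.Hom.comp_base, TopCat.coe_comp, Set.range_comp,
      (b.orbitMap y).left.surjective.range_eq, Set.image_univ]
  obtain ⟨Z, hZ, hZp⟩ := exists_closed_centralizer_mul_borel hT iB hsol t ht hc
  haveI : LocallyOfFiniteType q.left := by
    haveI : LocallyOfFiniteType (q.left ≫ X.hom) := by rw [Over.w q]; infer_instance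
    exact locallyOfFiniteType_of_comp _ X.hom
  haveI : LocallyOfFinitePresentation q.left := by
    haveI : IsLocallyNoetherian X.left := LocallyOfFiniteType.isLocallyNoetherian X.hom
    infer_instance
  let V : Set X.left := q.left '' Zᶜ
  have hV : IsOpen V := q.left.isOpenMap _ hZ.isOpen_compl
  have hpt : ∀ {S : Over (Spec (CommRingCat.of k))} [LocallyOfFiniteType S.hom] (p p' : VecGrp.pt k k ⟶ S),
      InvRing21.img p = InvRing21.img p' → p = p' := fun {S} _ p p' h => by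
    have hp : (VecGrp.pt k k).hom = 𝟙 (Spec (CommRingCat.of k)) := by
      show Spec.map (CommRingCat.ofHom (algebraMap k k)) = 𝟙 _
      rw [show CommRingCat.ofHom (algebraMap k k) = 𝟙 _ from rfl, Spec.map_id]
    exact Over.OverMorphism.ext (ext_of_apply_closedPoint_eq S.hom ((Over.w p).trans hp) ((Over.w p').trans hp) h)
  -- the rational points of the orbit
  have horbit : ∀ g : VecGrp.pt k k ⟶ G, InvRing21.img g ∈ Z ↔ InvRing21.img (g ≫ q) ∈ Set.range e.left := by
    intro g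
    rw [hZp, hrange]
    constructor
    · rintro ⟨x, b', rfl⟩
      refine ⟨InvRing21.img x, ?_⟩
      rw [show ((x ≫ c) * (b' ≫ iB)) ≫ q = x ≫ (a.restrict c).orbitMap o by
        rw [horb]; exact ((BorelFix21.orbit_eq_iff hX (x ≫ c) ((x ≫ c) * (b' ≫ iB))).2 ⟨b', rfl⟩).symm]
      rfl
    · rintro ⟨z, hz⟩
      obtain ⟨x, hx⟩ := BorelFix21.exists_pt_mem
        ((show IsClosed ({InvRing21.img (g ≫ q)} : Set X.left) by
          obtain ⟨p, hp⟩ := exists_gpt (g ≫ q)
          rw [← hp, img_gpt]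
          exact isClosed_img' p).preimage ((a.restrict c).orbitMap o).left.continuous).isLocallyClosed
        ⟨z, hz⟩
      have he : (x ≫ c) ≫ q = g ≫ q := by
        rw [← horb]
        exact hpt _ _ hx
      obtain ⟨b', hb'⟩ := (BorelFix21.orbit_eq_iff hX (x ≫ c) g).1 he
      exact ⟨x, b', hb'⟩
  have hsubV : Set.range e.left ⊆ Vᶜ := by
    rintro _ ⟨z, rfl⟩ hzV
    obtain ⟨p, hp⟩ := BorelFix21.exists_pt_mem (G := Y) (Z := e.left ⁻¹' V)
      (hV.preimage e.left.continuous).isLocallyClosed ⟨z, hzV⟩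
    obtain ⟨g₀, hg₀, hge⟩ := hp
    have hcl : IsClosed ({InvRing21.img (p ≫ e)} : Set X.left) := by
      obtain ⟨p', hp'⟩ := exists_gpt (p ≫ e)
      rw [← hp', img_gpt]
      exact isClosed_img' p'
    obtain ⟨g, hg1, hg2⟩ := BorelFix21.exists_pt_mem
      ((hcl.preimage q.left.continuous).isLocallyClosed.inter hZ.isOpen_compl.isLocallyClosed) ⟨g₀, hge, hg₀⟩
    refine hg2 ((horbit g).2 ⟨InvRing21.img p, ?_⟩)
    exact (hg1 : q.left (InvRing21.img g) = _).symm
  haveI : IsClosedImmersion e.left := by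
    refine IsClosedImmersion.of_isPreimmersion _ ?_
    rw [← closure_eq_iff_isClosed]
    refine Set.Subset.antisymm (fun z hz => ?_) subset_closure
    by_contra hzn
    obtain ⟨p, hp1, hp2⟩ := BorelFix21.exists_pt_mem (G := X) (Z := closure (Set.range e.left) ∩ (Set.range e.left)ᶜ)
      (by
        have h : IsClosed (coborder (Set.range e.left))ᶜ :=
          (e.left.isLocallyClosed_range.isOpen_coborder).isClosed_compl
        rw [coborder, compl_compl] at h
        exact h.isLocallyClosed) ⟨z, hz, hzn⟩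
    obtain ⟨g, rfl⟩ := BorelFix21.exists_pt_lift q p
    refine hp2 ((horbit g).1 ?_)
    by_contra hgZ
    exact closure_minimal hsubV hV.isClosed_compl hp1 ⟨_, hgZ, rfl⟩
  haveI : UniversallyClosed Y.hom := by rw [← Over.w e]; infer_instance
  haveI : IsProper Y.hom := by
    haveI : IsSeparated Y.hom := by rw [← Over.w e]; infer_instance
    exact ⟨⟩
  exact BorelFix21.isIso_of_le dC i' h₄ hY f h₅

end Groth.Agent.TorPts21
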