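import Groth.Agent.Lib.TorPts21.ConjDom
import Groth.Agent.Lib.TorPts21.MaxExist
import Groth.Agent.Lib.GrassAct21.QuotAffine
import Groth.Agent.Lib.BorelFix21.Parabolic

/-!
# The conjugates of a Borel subgroup cover the group
-/

set_option autoImplicit false
set_option linter.style.haveILetI false
set_option backward.isDefEq.respectTransparency.types false
universe u

open CategoryTheory Limits MonoidalCategory CartesianMonoidalCategory MonObj AlgebraicGeometry

noncomputable section

namespace Groth.Agent.TorPts21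

variable {k : Type u} [Field k]

/-- The locus where two morphisms to a separated scheme agree is a closed subscheme. -/
theorem exists_agree {W X : Over (Spec (CommRingCat.of k))} [IsSeparated X.hom] (f g : W ⟶ X) :
    ∃ (Z : Over (Spec (CommRingCat.of k))) (em : Z ⟶ W), IsClosedImmersion em.left ∧ em ≫ f = em ≫ g ∧
      ∀ {T : Over (Spec (CommRingCat.of k))} (p : T ⟶ W), p ≫ f = p ≫ g → ∃ z : T ⟶ Z, z ≫ em = p := by
  let Δ : X ⟶ X ⊗ X := lift (𝟙 X) (𝟙 X)
  let L : W ⟶ X ⊗ X := lift f g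
  haveI : IsSeparated (fst X X).left := inferInstanceAs (IsSeparated (pullback.fst X.hom X.hom))
  haveI : IsClosedImmersion Δ.left := by
    haveI : IsClosedImmersion (Δ.left ≫ (fst X X).left) := by
      rw [← Over.comp_left, lift_fst]; exact inferInstanceAs (IsClosedImmersion (𝟙 X.left))
    exact IsClosedImmersion.of_comp Δ.left (fst X X).left
  let em : Over.mk (pullback.fst L.left Δ.left ≫ W.hom) ⟶ W := Over.homMk (pullback.fst L.left Δ.left) rfl
  have hL1 : L.left ≫ (fst X X).left = f.left := by rw [← Over.comp_left, lift_fst]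
  have hL2 : L.left ≫ (snd X X).left = g.left := by rw [← Over.comp_left, lift_snd]
  have hΔ1 : Δ.left ≫ (fst X X).left = 𝟙 _ := by rw [← Over.comp_left, lift_fst]; rfl
  have hΔ2 : Δ.left ≫ (snd X X).left = 𝟙 _ := by rw [← Over.comp_left, lift_snd]; rfl
  refine ⟨_, em, inferInstanceAs (IsClosedImmersion (pullback.fst L.left Δ.left)), ?_, fun {T} p hp => ?_⟩
  · refine Over.OverMorphism.ext ?_
    show pullback.fst L.left Δ.left ≫ f.left = pullback.fst L.left Δ.left ≫ g.left
    rw [← hL1, ← hL2, pullback.condition_assoc, hΔ1, pullback.condition_assoc, hΔ2]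
  · have he : p ≫ L = (p ≫ g) ≫ Δ := by
      refine CartesianMonoidalCategory.hom_ext _ _ ?_ ?_ <;> simp [L, Δ, hp]
    refine ⟨Over.homMk (pullback.lift p.left (p ≫ g).left (congrArg CommaMorphism.left he)) ?_, ?_⟩
    · show pullback.lift p.left (p ≫ g).left _ ≫ pullback.fst L.left Δ.left ≫ W.hom = T.hom
      rw [pullback.lift_fst_assoc, Over.w]
    · exact Over.OverMorphism.ext (pullback.lift_fst _ _ _)

variable [IsAlgClosed k] {G : Over (Spec (CommRingCat.of k))} [GrpObj G] [IsAffine G.left] [Smooth G.hom]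
  [ConnectedSpace G.left]

set_option maxHeartbeats 800000 in
/-- Every rational point is conjugate to a point of a given Borel subgroup. -/
theorem exists_conj_mem_borel {B : Over (Spec (CommRingCat.of k))} [GrpObj B] (iB : B ⟶ G)
    (hB : Red.IsBorelOver k iB) (g : 𝟙_ (Over (Spec (CommRingCat.of k))) ⟶ G) :
    ∃ (x : 𝟙_ (Over (Spec (CommRingCat.of k))) ⟶ G) (b : 𝟙_ (Over (Spec (CommRingCat.of k))) ⟶ B),
      x * (b ≫ iB) * x⁻¹ = g := by
  obtain ⟨hm, hc, hs, hn, -, -⟩ := id hB
  haveI := hm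
  haveI := hc
  haveI := hs
  haveI := hn
  haveI : IsClosedImmersion (𝟙 B ≫ iB).left := by rw [Category.id_comp]; infer_instance
  obtain ⟨X, a, o, hX, hXs, -⟩ := GrassAct21.exists_quotient_affine iB
  haveI := hXs
  haveI : IsProper X.hom := BorelFix21.isProper_of_borel_le hX (𝟙 B) (by rw [Category.id_comp]; exact hB)
  obtain ⟨hlft, hflat, hsurj, -⟩ := id hX
  haveI := hlft
  haveI := hsurj
  let q : G ⟶ X := a.orbitMap o
  obtain ⟨Z, em, hem, heme, hemu⟩ := exists_agree a.act (snd G X)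
  haveI := hem
  haveI : IsProper (fst G X).left := inferInstanceAs (IsProper (pullback.fst G.hom X.hom))
  let F : Set G.left := (fst G X).left '' Set.range em.left
  have hFc : IsClosed F := (fst G X).left.isClosedMap _ em.left.isClosedEmbedding.isClosed_range
  haveI : LocallyOfFiniteType Z.hom := by
    haveI : LocallyOfFiniteType (G ⊗ X).hom :=
      inferInstanceAs (LocallyOfFiniteType (pullback.fst G.hom X.hom ≫ G.hom))
    rw [← Over.w em]; infer_instance
  have hgx : ∀ g x : 𝟙_ (Over (Spec (CommRingCat.of k))) ⟶ G, lift g (x ≫ q) ≫ a.act = (g * x) ≫ q := fun g x => by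
    rw [AlgGrp.Action.comp_orbitMap a (g * x), AlgGrpBasic19.act_mul, ← AlgGrp.Action.comp_orbitMap]
  -- the rational points of the closed set are the conjugates of points of the Borel subgroup
  have hF : ∀ g : 𝟙_ (Over (Spec (CommRingCat.of k))) ⟶ G,
      img' g ∈ F ↔ ∃ (x : 𝟙_ (Over (Spec (CommRingCat.of k))) ⟶ G) (b : 𝟙_ (Over (Spec (CommRingCat.of k))) ⟶ B),
        x * (b ≫ iB) * x⁻¹ = g := fun g => by
    constructor
    · rintro ⟨_, ⟨z₀, rfl⟩, hz₀⟩
      obtain ⟨z, hz⟩ := BorelFix21.exists_pt_mem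
        ((isClosed_img' g).preimage (em ≫ fst G X).left.continuous).isLocallyClosed ⟨z₀, hz₀⟩
      obtain ⟨z, rfl⟩ := exists_gpt z
      rw [img_gpt] at hz
      have hg : z ≫ em ≫ fst G X = g := by
        refine Over.OverMorphism.ext (ext_of_apply_closedPoint_eq G.hom ((Over.w _).trans ?_) ((Over.w g).trans ?_) hz)
        all_goals rfl
      obtain ⟨x, hx⟩ := BorelFix21.exists_pt_lift q (gpt (z ≫ em ≫ snd G X))
      obtain ⟨x, rfl⟩ := exists_gpt x
      have hxq : x ≫ q = z ≫ em ≫ snd G X := by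
        have h1 := congrArg (InvRing21.toPt (𝟙_ (Over (Spec (CommRingCat.of k)))) ≫ ·) hx
        simp only [gpt, ← Category.assoc] at h1
        simpa [toUnit_unique (InvRing21.toPt (𝟙_ (Over (Spec (CommRingCat.of k)))) ≫ toUnit (VecGrp.pt k k)) (𝟙 _),
          Category.id_comp, Category.assoc] using h1
      have he : (g * x) ≫ q = x ≫ q := by
        have h1 := congrArg (z ≫ ·) heme
        rw [← hgx, hxq, h1.symm]
        rw [← hg, ← Category.assoc z em a.act]
        congr 1
        refine CartesianMonoidalCategory.hom_ext _ _ ?_ ?_ <;> simp [h1]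
      obtain ⟨b, hb⟩ := (BorelFix21.orbit_eq_iff hX x (g * x)).1 he.symm
      exact ⟨x, b, by rw [← hb, mul_inv_cancel_right]⟩
    · rintro ⟨x, b, rfl⟩
      set g := x * (b ≫ iB) * x⁻¹
      obtain ⟨z, hz⟩ := hemu (lift g (x ≫ q)) (by
        rw [lift_snd]
        rw [hgx]
        exact ((BorelFix21.orbit_eq_iff hX x (g * x)).2 ⟨b, by simp [g]⟩).symm)
      refine ⟨em.left (img' z), ⟨_, rfl⟩, ?_⟩
      have h2 : z ≫ em ≫ fst G X = g := by rw [← Category.assoc, hz, lift_fst]
      exact congrArg (fun m : 𝟙_ (Over (Spec (CommRingCat.of k))) ⟶ G => img' m) h2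
  refine (hF g).1 ?_
  -- a dense open set of conjugates
  obtain ⟨T, _, iT, hT⟩ := exists_maxTorus G
  haveI := hT.1
  obtain ⟨C, _, c, hC, -, -⟩ := MTRigid29.exists_centralizer
    (MTRigid29.isMT_of_ft (isMultTypeFT_of_isTorus hT.2.2.1)) ‹_› inferInstance iT
  obtain ⟨C₀, _, j, U, hjm, hjc, hjs, hjn, hsol, hU, hconj⟩ := exists_open_conj hT hC
  haveI := hjm
  haveI := hjc
  haveI := hjs
  haveI := hjn
  obtain ⟨B', _, iB', f, hB', hf⟩ := BorelFix21.exists_le_borel (j ≫ c) hsol
  obtain ⟨g₀, φ, hφ⟩ := BorelFix21.exists_conjBy iB' iB hB' hB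
  have hsub : (U : Set G.left) ⊆ F := by
    by_contra hne
    obtain ⟨p, hp⟩ := Set.not_subset.1 hne
    obtain ⟨y, hy1, hy2⟩ := BorelFix21.exists_pt_mem
      (U.isOpen.isLocallyClosed.inter hFc.isOpen_compl.isLocallyClosed) ⟨p, hp.1, hp.2⟩
    obtain ⟨y, rfl⟩ := exists_gpt y
    rw [img_gpt] at hy1 hy2
    obtain ⟨h, w, rfl⟩ := hconj y hy1
    refine hy2 ((hF _).2 ⟨h * g₀⁻¹, (w ≫ f) ≫ φ.hom, ?_⟩)
    rw [Category.assoc (w ≫ f), hφ, comp_conjBy, Category.assoc w f, hf,
      toUnit_unique (toUnit (𝟙_ (Over (Spec (CommRingCat.of k))))) (𝟙 _), Category.id_comp]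
    group
  haveI := AbRigid.irreducibleSpace_of_isAlgClosed G
  have huniv : F = Set.univ := by
    refine Set.eq_univ_of_univ_subset ?_
    rw [← U.isOpen.dense hU |>.closure_eq]
    exact hFc.closure_subset_iff.2 hsub
  rw [huniv]
  trivial

end Groth.Agent.TorPts21
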