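import Groth.Agent.Lib.TorPts21.BorelChart
import Groth.Agent.Lib.TorPts21.UnipRadical
import Groth.Agent.Lib.TorPts21.ReductiveCartan
import Groth.Agent.Lib.TorPts21.BorelUnion
import Groth.Agent.Lib.TorPts21.BorelCent
import Groth.Agent.Lib.TorPts21.BorelCentre
import Groth.Agent.Lib.TorPts21.DetChar

/-!
# Chevalley's theorem: Borel subgroups are their own normalisers
-/

set_option autoImplicit false
set_option linter.style.haveILetI false
set_option backward.isDefEq.respectTransparency.types false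
universe u

open CategoryTheory Limits MonoidalCategory CartesianMonoidalCategory MonObj AlgebraicGeometry

noncomputable section

namespace Groth.Agent.TorPts21

open MatGrp21 InvRing21
open scoped Matrix

attribute [local instance] InvRing21.gamAlg BorelFix21.ptsTop

variable {k : Type u} [Field k] [IsAlgClosed k]

/-- The iterated norm map of an endomorphism of a group. -/
def normMap {T : Over (Spec (CommRingCat.of k))} [GrpObj T] (θ : T ⟶ T) : ℕ → (T ⟶ T)
  | 0 => 1
  | i + 1 => 𝟙 T * (θ ≫ normMap θ i)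

/-- An automorphism of a torus induced by a point of the ambient group has finite period on points. -/
theorem exists_period {G T : Over (Spec (CommRingCat.of k))} [GrpObj G] [GrpObj T] [IsAffine G.left]
    [LocallyOfFiniteType G.hom] (iT : T ⟶ G) [IsMonHom iT] [Mono iT] (hT : Red.IsTorus T) (θ : T ≅ T)
    (n : VecGrp.pt k k ⟶ G) (hθ : ∀ τ : VecGrp.pt k k ⟶ T, n * (τ ≫ iT) = ((τ ≫ θ.hom) ≫ iT) * n) :
    ∃ p, 0 < p ∧ ∀ τ : VecGrp.pt k k ⟶ T, (fun w => w ≫ θ.hom)^[p] τ = τ := by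
  classical
  haveI := isClosedImmersion_of_torus hT iT
  obtain ⟨N, r, hr, hrc⟩ := GrassAct21.exists_embedding_GL G
  haveI := hr
  haveI := hrc
  haveI : IsClosedImmersion (iT ≫ r).left := by rw [Over.comp_left]; infer_instance
  obtain ⟨d, ⟨C⟩⟩ := exists_chars hT
  obtain ⟨P, wt, hP⟩ := exists_weights C (iT ≫ r)
  let e : (VecGrp.pt k k ⟶ T) → Fin N → k := fun τ j => ptChr C τ (Multiplicative.ofAdd (wt j))
  let Q : GL (Fin N) k := P * mtx r n * P⁻¹
  have hQ : ∀ τ, Matrix.diagonal (e (τ ≫ θ.hom)) * (Q : Matrix (Fin N) (Fin N) k) =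
      (Q : Matrix (Fin N) (Fin N) k) * Matrix.diagonal (e τ) := fun τ => by
    have h := congrArg (mtx r) (hθ τ)
    rw [map_mul, map_mul, ← mtx_comp iT r, ← mtx_comp iT r] at h
    rw [← hP τ, ← hP (τ ≫ θ.hom), ← Units.val_mul, ← Units.val_mul]
    congr 1
    simp only [Q]
    calc P * mtx (iT ≫ r) (τ ≫ θ.hom) * P⁻¹ * (P * mtx r n * P⁻¹)
        = P * (mtx (iT ≫ r) (τ ≫ θ.hom) * mtx r n) * P⁻¹ := by group
      _ = _ := by rw [← h]; group
  have hrow : ∀ j, ∃ j', (Q : Matrix (Fin N) (Fin N) k) j j' ≠ 0 := fun j => by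
    by_contra! h
    have h1 : ((Q * Q⁻¹ : GL (Fin N) k) : Matrix (Fin N) (Fin N) k) j j = 0 := by
      rw [Units.val_mul, Matrix.mul_apply]
      exact Finset.sum_eq_zero fun x _ => by rw [h x, zero_mul]
    rw [mul_inv_cancel, Units.val_one, Matrix.one_apply_eq] at h1
    exact one_ne_zero h1
  choose π hπ using hrow
  have hstep : ∀ τ j, e (τ ≫ θ.hom) j = e τ (π j) := fun τ j => by
    have h := congrFun (congrFun (hQ τ) j) (π j)
    rw [Matrix.diagonal_mul, Matrix.mul_diagonal, _root_.mul_comm ((Q : Matrix (Fin N) (Fin N) k) j (π j))] at h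
    exact mul_right_cancel₀ (hπ j) h
  have hit : ∀ (i : ℕ) τ j, e ((fun w => w ≫ θ.hom)^[i] τ) j = e τ (π^[i] j) := fun i => by
    induction i with
    | zero => intro τ j; rfl
    | succ i ih => intro τ j; rw [Function.iterate_succ_apply, ih, hstep, ← Function.iterate_succ_apply' π i j]
  obtain ⟨a, b, hab, heq⟩ : ∃ a b : ℕ, a < b ∧ π^[a] = π^[b] := by
    obtain ⟨a, b, hne, heq⟩ := Finite.exists_ne_map_eq_of_infinite fun i : ℕ => π^[i]
    rcases lt_or_gt_of_ne hne with h | h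
    · exact ⟨a, b, h, heq⟩
    · exact ⟨b, a, h, heq.symm⟩
  refine ⟨b - a, Nat.sub_pos_of_lt hab, fun τ => ?_⟩
  have hsurj : Function.Surjective (fun w : VecGrp.pt k k ⟶ T => w ≫ θ.hom)^[a] :=
    Function.Surjective.iterate (fun w => ⟨w ≫ θ.inv, by simp⟩) a
  obtain ⟨w, rfl⟩ := hsurj τ
  rw [← Function.iterate_add_apply]
  refine mtxFn_injective (iT ≫ r) ?_
  rw [← mtx_apply, ← mtx_apply]
  have h1 : ∀ x, mtx (iT ≫ r) x = P⁻¹ * (P * mtx (iT ≫ r) x * P⁻¹) * P := fun x => by group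
  rw [h1, h1 ((fun w : VecGrp.pt k k ⟶ T => w ≫ θ.hom)^[a] w)]
  congr 2
  refine Units.ext ?_
  rw [hP, hP]
  congr 1
  funext j
  show e _ j = e _ j
  rw [hit, hit, show b - a + a = b by omega, heq]

variable {G B T : Over (Spec (CommRingCat.of k))} [GrpObj G] [GrpObj B] [GrpObj T] [IsAffine G.left] [Smooth G.hom]
  [ConnectedSpace G.left]

/-- Functions invariant under a Borel subgroup are constant. -/
theorem const_of_invariant_borel {iB : B ⟶ G} (hB : Red.IsBorelOver k iB) (F : Γ(G.left, ⊤))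
    (hF : ∀ (x : VecGrp.pt k k ⟶ G) (b : VecGrp.pt k k ⟶ B), val (x * (b ≫ iB)) F = val x F)
    (x y : VecGrp.pt k k ⟶ G) : val x F = val y F := by
  obtain ⟨hm, hcl, hs, -⟩ := id hB
  haveI := hm
  haveI := hcl
  haveI := hs
  haveI : IsAffine B.left := isAffine_of_isAffineHom iB.left
  haveI : IsClosedImmersion (𝟙 B ≫ iB).left := by rw [Category.id_comp]; infer_instance
  obtain ⟨X, a, o, hX, hXs, -⟩ := GrassAct21.exists_quotient_affine iB
  haveI := hXs
  haveI : IsProper X.hom := BorelFix21.isProper_of_borel_le hX (𝟙 B) (by rw [Category.id_comp]; exact hB)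
  obtain ⟨hlft, hflat, hsurj, -⟩ := id hX
  haveI := hlft
  haveI := hflat
  haveI := hsurj
  haveI := InvRing21.IsQuotient.quasiCompact hX
  haveI : IsReduced G.left := OrbitTop19.isReduced_of_smooth G.hom
  haveI : IsReduced X.left := H12.isReduced_of_flat_surjective (a.orbitMap o).left
  haveI : IrreducibleSpace G.left := AbRigid.irreducibleSpace_of_isAlgClosed G
  haveI : IrreducibleSpace X.left := by
    haveI : Nonempty X.left := ⟨(a.orbitMap o).left (Classical.arbitrary G.left)⟩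
    refine @IrreducibleSpace.mk _ _ ⟨?_⟩ ‹_›
    rw [← (a.orbitMap o).left.surjective.range_eq, ← Set.image_univ]
    exact (PreirreducibleSpace.isPreirreducible_univ).image _ (a.orbitMap o).left.continuous.continuousOn
  haveI : IsIntegral X.left := isIntegral_of_irreducibleSpace_of_isReduced X.left
  obtain ⟨N, hN, hinv⟩ := BorelFix21.exists_pow_isRTransInv iB F hF
  obtain ⟨Φ, hΦ⟩ := (InvRing21.IsQuotient.appTop_bijOn hX).2 _ hinv
  obtain ⟨c, rfl⟩ := BorelFix21.exists_eq_algebraMap X Φ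
  refine BorelFix21.eq_of_pow_eq F hN c (fun z => ?_) x y
  rw [← map_pow, ← hΦ, appTop_val, AlgHom.commutes, Algebra.algebraMap_self, RingHom.id_apply]

set_option maxHeartbeats 1600000 in
/-- The inductive step of Chevalley's theorem. -/
theorem chevalley_step {iB : B ⟶ G} (hB : Red.IsBorelOver k iB)
    (ih : ∀ (σ C D : Over (Spec (CommRingCat.of k))) [GrpObj σ] [GrpObj C] [GrpObj D] (s : σ ⟶ G) (c : C ⟶ G)
      (dC : D ⟶ C), Red.IsCentralizerOf s c → Red.IsTorus σ → IsMonHom s →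
      (¬ ∀ (g : VecGrp.pt k k ⟶ G) (y : VecGrp.pt k k ⟶ σ), (y ≫ s) * g = g * (y ≫ s)) →
      Red.IsBorelOver k dC → ∀ n : VecGrp.pt k k ⟶ C,
      (∀ b : VecGrp.pt k k ⟶ D, ∃ b', n * (b ≫ dC) * n⁻¹ = b' ≫ dC) → ∃ d : VecGrp.pt k k ⟶ D, d ≫ dC = n)
    (n : VecGrp.pt k k ⟶ G) (hn : ∀ b : VecGrp.pt k k ⟶ B, ∃ b', n * (b ≫ iB) * n⁻¹ = b' ≫ iB) :
    ∃ b : VecGrp.pt k k ⟶ B, b ≫ iB = n := by
  classical
  obtain ⟨hm, hcl, hs, hbn, hsol, -⟩ := id hB
  haveI := hm
  haveI := hcl
  haveI := hs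
  haveI := hbn
  haveI : IsAffine B.left := isAffine_of_isAffineHom iB.left
  haveI : Mono iB := Over.mono_of_mono_left iB
  obtain ⟨T, _, iT, t, hT, ht⟩ := exists_maxTorus_le hB
  obtain ⟨hTm, hTmono, hTtor, -⟩ := id hT
  haveI := hTm
  haveI := hTmono
  obtain ⟨hTa, hTs, hTc, -⟩ := props_of_isTorus hTtor
  haveI := hTa
  haveI := hTs
  haveI := hTc
  haveI := isClosedImmersion_of_torus hTtor iT
  obtain ⟨d, ⟨Ch⟩⟩ := exists_chars hTtor
  have hcomm : ∀ {W : Over (Spec (CommRingCat.of k))} (x y : W ⟶ T), Commute x y := fun x y => commute_of_chars Ch x y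
  haveI : IsMonHom t := BorelFix21.isMonHom_of_comp iB t (ht.symm ▸ hTm)
  -- adjust the point so that it normalises the torus
  obtain ⟨n₀, hn₀⟩ := exists_gpt n
  haveI := isMonHom_conjBy n₀ iT
  obtain ⟨t', ht'⟩ := exists_lift_of_pts iB (AGF.conjBy n₀ iT) fun τ => by
    obtain ⟨b', hb'⟩ := hn (τ ≫ t)
    refine ⟨b', ?_⟩
    rw [← hb', Category.assoc, ht, comp_conjBy, show toUnit (VecGrp.pt k k) ≫ n₀ = n from hn₀]
  obtain ⟨y, θ, -, hθ, -⟩ := exists_conj_of_solvable iB hsol (isMaxTorus_conjBy hT n₀) hT t' ht' t ht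
  let n' : VecGrp.pt k k ⟶ G := (gpt y ≫ iB) * n
  suffices hn' : ∃ b : VecGrp.pt k k ⟶ B, b ≫ iB = n' by
    obtain ⟨b, hb⟩ := hn'
    exact ⟨(gpt y)⁻¹ * b, by rw [MonObj.mul_comp, GrpObj.inv_comp, hb]; simp [n']⟩
  have hnorm : ∀ b : VecGrp.pt k k ⟶ B, ∃ b', n' * (b ≫ iB) * n'⁻¹ = b' ≫ iB := fun b => by
    obtain ⟨b', hb'⟩ := hn b
    refine ⟨gpt y * b' * (gpt y)⁻¹, ?_⟩
    rw [MonObj.mul_comp, MonObj.mul_comp, GrpObj.inv_comp, ← hb']
    simp only [n']
    group
  have hθn : ∀ τ : VecGrp.pt k k ⟶ T, n' * (τ ≫ iT) = ((τ ≫ θ.hom) ≫ iT) * n' := fun τ => by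
    rw [Category.assoc τ θ.hom iT, hθ, comp_conjBy, comp_conjBy,
      show toUnit (VecGrp.pt k k) ≫ n₀ = n from hn₀, ← Category.assoc (toUnit _) y iB]
    simp only [n', gpt]
    group
  clear_value n'
  haveI : IsMonHom θ.hom := BorelFix21.isMonHom_of_comp iT θ.hom (hθ ▸ isMonHom_conjBy _ _)
  obtain ⟨p, hp, hper⟩ := exists_period iT hTtor θ n' hθn
  -- the norm map
  let Nm : T ⟶ T := normMap θ.hom p
  have hNhom : ∀ i, IsMonHom (normMap θ.hom i) := fun i => by
    refine TorsorSch25.isMonHom_of_points _ fun W x y => ?_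
    induction i generalizing x y with
    | zero => simp [normMap, MonObj.comp_one]
    | succ i ih' =>
      simp only [normMap, MonObj.comp_mul, Category.comp_id, ← Category.assoc, MonObj.mul_comp, ih']
      exact (hcomm y (x ≫ θ.hom ≫ normMap θ.hom i)).mul_mul_mul_comm _ _
  haveI := hNhom p
  have hshift : ∀ i (τ : VecGrp.pt k k ⟶ T),
      τ * ((τ ≫ θ.hom) ≫ normMap θ.hom i) = (τ ≫ normMap θ.hom i) * (fun w => w ≫ θ.hom)^[i] τ := fun i => by
    induction i with
    | zero => intro τ; simp [normMap, MonObj.comp_one]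
    | succ i ih' =>
      intro τ
      simp only [normMap, MonObj.comp_mul, Category.comp_id, ← Category.assoc, Function.iterate_succ_apply]
      rw [ih' (τ ≫ θ.hom), _root_.mul_assoc]
  have hfix : ∀ τ : VecGrp.pt k k ⟶ T, (τ ≫ θ.hom) ≫ Nm = τ ≫ Nm := fun τ => by
    have h := hshift p τ
    rw [hper, (hcomm (τ ≫ Nm) τ).eq] at h
    exact mul_left_cancel h
  -- the torus fixed by the point
  let K : Subgroup (VecGrp.pt k k ⟶ T) :=
    { carrier := {τ | τ ≫ θ.hom = τ}
      one_mem' := MonObj.one_comp _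
      mul_mem' := fun {a b} ha hb => by
        show (a * b) ≫ θ.hom = a * b
        rw [MonObj.mul_comp, ha, hb]
      inv_mem' := fun {a} ha => by
        show a⁻¹ ≫ θ.hom = a⁻¹
        rw [GrpObj.inv_comp, ha] }
  have hK : IsClosed (K : Set (VecGrp.pt k k ⟶ T)) := by
    have : (K : Set (VecGrp.pt k k ⟶ T)) =
        (fun τ => τ ≫ (θ.hom * (𝟙 T)⁻¹)) ⁻¹' (InvRing21.img ⁻¹' {img (1 : VecGrp.pt k k ⟶ T)}) := by
      ext τ
      have e : τ ≫ (θ.hom * (𝟙 T)⁻¹) = (τ ≫ θ.hom) * τ⁻¹ := by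
        rw [MonObj.comp_mul, GrpObj.comp_inv, Category.comp_id]
      constructor
      · intro h
        show img (τ ≫ (θ.hom * (𝟙 T)⁻¹)) = img _
        rw [e, show τ ≫ θ.hom = τ from h, mul_inv_cancel]
      · intro h
        exact mul_inv_eq_one.1 (e.symm.trans (pt_ext h))
    rw [this]
    exact ((isClosed_singleton_img _).preimage continuous_induced_dom).preimage (BorelFix21.continuous_comp _)
  obtain ⟨Z, _, jZ, hjZ, hjZc, hZs, hZn, hZK, hZall⟩ := exists_component_of_pts K hK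
  haveI := hjZ
  haveI := hjZc
  haveI := hZs
  haveI := hZn
  haveI : IsAffine Z.left := isAffine_of_isAffineHom jZ.left
  obtain ⟨N₀, r₀, hr₀, hr₀c⟩ := GrassAct21.exists_embedding_GL G
  haveI := hr₀
  haveI := hr₀c
  haveI : IsClosedImmersion (jZ ≫ iT ≫ r₀).left := by rw [Over.comp_left, Over.comp_left]; infer_instance
  obtain ⟨P₀, hP₀⟩ := range_mtx_diag Ch (iT ≫ r₀)
  have hsub : (mtx (jZ ≫ iT ≫ r₀)).range ≤ (mtx (iT ≫ r₀)).range := by
    rintro _ ⟨z, rfl⟩
    exact ⟨z ≫ jZ, (mtx_comp jZ (iT ≫ r₀) z).symm⟩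
  obtain ⟨σ, _, dσ, Cσ, s, hsm, hsmono, hsc, hsr⟩ := exists_torus_subgroup r₀
    (hsub.trans (by rintro _ ⟨x, rfl⟩; exact ⟨x ≫ iT, (mtx_comp iT r₀ x).symm⟩))
    (isClosed_range_mtx (jZ ≫ iT ≫ r₀)) (isPreirreducible_range_mtx' (jZ ≫ iT ≫ r₀)) P₀ fun g hg => hP₀ g (hsub hg)
  haveI := hsm
  haveI := hsmono
  have hσ : Red.IsTorus σ := isTorus_of_chars Cσ
  obtain ⟨hσa, hσs, hσc, -⟩ := props_of_isTorus hσ
  haveI := hσa
  haveI := hσs
  -- points of the fixed torus
  have hσZ : ∀ w : VecGrp.pt k k ⟶ σ, ∃ z : VecGrp.pt k k ⟶ Z, (z ≫ jZ) ≫ iT = w ≫ s := fun w => by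
    obtain ⟨z, hz⟩ := hsr.le ⟨w, rfl⟩
    refine ⟨z, mtxFn_injective r₀ ?_⟩
    rw [← mtx_apply, ← mtx_apply, ← mtx_comp, ← mtx_comp, ← mtx_comp]
    exact hz
  have hσn : ∀ w : VecGrp.pt k k ⟶ σ, n' * (w ≫ s) = (w ≫ s) * n' := fun w => by
    obtain ⟨z, hz⟩ := hσZ w
    have := hθn (z ≫ jZ)
    rw [show (z ≫ jZ) ≫ θ.hom = z ≫ jZ from hZK z, hz] at this
    exact this
  obtain ⟨tσ, htσ⟩ := exists_lift_of_pts iB s fun w => by
    obtain ⟨z, hz⟩ := hσZ w
    exact ⟨(z ≫ jZ) ≫ t, by rw [Category.assoc, ht, hz]⟩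
  by_cases hcent : ∀ (g : VecGrp.pt k k ⟶ G) (w : VecGrp.pt k k ⟶ σ), (w ≫ s) * g = g * (w ≫ s)
  · -- a central fixed torus
    let PN : Subgroup (VecGrp.pt k k ⟶ G) :=
      { carrier := {g | (∀ b : VecGrp.pt k k ⟶ B, ∃ b', g * (b ≫ iB) * g⁻¹ = b' ≫ iB) ∧
          ∀ b : VecGrp.pt k k ⟶ B, ∃ b', g⁻¹ * (b ≫ iB) * g = b' ≫ iB}
        one_mem' := ⟨fun b => ⟨b, by group⟩, fun b => ⟨b, by group⟩⟩
        mul_mem' := fun {x y} hx hy => ⟨fun b => by
          obtain ⟨b', hb'⟩ := hy.1 b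
          obtain ⟨b'', hb''⟩ := hx.1 b'
          exact ⟨b'', by rw [← hb'', ← hb']; group⟩, fun b => by
          obtain ⟨b', hb'⟩ := hx.2 b
          obtain ⟨b'', hb''⟩ := hy.2 b'
          exact ⟨b'', by rw [← hb'', ← hb']; group⟩⟩
        inv_mem' := fun {x} hx => ⟨fun b => by
          obtain ⟨b', hb'⟩ := hx.2 b; exact ⟨b', by rw [← hb']; group⟩, fun b => by
          obtain ⟨b', hb'⟩ := hx.1 b; exact ⟨b', by rw [← hb']; group⟩⟩ }
    let SB : Set (VecGrp.pt k k ⟶ G) := {x | ∃ b : VecGrp.pt k k ⟶ B, b ≫ iB = x}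
    have hSB : IsClosed SB := by
      have : SB = InvRing21.img ⁻¹' Set.range iB.left := by
        ext x
        constructor
        · rintro ⟨b, rfl⟩
          exact ⟨img b, rfl⟩
        · rintro ⟨w, hw⟩
          obtain ⟨b, hb⟩ := BorelFix21.exists_pt_mem (G := B) (Z := iB.left ⁻¹' {img x})
            ((isClosed_singleton_img _).preimage iB.left.continuous).isLocallyClosed ⟨w, hw⟩
          exact ⟨b, pt_ext hb⟩
      rw [this]
      exact iB.left.isClosedEmbedding.isClosed_range.preimage continuous_induced_dom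
    have hPN : IsClosed (PN : Set (VecGrp.pt k k ⟶ G)) := by
      have hc1 : ∀ b : VecGrp.pt k k ⟶ B, Continuous fun g : VecGrp.pt k k ⟶ G => g * (b ≫ iB) * g⁻¹ := fun b => by
        have e : (fun g : VecGrp.pt k k ⟶ G => g * (b ≫ iB) * g⁻¹) =
            fun g => g ≫ (𝟙 G * (toPt G ≫ b ≫ iB) * (𝟙 G)⁻¹) := funext fun g => by
          rw [MonObj.comp_mul, MonObj.comp_mul, GrpObj.comp_inv, Category.comp_id, ← Category.assoc, comp_toPt,
            toPt_pt, Category.id_comp]
        rw [e]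
        exact BorelFix21.continuous_comp _
      have : (PN : Set (VecGrp.pt k k ⟶ G)) = ⋂ b : VecGrp.pt k k ⟶ B,
          ((fun g => g * (b ≫ iB) * g⁻¹) ⁻¹' SB ∩
            (fun g => g⁻¹) ⁻¹' ((fun g => g * (b ≫ iB) * g⁻¹) ⁻¹' SB)) := by
        ext g
        simp only [Set.mem_iInter, Set.mem_inter_iff, Set.mem_preimage, SB, Set.mem_setOf_eq, SetLike.mem_coe,
          inv_inv]
        constructor
        · intro h b
          obtain ⟨b₁, hb₁⟩ := h.1 b
          obtain ⟨b₂, hb₂⟩ := h.2 b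
          exact ⟨⟨b₁, hb₁.symm⟩, b₂, hb₂.symm⟩
        · intro h
          exact ⟨fun b => (h b).1.imp fun _ e => e.symm, fun b => (h b).2.imp fun _ e => e.symm⟩
      rw [this]
      exact isClosed_iInter fun b =>
        (hSB.preimage (hc1 b)).inter ((hSB.preimage (hc1 b)).preimage BorelFix21.continuous_inv)
    obtain ⟨M, _, iM, hMm, hMc, hMs, -, hMpts⟩ := exists_closed_subgroup_of_pts PN hPN
    haveI := hMm
    haveI := hMc
    haveI := hMs
    haveI : IsAffine M.left := isAffine_of_isAffineHom iM.left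
    haveI : Mono iM := Over.mono_of_mono_left iM
    have hnM : ∃ y, y ≫ iM = n' := (hMpts n').2 ⟨hnorm, fun b => by
      -- the inverse also normalises, the Borel subgroup being mapped onto itself
      obtain ⟨g₀, hg₀⟩ := exists_gpt n'
      haveI := isMonHom_conjBy g₀ iB
      obtain ⟨f, hf⟩ := exists_lift_of_pts iB (AGF.conjBy g₀ iB) fun b => by
        obtain ⟨b', hb'⟩ := hnorm b
        exact ⟨b', by rw [← hb', comp_conjBy, show toUnit (VecGrp.pt k k) ≫ g₀ = n' from hg₀]⟩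
      haveI := isMonHom_conjBy g₀⁻¹ iB
      haveI := isClosedImmersion_conjBy g₀⁻¹ iB
      have hf' : f ≫ AGF.conjBy g₀⁻¹ iB = iB := by
        rw [comp_conjBy, hf, AGF.conjBy, GrpObj.comp_inv]
        group
      haveI : IsIso f := hB.2.2.2.2.2 B (AGF.conjBy g₀⁻¹ iB) f inferInstance hs hbn hsol hf'
      refine ⟨b ≫ inv f, ?_⟩
      have h := congrArg (b ≫ inv f ≫ ·) hf
      simp only [IsIso.inv_hom_id_assoc] at h
      rw [comp_conjBy, comp_conjBy, show toUnit (VecGrp.pt k k) ≫ g₀ = n' from hg₀] at h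
      simp only [Category.assoc] at h ⊢
      rw [h]
      group⟩
    obtain ⟨m, r, hr, c, χ, hχ, hsemi, -, hne, hsep⟩ := exists_lineRep iM
    haveI := hr
    haveI := hχ
    let l : (VecGrp.pt k k ⟶ M) → k := fun h => val h (Red.gmFn χ)
    obtain ⟨β, hβ⟩ := hne 1
    have hl1 : l 1 = 1 := ((hsemi β).mult hβ).1
    have hlm : ∀ h h', l (h * h') = l h * l h' := fun h h' => (((hsemi β).mult hβ).2 h h').trans (_root_.mul_comm _ _)
    have hl0 : ∀ h, l h ≠ 0 := (hsemi β).ne_zero hβ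
    have hcβ : c β ≠ 0 := fun h => hβ (by rw [h, map_zero])
    obtain ⟨jB, hjB⟩ := exists_lift_of_pts iM iB fun b => (hMpts _).2
      ⟨fun b' => ⟨b * b' * b⁻¹, by rw [MonObj.mul_comp, MonObj.mul_comp, GrpObj.inv_comp]⟩,
       fun b' => ⟨b⁻¹ * b' * b, by rw [MonObj.mul_comp, MonObj.mul_comp, GrpObj.inv_comp]⟩⟩
    haveI : IsMonHom jB := BorelFix21.isMonHom_of_comp iM jB (hjB ▸ hm)
    obtain ⟨e, ψ, he, hψ1, hψm, hψs⟩ := exists_det_char s (fun w => l (w ≫ tσ ≫ jB))
      (fun w g => hcent g w) (f := c β) (fun x w => by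
        have h := hsemi β x (w ≫ tσ ≫ jB)
        rwa [Category.assoc, Category.assoc, hjB, htσ] at h) hcβ
    have hψinv : ∀ g : VecGrp.pt k k ⟶ G, val g⁻¹ ψ * val g ψ = 1 := fun g => by rw [← hψm, inv_mul_cancel, hψ1]
    -- the modified character
    let L : (VecGrp.pt k k ⟶ M) → k := fun h => l h ^ e * val (h ≫ iM)⁻¹ ψ
    have hLm : ∀ h h', L (h * h') = L h * L h' := fun h h' => by
      simp only [L, hlm, MonObj.mul_comp, mul_inv_rev, hψm, mul_pow]
      ring
    have hLsub : ∀ w, L (w ≫ tσ ≫ jB) = 1 := fun w => by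
      simp only [L, Category.assoc, hjB, htσ]
      rw [← hψs, _root_.mul_comm, hψinv]
    have hLT : ∀ τ : VecGrp.pt k k ⟶ T, L ((τ ≫ t) ≫ jB) = 1 := by
      obtain ⟨yM, hyM⟩ := hnM
      have hLinv : ∀ τ : VecGrp.pt k k ⟶ T, L (((τ ≫ θ.hom) ≫ t) ≫ jB) = L ((τ ≫ t) ≫ jB) := fun τ => by
        have hkey : ((τ ≫ θ.hom) ≫ t) ≫ jB = yM * ((τ ≫ t) ≫ jB) * yM⁻¹ := (cancel_mono iM).1 (by
          rw [MonObj.mul_comp, MonObj.mul_comp, GrpObj.inv_comp, hyM]
          simp only [Category.assoc, hjB, ht]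
          rw [← Category.assoc τ θ.hom iT, hθn τ, mul_inv_cancel_right])
        have h1 : L yM * L yM⁻¹ = 1 := by
          rw [← hLm, mul_inv_cancel]
          simp only [L, MonObj.one_comp, inv_one, hψ1, hl1, one_pow, _root_.mul_one]
        rw [hkey, hLm, hLm, mul_right_comm, h1, _root_.one_mul]
      let ev : (VecGrp.pt k k ⟶ T) → k := fun τ => L ((τ ≫ t) ≫ jB)
      have hev : ∀ a b, ev (a * b) = ev a * ev b := fun a b => by
        simp only [ev, MonObj.mul_comp, hLm]
      have hNm : ∀ i τ, ev (τ ≫ normMap θ.hom i) = ev τ ^ i := fun i => by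
        induction i with
        | zero =>
          intro τ
          simp only [normMap, MonObj.comp_one, ev, MonObj.one_comp, L, hl1, inv_one, hψ1, one_pow, pow_zero,
            _root_.mul_one]
        | succ i ih' =>
          intro τ
          simp only [normMap, MonObj.comp_mul, Category.comp_id, hev, ← Category.assoc, ih']
          show ev τ * ev (τ ≫ θ.hom) ^ i = _
          rw [show ev (τ ≫ θ.hom) = ev τ from hLinv τ, pow_succ' (ev τ)]
      obtain ⟨fZ, hfZ⟩ := hZall T Nm fun τ => by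
        show (τ ≫ Nm) ≫ θ.hom = τ ≫ Nm
        rw [← hfix τ]
        have hNθ : ∀ i, normMap θ.hom i ≫ θ.hom = θ.hom ≫ normMap θ.hom i := fun i => by
          induction i with
          | zero => simp [normMap, MonObj.one_comp, MonObj.comp_one]
          | succ i ih' =>
            simp only [normMap, MonObj.mul_comp, MonObj.comp_mul, Category.id_comp, Category.comp_id,
              Category.assoc, ih']
        rw [hfix τ, Category.assoc τ Nm θ.hom, hNθ, ← Category.assoc, hfix]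
      have hpow : ∀ τ, ev τ ^ p = 1 := fun τ => by
        rw [← hNm p τ]
        show ev (τ ≫ Nm) = 1
        have hmem : mtx (iT ≫ r₀) (τ ≫ Nm) ∈ (mtx (jZ ≫ iT ≫ r₀)).range :=
          ⟨τ ≫ fZ, by rw [mtx_comp jZ, Category.assoc, hfZ]⟩
        obtain ⟨w, hw⟩ := hsr.ge hmem
        have hws : w ≫ s = (τ ≫ Nm) ≫ iT := mtxFn_injective r₀ (by
          rw [← mtx_apply, ← mtx_apply, ← mtx_comp, ← mtx_comp]
          exact hw)
        have : ((τ ≫ Nm) ≫ t) ≫ jB = w ≫ tσ ≫ jB := (cancel_mono iM).1 (by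
          simp only [Category.assoc, hjB, ht, htσ]
          rw [hws, Category.assoc])
        show L (((τ ≫ Nm) ≫ t) ≫ jB) = 1
        rw [this, hLsub]
      intro τ
      let Fev : Γ(T.left, ⊤) := (t ≫ jB).left.appTop (Red.gmFn χ) ^ e *
        ((t ≫ jB ≫ iM)⁻¹).left.appTop ψ
      have hFev : ∀ x, val x Fev = ev x := fun x => by
        show val x (_ * _) = _
        rw [map_mul, map_pow, appTop_val, appTop_val, GrpObj.comp_inv]
        simp only [ev, L, l, Category.assoc]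
      rw [show L ((τ ≫ t) ≫ jB) = ev τ from rfl, ← hFev,
        BorelFix21.eq_of_pow_eq Fev hp 1 (fun x => by rw [hFev, hpow]) τ 1, hFev]
      simp only [ev, MonObj.one_comp, L, hl1, inv_one, hψ1, one_pow, _root_.mul_one]
    have hLB : ∀ b : VecGrp.pt k k ⟶ B, L (b ≫ jB) = 1 := by
      obtain ⟨U, _, u, hU, -⟩ := exists_unipotentRadical_connected B
      obtain ⟨hum, huc, -, hus, -, hucon, huns, -⟩ := (isUnipotentRadical_iff u).1 hU
      haveI := hum
      haveI := huc
      haveI := hus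
      haveI := hucon
      haveI : IsAffine U.left := isAffine_of_isAffineHom u.left
      haveI : Mono (t ≫ iB) := ht.symm ▸ hTmono
      haveI : Mono t := mono_of_mono t iB
      have htmax : AGF.IsMaxTorus t := ⟨inferInstance, inferInstance, hTtor, fun T' _ j _ _ f hT' hf =>
        hT.2.2.2 T' (j ≫ iB) f hT' (by rw [← Category.assoc, hf, ht])⟩
      let Pχ : Subgroup (VecGrp.pt k k ⟶ B) :=
        { carrier := {b | L (b ≫ jB) = 1}
          one_mem' := by
            show L ((1 : VecGrp.pt k k ⟶ B) ≫ jB) = 1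
            simp only [MonObj.one_comp, L, hl1, inv_one, hψ1, one_pow, _root_.mul_one]
          mul_mem' := fun {a b} ha hb => by
            show L ((a * b) ≫ jB) = 1
            rw [MonObj.mul_comp, hLm, ha, hb, _root_.mul_one]
          inv_mem' := fun {a} ha => by
            show L (a⁻¹ ≫ jB) = 1
            have h := hLm (a⁻¹ ≫ jB) (a ≫ jB)
            rw [← MonObj.mul_comp, inv_mul_cancel, ha, _root_.mul_one] at h
            rw [← h]
            simp only [MonObj.one_comp, L, hl1, inv_one, hψ1, one_pow, _root_.mul_one] }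
      haveI : Pχ.Normal := ⟨fun x hx g => by
        have h1 : L (g ≫ jB) * L (g⁻¹ ≫ jB) = 1 := by
          rw [← hLm, ← MonObj.mul_comp, mul_inv_cancel]
          exact Pχ.one_mem
        show L ((g * x * g⁻¹) ≫ jB) = 1
        rw [MonObj.mul_comp, MonObj.mul_comp, hLm, hLm, show L (x ≫ jB) = 1 from hx, _root_.mul_one, h1]⟩
      have htop := eq_top_of_cartan hU htmax Pχ hLT fun w => by
        let Fu : Γ(U.left, ⊤) := (u ≫ jB).left.appTop (Red.gmFn χ) ^ e * ((u ≫ jB ≫ iM)⁻¹).left.appTop ψ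
        have hFu : ∀ x, val x Fu = L ((x ≫ u) ≫ jB) := fun x => by
          show val x (_ * _) = _
          rw [map_mul, map_pow, appTop_val, appTop_val, GrpObj.comp_inv]
          simp only [L, l, Category.assoc]
        show L ((w ≫ u) ≫ jB) = 1
        rw [← hFu]
        refine eq_one_of_char huns Fu (fun a b => by rw [hFu, hFu, hFu, MonObj.mul_comp, MonObj.mul_comp, hLm])
          (fun a => ?_) w
        rw [hFu]
        exact mul_ne_zero (pow_ne_zero _ (hl0 _)) (left_ne_zero_of_mul_eq_one (hψinv _))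
      exact fun b => htop.ge (Subgroup.mem_top b)
    -- constant functions
    let F : Fin m → Γ(G.left, ⊤) := fun α => c α * c β ^ (e - 1) * ((𝟙 G)⁻¹ : G ⟶ G).left.appTop ψ
    have hF : ∀ (x : VecGrp.pt k k ⟶ G) α, val x (F α) = val x (c α) * val x (c β) ^ (e - 1) * val x⁻¹ ψ := fun x α => by
      show val x (c α * _ * _) = _
      rw [map_mul, map_mul, map_pow, appTop_val, GrpObj.comp_inv, Category.comp_id]
    have hFinv : ∀ α (x : VecGrp.pt k k ⟶ G) (b : VecGrp.pt k k ⟶ B), val (x * (b ≫ iB)) (F α) = val x (F α) := by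
      intro α x b
      have h1 := hLB b
      simp only [L, Category.assoc, hjB] at h1
      rw [hF, hF, mul_inv_rev, hψm, show b ≫ iB = (b ≫ jB) ≫ iM by rw [Category.assoc, hjB], hsemi, hsemi]
      rw [Category.assoc, hjB]
      obtain ⟨e', rfl⟩ : ∃ e', e = e' + 1 := ⟨e - 1, by omega⟩
      rw [Nat.add_sub_cancel, mul_pow]
      rw [pow_succ] at h1
      linear_combination (val x (c α) * val x (c β) ^ e' * val x⁻¹ ψ) * h1
    have hall : ∀ g : VecGrp.pt k k ⟶ G, g ∈ PN := fun g => by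
      refine (hMpts g).1 (hsep g fun α γ' => ?_)
      have hc1 := fun δ => const_of_invariant_borel hB (F δ) (hFinv δ) g 1
      simp only [hF, inv_one, hψ1, _root_.mul_one] at hc1
      have hb := hc1 β
      have hne0 : val g (c β) ^ (e - 1) * val g⁻¹ ψ ≠ 0 := by
        intro h0
        rw [_root_.mul_assoc, h0, mul_zero] at hb
        exact mul_ne_zero hβ (pow_ne_zero _ hβ) hb.symm
      refine mul_right_cancel₀ hne0 ?_
      linear_combination val (1 : VecGrp.pt k k ⟶ G) (c γ') * hc1 α - val (1 : VecGrp.pt k k ⟶ G) (c α) * hc1 γ'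
    obtain ⟨g₀, hg₀⟩ := exists_gpt n'
    obtain ⟨x, b, hxb⟩ := exists_conj_mem_borel iB hB g₀
    obtain ⟨b', hb'⟩ := (hall (gpt x)).1 (gpt b)
    refine ⟨b', ?_⟩
    rw [← hb', ← hg₀, ← hxb]
    simp only [gpt, MonObj.comp_mul, GrpObj.comp_inv, Category.assoc]
  · -- a non-central fixed torus: pass to its centraliser
    obtain ⟨C, _, c, hc, hci, -⟩ :=
      MTRigid29.exists_centralizer (MTRigid29.isMT_of_ft (isMultTypeFT_of_isTorus hσ)) ‹_› inferInstance s
    obtain ⟨hcm, -, hcs, hca⟩ := centralizer_props hσ hc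
    haveI := hcm
    haveI := hci
    haveI := hcs
    haveI := hca
    haveI : Mono c := Over.mono_of_mono_left c
    obtain ⟨g₀, hg₀⟩ := exists_gpt n'
    obtain ⟨z, hz⟩ := exists_lift_centralizer_pt hσ hc g₀ fun w => by
      show (toUnit (VecGrp.pt k k) ≫ g₀) * (w ≫ s) = (w ≫ s) * (toUnit (VecGrp.pt k k) ≫ g₀)
      rw [show toUnit (VecGrp.pt k k) ≫ g₀ = n' from hg₀]
      exact hσn w
    have hzc : gpt z ≫ c = n' := by rw [gpt, Category.assoc, hz]; exact hg₀
    let D : Over (Spec (CommRingCat.of k)) := Over.mk (pullback.fst c.left iB.left ≫ C.hom)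
    let dC : D ⟶ C := Over.homMk (pullback.fst c.left iB.left) rfl
    let dB : D ⟶ B := Over.homMk (pullback.snd c.left iB.left) (by
      show _ ≫ B.hom = pullback.fst c.left iB.left ≫ C.hom
      rw [← Over.w iB, ← pullback.condition_assoc, Over.w c])
    have hD : IsPullback dC dB c iB := IsPullback.of_map (Over.forget _) (Over.OverMorphism.ext pullback.condition)
      (IsPullback.of_hasPullback c.left iB.left)
    haveI : Mono dC := hD.mono_fst_of_mono
    obtain ⟨hDg, hdC⟩ := MTRigid29.exists_grpObj_of_subgroup dC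
      (fun X a b => by
        obtain ⟨w, hw, -⟩ := hD.exists_lift ((a ≫ dC) * (b ≫ dC)) ((a ≫ dB) * (b ≫ dB)) (by
          simp only [MonObj.mul_comp, Category.assoc, hD.w])
        exact ⟨w, hw⟩)
      (by
        obtain ⟨w, hw, -⟩ := hD.exists_lift (1 : 𝟙_ (Over (Spec (CommRingCat.of k))) ⟶ C) 1 (by
          simp only [MonObj.one_comp])
        exact ⟨w, hw⟩)
      (fun X a => by
        obtain ⟨w, hw, -⟩ := hD.exists_lift (a ≫ dC)⁻¹ (a ≫ dB)⁻¹ (by
          simp only [GrpObj.inv_comp, Category.assoc, hD.w])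
        exact ⟨w, hw⟩)
    letI := hDg
    haveI := hdC
    have hBD := isBorelOver_inter hσ hB tσ htσ hc dC dB hD
    obtain ⟨w, hw⟩ := ih σ C D s c dC hc hσ hsm hcent hBD (gpt z) fun b => by
      obtain ⟨b', hb'⟩ := hnorm (b ≫ dB)
      obtain ⟨w, hw, -⟩ := hD.exists_lift (gpt z * (b ≫ dC) * (gpt z)⁻¹) b' (by
        rw [MonObj.mul_comp, MonObj.mul_comp, GrpObj.inv_comp, hzc, Category.assoc b dC c, hD.w, ← Category.assoc,
          hb'])
      exact ⟨w, hw.symm⟩
    exact ⟨w ≫ dB, by rw [Category.assoc, ← hD.w, ← Category.assoc, hw, hzc]⟩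

set_option maxHeartbeats 800000 in
omit [GrpObj B] [GrpObj T] in
/-- Chevalley's theorem on rational points: a point normalising a Borel subgroup lies in it. -/
theorem exists_pt_borel_of_normalize {B : Over (Spec (CommRingCat.of k))} [GrpObj B] {iB : B ⟶ G}
    (hB : Red.IsBorelOver k iB) (n : VecGrp.pt k k ⟶ G)
    (hn : ∀ b : VecGrp.pt k k ⟶ B, ∃ b', n * (b ≫ iB) * n⁻¹ = b' ≫ iB) :
    ∃ b : VecGrp.pt k k ⟶ B, b ≫ iB = n := by
  suffices h : ∀ S : TopologicalSpace.Closeds G.left, ∀ (C : Over (Spec (CommRingCat.of k))) [GrpObj C] (c : C ⟶ G)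
      [IsMonHom c], IsClosedImmersion c.left → Smooth C.hom → ConnectedSpace C.left →
      Set.range c.left = (S : Set G.left) →
      ∀ (D : Over (Spec (CommRingCat.of k))) [GrpObj D] (iD : D ⟶ C), Red.IsBorelOver k iD →
      ∀ m : VecGrp.pt k k ⟶ C, (∀ b : VecGrp.pt k k ⟶ D, ∃ b', m * (b ≫ iD) * m⁻¹ = b' ≫ iD) →
      ∃ d : VecGrp.pt k k ⟶ D, d ≫ iD = m by
    exact h ⟨Set.univ, isClosed_univ⟩ G (𝟙 G) (inferInstanceAs (IsClosedImmersion (𝟙 G.left))) inferInstance
      inferInstance (Set.range_id) B iB hB n hn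
  haveI : IsNoetherian G.left := by
    haveI : IsLocallyNoetherian G.left := LocallyOfFiniteType.isLocallyNoetherian G.hom
    exact ⟨⟩
  intro S
  induction S using (wellFounded_lt (α := TopologicalSpace.Closeds G.left)).induction with
  | _ S ihS =>
    intro C _ c _ hcc hcs hcn hr D _ iD hD m hm
    haveI := hcc
    haveI := hcs
    haveI := hcn
    haveI : IsAffine C.left := isAffine_of_isAffineHom c.left
    refine chevalley_step hD (fun σ C' D' _ _ _ s c' dC hc' hσ hsm hnc hD' m' hm' => ?_) m hm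
    haveI := hsm
    obtain ⟨hc'm, hc'c, hc's, hc'a⟩ := centralizer_props hσ hc'
    haveI := hc'm
    haveI := hc'c
    haveI := hc's
    haveI := hc'a
    haveI hc'n : ConnectedSpace C'.left := connectedSpace_centralizer_closed hσ hc'
    haveI : IsClosedImmersion (c' ≫ c).left := by rw [Over.comp_left]; infer_instance
    refine ihS ⟨Set.range (c' ≫ c).left, (c' ≫ c).left.isClosedEmbedding.isClosed_range⟩ ?_ C' (c' ≫ c)
      inferInstance hc's hc'n rfl D' dC hD' m' hm'
    refine lt_of_le_of_ne (fun x hx => ?_) fun he => hnc fun g w => ?_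
    · show x ∈ (S : Set G.left)
      rw [← hr]
      obtain ⟨z, rfl⟩ := hx
      exact ⟨c'.left z, rfl⟩
    · have hmem : InvRing21.img (g ≫ c) ∈ Set.range (c' ≫ c).left := by
        rw [show Set.range (c' ≫ c).left = (S : Set G.left) from congrArg SetLike.coe he, ← hr]
        exact ⟨InvRing21.img g, rfl⟩
      obtain ⟨z, hz⟩ := hmem
      obtain ⟨z', hz'⟩ := BorelFix21.exists_pt_mem (G := C') (Z := (c' ≫ c).left ⁻¹' {InvRing21.img (g ≫ c)})
        ((isClosed_singleton_img _).preimage (c' ≫ c).left.continuous).isLocallyClosed ⟨z, hz⟩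
      haveI : Mono c := Over.mono_of_mono_left c
      have hg : z' ≫ c' = g := (cancel_mono c).1 (by rw [Category.assoc]; exact pt_ext hz')
      rw [← hg]
      exact (centralizer_comm hc' z' w).symm

end Groth.Agent.TorPts21
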