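import Groth.Agent.Lib.TorPts21.Radical
import Groth.Agent.Lib.TorPts21.QuotientAffine
import Groth.Agent.Lib.MTRigid29.HomGa

/-!
# The image of the unipotent radical
-/

set_option autoImplicit false
set_option linter.style.haveILetI false
set_option backward.isDefEq.respectTransparency.types false
universe u

open CategoryTheory Limits MonoidalCategory CartesianMonoidalCategory MonObj AlgebraicGeometry

noncomputable section

namespace Groth.Agent.TorPts21

attribute [local instance] InvRing21.gamAlg BorelFix21.ptsTop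

variable {k : Type u} [Field k] [IsAlgClosed k]

/-- The image of a connected group without subtori has no subtorus. -/
theorem hasNoSubtorus_image {U H : Over (Spec (CommRingCat.of k))} [GrpObj U] [GrpObj H] [IsAffine U.left]
    [Smooth U.hom] [ConnectedSpace U.left] [IsAffine H.left] [Smooth H.hom] [ConnectedSpace H.left] (q : U ⟶ H)
    [IsMonHom q] [Surjective q.left] (hU : Red.HasNoSubtorus k U) : Red.HasNoSubtorus k H := by
  obtain ⟨T, _, iT, hT⟩ := exists_maxTorus U
  haveI := hT.1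
  haveI := hT.2.1
  haveI hiso : IsIso T.hom := hU T iT hT.2.2.1
  haveI : IsClosedImmersion η[H].left := isClosedImmersion_of_comp_eq_id H.hom η[H].left (Over.w η[H])
  haveI : IsReduced (𝟙_ (Over (Spec (CommRingCat.of k)))).left :=
    inferInstanceAs (IsReduced (Spec (CommRingCat.of k)))
  haveI : IsMonHom η[H] := TorsorSch25.isMonHom_of_points η[H] fun W x y => by
    have h : ∀ z : W ⟶ 𝟙_ (Over (Spec (CommRingCat.of k))), z ≫ η[H] = 1 := fun z => by
      rw [Hom.one_def, toUnit_unique z (toUnit W)]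
    rw [h, h, h, _root_.mul_one]
  haveI : Surjective (toUnit T).left := inferInstanceAs (Surjective T.hom)
  have h1 : iT ≫ q = toUnit T ≫ η[H] := by
    have h2 : 𝟙 T = toUnit T ≫ η[T] := Over.OverMorphism.ext (by
      rw [← cancel_mono T.hom, Over.w, Over.w])
    calc iT ≫ q = (𝟙 T ≫ iT) ≫ q := by rw [Category.id_comp]
      _ = toUnit T ≫ η[H] := by rw [h2, Category.assoc, Category.assoc, IsMonHom.one_hom_assoc, IsMonHom.one_hom]
  have hmax := isMaxTorus_image q hT (iT' := η[H]) (toUnit T) h1.symm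
  intro T' _ j _ _ hT'
  haveI : IsIso η[T'] := hmax.2.2.2 T' j η[T'] hT' (IsMonHom.one_hom j)
  haveI : IsIso η[T'].left := inferInstanceAs (IsIso ((Over.forget _).map η[T']))
  show IsIso T'.hom
  rw [← isIso_comp_left_iff η[T'].left, show η[T'].left ≫ T'.hom = 𝟙 _ from Over.w η[T']]
  infer_instance

variable {G G' : Over (Spec (CommRingCat.of k))} [GrpObj G] [GrpObj G'] [IsAffine G.left] [Smooth G.hom]
  [ConnectedSpace G.left] [IsAffine G'.left] [Smooth G'.hom] [ConnectedSpace G'.left]
  {U U' : Over (Spec (CommRingCat.of k))} [GrpObj U] [GrpObj U']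

set_option maxHeartbeats 1600000 in
/-- A surjective homomorphism maps the unipotent radical onto the unipotent radical. -/
theorem exists_image_radical (π : G ⟶ G') [IsMonHom π] [Surjective π.left] {u : U ⟶ G}
    (hU : Par.IsUnipotentRadical u) {u' : U' ⟶ G'} (hU' : Par.IsUnipotentRadical u') :
    ∃ f : U ⟶ U', f ≫ u' = u ≫ π ∧ Surjective f.left := by
  obtain ⟨hum, huc, hun, hus, -, hucon, huns, -⟩ := (isUnipotentRadical_iff u).1 hU
  haveI := hum
  haveI := huc
  haveI := hus
  haveI := hucon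
  haveI : IsAffine U.left := isAffine_of_isAffineHom u.left
  obtain ⟨hum', huc', hun', hus', -, hucon', huns', huniv'⟩ := (isUnipotentRadical_iff u').1 hU'
  haveI := hum'
  haveI := huc'
  haveI := hus'
  haveI := hucon'
  haveI : IsAffine U'.left := isAffine_of_isAffineHom u'.left
  haveI : Mono u' := Over.mono_of_mono_left u'
  -- the image
  obtain ⟨H, _, i, p, hi, hic, hHr, hsurj, hpi⟩ := BorelFix21.exists_image (u ≫ π)
  haveI := hi
  haveI := hic
  haveI := hHr
  haveI := hsurj
  haveI : IsAffine H.left := isAffine_of_isAffineHom i.left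
  haveI : LocallyOfFiniteType H.hom := by rw [← Over.w i]; infer_instance
  haveI : Smooth H.hom := GrpSmooth19.smooth_of_isReduced H
  haveI : Mono i := Over.mono_of_mono_left i
  haveI : IsMonHom p := BorelFix21.isMonHom_of_comp i p (hpi ▸ inferInstance)
  haveI : PreconnectedSpace H.left := p.left.surjective.denseRange.preconnectedSpace p.left.continuous
  haveI : ConnectedSpace H.left := { toNonempty := ⟨p.left (Classical.arbitrary U.left)⟩ }
  have hHn : AlgGrp.IsNormalHom i := isNormalHom_of_pts i fun g x => by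
    obtain ⟨γ₀, rfl⟩ := BorelFix21.exists_pt_lift π g
    obtain ⟨w, rfl⟩ := BorelFix21.exists_pt_lift p x
    obtain ⟨w', hw'⟩ := hun _ γ₀ w
    refine ⟨w' ≫ p, ?_⟩
    rw [Category.assoc, Category.assoc, hpi, ← Category.assoc w' u π, ← hw', MonObj.mul_comp, MonObj.mul_comp,
      GrpObj.inv_comp, Category.assoc]
  obtain ⟨φ, hφ⟩ := huniv' H i hic hHn inferInstance inferInstance inferInstance (hasNoSubtorus_image p huns)
  suffices hall : ∀ q : VecGrp.pt k k ⟶ U', ∃ x, x ≫ i = q ≫ u' by
    obtain ⟨ψ, hψ⟩ := exists_lift_of_pts i u' hall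
    haveI : IsIso φ := ⟨ψ, (cancel_mono i).1 (by rw [Category.assoc, hψ, hφ, Category.id_comp]),
      (cancel_mono u').1 (by rw [Category.assoc, hφ, hψ, Category.id_comp])⟩
    haveI : IsIso φ.left := inferInstanceAs (IsIso ((Over.forget _).map φ))
    exact ⟨p ≫ φ, by rw [Category.assoc, hφ, hpi], by rw [Over.comp_left]; infer_instance⟩
  -- the preimage of the radical and its identity component
  let P₀ : Subgroup (VecGrp.pt k k ⟶ G) := (ptsHom u').range.comap (ptsHom π)
  have hP₀ : IsClosed (P₀ : Set (VecGrp.pt k k ⟶ G)) := by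
    have : (P₀ : Set (VecGrp.pt k k ⟶ G)) =
        (fun x => x ≫ π) ⁻¹' (InvRing21.img ⁻¹' Set.range u'.left) := by
      ext x
      constructor
      · rintro ⟨w, hw⟩
        exact ⟨InvRing21.img w, congrArg InvRing21.img hw⟩
      · rintro ⟨w, hw⟩
        obtain ⟨w', hw'⟩ := BorelFix21.exists_pt_mem (G := U')
          (Z := u'.left ⁻¹' {InvRing21.img (x ≫ π)})
          ((isClosed_singleton_img _).preimage u'.left.continuous).isLocallyClosed ⟨w, hw⟩
        exact ⟨w', pt_ext hw'⟩
    rw [this]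
    exact (u'.left.isClosedEmbedding.isClosed_range.preimage continuous_induced_dom).preimage
      (BorelFix21.continuous_comp π)
  obtain ⟨Z, _, jZ, hjZ, hjZc, hZs, -, hZpts⟩ := exists_closed_subgroup_of_pts P₀ hP₀
  haveI := hjZ
  haveI := hjZc
  haveI := hZs
  haveI : IsAffine Z.left := isAffine_of_isAffineHom jZ.left
  haveI : Mono jZ := Over.mono_of_mono_left jZ
  obtain ⟨pZ, hpZ⟩ := exists_lift_of_pts u' (jZ ≫ π) fun z => by
    obtain ⟨w, hw⟩ := (hZpts _).1 ⟨z, rfl⟩
    exact ⟨w, by rw [← Category.assoc]; exact hw⟩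
  haveI : IsMonHom pZ := BorelFix21.isMonHom_of_comp u' pZ (hpZ ▸ inferInstance)
  have hpZs : ∀ q : VecGrp.pt k k ⟶ U', ∃ z, z ≫ pZ = q := fun q => by
    obtain ⟨x, hx⟩ := BorelFix21.exists_pt_lift π (q ≫ u')
    obtain ⟨z, rfl⟩ := (hZpts x).2 ⟨q, hx.symm⟩
    exact ⟨z, (cancel_mono u').1 (by rw [Category.assoc, hpZ, ← hx, Category.assoc])⟩
  obtain ⟨N, _, j₀, hj₀, hj₀o, hNc⟩ := BorelFix21.exists_identity_component Z
  haveI := hj₀
  haveI := hj₀o
  haveI := hNc
  haveI := InvRing21.isClosedImmersion_of_open_subgroup j₀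
  haveI : Smooth N.hom := InvRing21.smooth_of_openImmersion j₀
  haveI : IsAffine N.left := isAffine_of_isAffineHom j₀.left
  haveI : IsClosedImmersion (j₀ ≫ jZ).left := by rw [Over.comp_left]; infer_instance
  have hNn : AlgGrp.IsNormalHom (j₀ ≫ jZ) := isNormalHom_of_pts (j₀ ≫ jZ) fun g x => by
    obtain ⟨g₀, hg₀⟩ := exists_gpt g
    haveI := isMonHom_conjBy g₀ (j₀ ≫ jZ)
    obtain ⟨l, hl⟩ := exists_lift_of_pts jZ (AGF.conjBy g₀ (j₀ ≫ jZ)) fun y => (hZpts _).2 (by
      obtain ⟨w, hw⟩ := (hZpts _).1 ⟨y ≫ j₀, rfl⟩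
      obtain ⟨w', hw'⟩ := hun' _ (g ≫ π) w
      refine ⟨w', ?_⟩
      show w' ≫ u' = (y ≫ AGF.conjBy g₀ (j₀ ≫ jZ)) ≫ π
      rw [← hw', comp_conjBy, show toUnit (VecGrp.pt k k) ≫ g₀ = g from hg₀, MonObj.mul_comp, MonObj.mul_comp,
        GrpObj.inv_comp, ← Category.assoc y]
      congr 2)
    haveI : IsMonHom l := BorelFix21.isMonHom_of_comp jZ l (hl ▸ inferInstance)
    obtain ⟨l₀, hl₀⟩ := BorelFix21.exists_lift_component j₀ j₀.left.isClosedEmbedding.isClosed_range l
    refine ⟨x ≫ l₀, ?_⟩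
    rw [Category.assoc, ← Category.assoc l₀, hl₀, hl, comp_conjBy, show toUnit (VecGrp.pt k k) ≫ g₀ = g from hg₀]
  obtain ⟨V, _, v, hV, -⟩ := exists_unipotentRadical_connected N
  obtain ⟨fV, hfV⟩ := exists_lift_radical_of_normal hU hNn hV
  obtain ⟨T, _, iT, hT⟩ := exists_maxTorus N
  haveI := hT.1
  let P : Subgroup (VecGrp.pt k k ⟶ N) := (ptsHom i).range.comap (ptsHom ((j₀ ≫ jZ) ≫ π))
  haveI : ((ptsHom i).range).Normal := ⟨by
    rintro _ ⟨x, rfl⟩ g
    obtain ⟨x', hx'⟩ := hHn _ g x
    exact ⟨x', hx'.symm⟩⟩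
  have htop : P = ⊤ := eq_top_of_cartan hV hT P
    (fun t => ⟨1, by
      show (1 : VecGrp.pt k k ⟶ H) ≫ i = (t ≫ iT) ≫ (j₀ ≫ jZ) ≫ π
      rw [MonObj.one_comp, Category.assoc j₀, ← hpZ, ← Category.assoc (t ≫ iT), ← Category.assoc,
        Category.assoc t iT j₀, Category.assoc t (iT ≫ j₀) pZ,
        pt_torus_hom_eq_one hT.2.2.1 huns' ((iT ≫ j₀) ≫ pZ) t, MonObj.one_comp]⟩)
    (fun w => ⟨(w ≫ fV) ≫ p, by
      show ((w ≫ fV) ≫ p) ≫ i = (w ≫ v) ≫ (j₀ ≫ jZ) ≫ π
      rw [Category.assoc (w ≫ fV), hpi, Category.assoc w fV, ← Category.assoc fV, hfV]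
      simp only [Category.assoc]⟩)
  intro q
  obtain ⟨z, hz⟩ := exists_component_surj pZ hpZs j₀ q
  obtain ⟨x, hx⟩ : z ∈ P := htop ▸ Subgroup.mem_top z
  refine ⟨x, hx.trans ?_⟩
  show z ≫ (j₀ ≫ jZ) ≫ π = q ≫ u'
  rw [← hz, Category.assoc j₀, ← hpZ]
  simp only [Category.assoc]

omit [GrpObj U] [GrpObj U'] in
/-- A subgroup all of whose rational points are trivial is trivial. -/
theorem isTrivialGrp_of_pts {V : Over (Spec (CommRingCat.of k))} [GrpObj V] [IsAffine V.left] [Smooth V.hom]
    (h : ∀ x : VecGrp.pt k k ⟶ V, x = 1) : Red.IsTrivialGrp V := by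
  have h1 := hom_eq_one_of_pts (𝟙 V) fun x => by rw [Category.comp_id]; exact h x
  refine ⟨η[V].left, ?_, Over.w η[V]⟩
  exact (congrArg CommaMorphism.left h1).symm

omit [IsAffine G'.left] [Smooth G'.hom] [ConnectedSpace G'.left] [GrpObj U] [GrpObj U'] in
set_option maxHeartbeats 800000 in
/-- A flat quotient of a reductive group is reductive. -/
theorem isReductiveOver_quotient [LocallyOfFiniteType G'.hom] [QuasiCompact G'.hom] (π : G ⟶ G') [IsMonHom π]
    [Flat π.left] [Surjective π.left] (hG : Red.IsReductiveOver k G) : Red.IsReductiveOver k G' := by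
  haveI : IsAffine G'.left := isAffine_of_surjective_hom π
  haveI : QuasiCompact π.left := inferInstance
  haveI : IsReduced G.left := OrbitTop19.isReduced_of_smooth G.hom
  haveI : IsReduced G'.left := H12.isReduced_of_flat_surjective π.left
  haveI : Smooth G'.hom := GrpSmooth19.smooth_of_isReduced G'
  haveI : PreconnectedSpace G'.left := π.left.surjective.denseRange.preconnectedSpace π.left.continuous
  haveI : ConnectedSpace G'.left := { toNonempty := ⟨π.left (Classical.arbitrary G.left)⟩ }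
  obtain ⟨U, _, u, hU, -⟩ := exists_unipotentRadical_connected G
  obtain ⟨U', _, u', hU', huniv'⟩ := exists_unipotentRadical_connected G'
  obtain ⟨f, hf, hfs⟩ := exists_image_radical π hU hU'
  obtain ⟨hum, huc, hun, hus, -, hucon, huns, -⟩ := (isUnipotentRadical_iff u).1 hU
  haveI := hum
  haveI := hus
  haveI : IsIso U.hom := hG.2.2.2 U u huc hus hucon hun huns
  haveI : IsAffine U.left := isAffine_of_isAffineHom u.left
  obtain ⟨hum', huc', -, hus', -⟩ := (isUnipotentRadical_iff u').1 hU'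
  haveI := hum'
  haveI := huc'
  haveI := hus'
  haveI : IsAffine U'.left := isAffine_of_isAffineHom u'.left
  haveI : Mono u' := Over.mono_of_mono_left u'
  haveI : IsMonHom f := BorelFix21.isMonHom_of_comp u' f (hf ▸ inferInstance)
  have hU'1 : ∀ q : VecGrp.pt k k ⟶ U', q = 1 := fun q => by
    obtain ⟨w, rfl⟩ := BorelFix21.exists_pt_lift f q
    rw [show w = 1 from Over.OverMorphism.ext (by rw [← cancel_mono U.hom, Over.w, Over.w]), MonObj.one_comp]
  refine ⟨inferInstance, inferInstance, inferInstance, fun V _ v _ hvc hvs hvn hvnorm hV => ?_⟩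
  haveI := hvc
  haveI := hvs
  haveI : IsAffine V.left := isAffine_of_isAffineHom v.left
  haveI : Mono v := Over.mono_of_mono_left v
  obtain ⟨g, hg⟩ := huniv' V v hvc hvs hvn hvnorm hV
  refine isTrivialGrp_of_pts fun x => (cancel_mono v).1 ?_
  show x ≫ v = _
  rw [MonObj.one_comp, ← hg, ← Category.assoc, hU'1 (x ≫ g), MonObj.one_comp]

omit [GrpObj U] [GrpObj U'] [GrpObj G'] [IsAffine G'.left] [Smooth G'.hom] [ConnectedSpace G'.left] in
/-- An additive function on a reductive group vanishes. -/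
theorem eq_zero_of_additive (hG : Red.IsReductiveOver k G) (F : Γ(G.left, ⊤))
    (hF : ∀ x y : VecGrp.pt k k ⟶ G, InvRing21.val (x * y) F = InvRing21.val x F + InvRing21.val y F) : F = 0 := by
  obtain ⟨U, _, u, hU, -⟩ := exists_unipotentRadical_connected G
  obtain ⟨hum, huc, hun, hus, -, hucon, huns, -⟩ := (isUnipotentRadical_iff u).1 hU
  haveI := hum
  haveI : IsIso U.hom := hG.2.2.2 U u huc hus hucon hun huns
  obtain ⟨T, _, iT, hT⟩ := exists_maxTorus G
  haveI := hT.1
  obtain ⟨hTa, hTs, -, -⟩ := props_of_isTorus hT.2.2.1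
  haveI := hTa
  haveI := hTs
  have h1 : InvRing21.val (1 : VecGrp.pt k k ⟶ G) F = 0 := by
    have h := hF 1 1
    rw [_root_.mul_one] at h
    exact left_eq_add.1 h
  let P : Subgroup (VecGrp.pt k k ⟶ G) :=
    { carrier := {x | InvRing21.val x F = 0}
      one_mem' := h1
      mul_mem' := fun {x y} hx hy => by
        show InvRing21.val (x * y) F = 0
        rw [hF, hx, hy, add_zero]
      inv_mem' := fun {x} hx => by
        have h := hF x x⁻¹
        rw [mul_inv_cancel, h1, hx, zero_add] at h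
        exact h.symm }
  haveI : P.Normal := ⟨fun x hx g => by
    have h := hF g g⁻¹
    rw [mul_inv_cancel, h1] at h
    show InvRing21.val (g * x * g⁻¹) F = 0
    rw [hF, hF, hx, add_zero]
    exact h.symm⟩
  let φ : T ⟶ Red.Ga (Spec (CommRingCat.of k)) := GaPts.ptOfFn (iT.left.appTop F)
  have hT0 : iT.left.appTop F = 0 := by
    haveI : IsMonHom φ := by
      have hFT : ∀ {W : Over (Spec (CommRingCat.of k))} (x : W ⟶ T),
          Red.gaFn (x ≫ φ) = (x ≫ iT).left.appTop F := fun {W} x => by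
        rw [GaPts.gaFn_comp, GaPts.gaFn_ptOfFn, Over.comp_left, Scheme.Hom.comp_appTop]
        rfl
      haveI : Smooth (T ⊗ T).hom := inferInstanceAs (Smooth (pullback.fst T.hom T.hom ≫ T.hom))
      haveI : IsAffine (T ⊗ T).left := inferInstanceAs (IsAffine (pullback T.hom T.hom))
      have huniv : ((fst T T * snd T T) ≫ iT).left.appTop F =
          (fst T T ≫ iT).left.appTop F + (snd T T ≫ iT).left.appTop F := InvRing21.ext_val fun w => by
        simp only [map_add, InvRing21.appTop_val, MonObj.mul_comp, MonObj.comp_mul, hF]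
      refine TorsorSch25.isMonHom_of_points φ fun W x y => GaPts.gaFn_injective ?_
      show Red.gaFn ((x * y) ≫ φ) = Red.gaFn (x ≫ φ * y ≫ φ)
      rw [GaPts.gaFn_mul, hFT, hFT, hFT]
      have h := congrArg (lift x y).left.appTop huniv
      rw [map_add] at h
      have e : ∀ z : T ⊗ T ⟶ T, (lift x y ≫ z ≫ iT).left.appTop F = (lift x y).left.appTop ((z ≫ iT).left.appTop F) :=
        fun z => by
          show ((lift x y).left ≫ (z ≫ iT).left).appTop F = _
          rw [Scheme.Hom.comp_appTop]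
          rfl
      rw [← e, ← e, ← e, ← Category.assoc, ← Category.assoc, ← Category.assoc, MonObj.comp_mul, lift_fst, lift_snd] at h
      exact h
    have h2 := MTRigid29.hom_Ga_eq_one φ (MTRigid29.isMT_of_ft (isMultTypeFT_of_isTorus hT.2.2.1))
    have h3 := congrArg Red.gaFn h2
    rwa [GaPts.gaFn_ptOfFn, GaPts.gaFn_one] at h3
  have htop : P = ⊤ := eq_top_of_cartan hU hT P
    (fun t => by
      show InvRing21.val (t ≫ iT) F = 0
      rw [← InvRing21.appTop_val, hT0, map_zero])
    (fun w => by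
      rw [show w = 1 from Over.OverMorphism.ext (by rw [← cancel_mono U.hom, Over.w, Over.w]), MonObj.one_comp]
      exact P.one_mem)
  refine InvRing21.ext_val fun x => ?_
  rw [map_zero]
  exact htop.ge (Subgroup.mem_top x)

end Groth.Agent.TorPts21
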