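import Groth.Agent.Lib.TorPts21.Luna
import Groth.Agent.Lib.TorPts21.Chevalley
import Groth.Agent.Lib.TorPts21.BorelOfCent
import Groth.Agent.Lib.TorPts21.ReductiveCartanField
import Groth.Agent.Lib.TorPts21.RadicalImage
import Groth.Agent.Lib.MTRigid29.TransporterSmooth

/-!
# The unipotent radical of the centraliser of a torus
-/

set_option autoImplicit false
set_option linter.style.haveILetI false
set_option backward.isDefEq.respectTransparency.types false
universe u

open CategoryTheory Limits MonoidalCategory CartesianMonoidalCategory MonObj AlgebraicGeometry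

noncomputable section

namespace Groth.Agent.TorPts21

open MatGrp21

variable {k : Type u} [Field k] [IsAlgClosed k] {G : Over (Spec (CommRingCat.of k))} [GrpObj G] [IsAffine G.left]
  [Smooth G.hom] [ConnectedSpace G.left]

set_option maxHeartbeats 800000 in
/-- A torus lies in a maximal torus. -/
theorem exists_maxTorus_ge {S : Over (Spec (CommRingCat.of k))} [GrpObj S] (iS : S ⟶ G) [IsMonHom iS] [Mono iS]
    (hS : Red.IsTorus S) :
    ∃ (T : Over (Spec (CommRingCat.of k))) (_ : GrpObj T) (iT : T ⟶ G) (s : S ⟶ T),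
      AGF.IsMaxTorus iT ∧ s ≫ iT = iS := by
  obtain ⟨B, _, iB, tS, hB, htS⟩ := exists_borel_containing iS hS
  obtain ⟨hm, hc, hs, hn, hsol, -⟩ := id hB
  haveI := hm
  haveI := hc
  haveI := hs
  haveI := hn
  haveI : IsAffine B.left := isAffine_of_isAffineHom iB.left
  obtain ⟨T, _, iT, t, hT, ht⟩ := exists_maxTorus_le hB
  haveI := hT.1
  haveI := hT.2.1
  obtain ⟨n, r, hr, hrc, hu⟩ := exists_upper_embedding iB hsol
  haveI := hr
  haveI := hrc
  haveI : IsClosedImmersion (iB ≫ r).left := by rw [Over.comp_left]; infer_instance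
  obtain ⟨D⟩ := nonempty_decomp hu (isClosed_range_mtx (iB ≫ r)) (isPreirreducible_range_mtx' (iB ≫ r))
  obtain ⟨hSa, hSs, -, -⟩ := props_of_isTorus hS
  haveI := hSa
  haveI := hSs
  obtain ⟨d, ⟨C⟩⟩ := exists_chars hS
  obtain ⟨u, hu1, hu2⟩ := D.exists_conj hu (isClosed_range_mtx (iB ≫ r)) (range_le_of_lift r iB iS tS htS)
    (range_mtx_comm C (iS ≫ r)) (range_mtx_dense C (iS ≫ r))
  obtain ⟨v, hv1, hv2⟩ := exists_conj_eq r iB hu D hT t ht
  obtain ⟨x, hx⟩ := Subgroup.mul_mem (mtx (iB ≫ r)).range (Subgroup.inv_mem _ hu1.1) hv1.1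
  obtain ⟨y, rfl⟩ := exists_gpt x
  have hw : mtxFn r (gpt (y ≫ iB)) = u⁻¹ * v := by
    rw [← hx, mtx_apply, mtxFn_comp, gpt, gpt, Category.assoc]
  haveI := isMonHom_conjBy (y ≫ iB) iT
  haveI := mono_conjBy (y ≫ iB) iT
  haveI := isClosedImmersion_of_torus hT.2.2.1 iT
  haveI := isClosedImmersion_conjBy (y ≫ iB) iT
  obtain ⟨s, hs', -⟩ := exists_lift_of_range_le r iS (AGF.conjBy (y ≫ iB) iT) (by
    rw [range_conjBy r (y ≫ iB) iT _ rfl, hw]
    intro a ha
    have h1 := hu2 a ha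
    rw [← hv2, Subgroup.mem_map] at h1
    obtain ⟨b, hb, hb'⟩ := h1
    refine ⟨b, hb, ?_⟩
    simp only [MulEquiv.coe_toMonoidHom, MulAut.conj_apply] at hb' ⊢
    calc u⁻¹ * v * b * (u⁻¹ * v)⁻¹ = u⁻¹ * (v * b * v⁻¹) * u := by group
      _ = a := by rw [hb']; group)
  exact ⟨T, inferInstance, AGF.conjBy (y ≫ iB) iT, s, isMaxTorus_conjBy hT _, hs'⟩

omit [IsAlgClosed k] [IsAffine G.left] [Smooth G.hom] [ConnectedSpace G.left] in
/-- The inverse image of a subgroup. -/
theorem exists_subgroup_inter {C B : Over (Spec (CommRingCat.of k))} [GrpObj C] [GrpObj B] (c : C ⟶ G) [IsMonHom c]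
    (iB : B ⟶ G) [IsMonHom iB] [IsClosedImmersion iB.left] :
    ∃ (D : Over (Spec (CommRingCat.of k))) (_ : GrpObj D) (dC : D ⟶ C) (dB : D ⟶ B),
      IsMonHom dC ∧ IsClosedImmersion dC.left ∧ IsPullback dC dB c iB := by
  let D : Over (Spec (CommRingCat.of k)) := Over.mk (pullback.fst c.left iB.left ≫ C.hom)
  let dC : D ⟶ C := Over.homMk (pullback.fst c.left iB.left) rfl
  let dB : D ⟶ B := Over.homMk (pullback.snd c.left iB.left) (by
    show _ ≫ B.hom = pullback.fst c.left iB.left ≫ C.hom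
    rw [← Over.w iB, ← pullback.condition_assoc, Over.w c])
  have hD : IsPullback dC dB c iB := IsPullback.of_map (Over.forget _) (Over.OverMorphism.ext pullback.condition)
    (IsPullback.of_hasPullback c.left iB.left)
  haveI : Mono iB := Over.mono_of_mono_left iB
  haveI : Mono dC := hD.mono_fst_of_mono
  obtain ⟨hDg, hdC⟩ := MTRigid29.exists_grpObj_of_subgroup dC
    (fun X a b => by
      obtain ⟨w, hw, -⟩ := hD.exists_lift ((a ≫ dC) * (b ≫ dC)) ((a ≫ dB) * (b ≫ dB)) (by
        simp only [MonObj.mul_comp, Category.assoc, hD.w])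
      exact ⟨w, hw⟩)
    (by
      obtain ⟨w, hw, -⟩ := hD.exists_lift (1 : 𝟙_ (Over (Spec (CommRingCat.of k))) ⟶ C) 1 (by
        simp only [MonObj.one_comp])
      exact ⟨w, hw⟩)
    (fun X a => by
      obtain ⟨w, hw, -⟩ := hD.exists_lift (a ≫ dC)⁻¹ (a ≫ dB)⁻¹ (by
        simp only [GrpObj.inv_comp, Category.assoc, hD.w])
      exact ⟨w, hw⟩)
  exact ⟨D, hDg, dC, dB, hdC, inferInstanceAs (IsClosedImmersion (pullback.fst c.left iB.left)), hD⟩

set_option maxHeartbeats 800000 in
/-- A normal connected subgroup without subtori of the centraliser of a torus lies in the unipotent radical. -/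
theorem exists_lift_radical_centralizer {S C U R : Over (Spec (CommRingCat.of k))} [GrpObj S] [GrpObj C] [GrpObj U]
    [GrpObj R] {iS : S ⟶ G} [IsMonHom iS] [Mono iS] (hS : Red.IsTorus S) {c : C ⟶ G}
    (hc : Red.IsCentralizerOf iS c) {u : U ⟶ G} (hU : Par.IsUnipotentRadical u) (r : R ⟶ C) [IsMonHom r]
    [IsClosedImmersion r.left] [Smooth R.hom] [ConnectedSpace R.left] (hn : AlgGrp.IsNormalHom r)
    (hR : Red.HasNoSubtorus k R) : ∃ f : R ⟶ U, f ≫ u = r ≫ c := by
  obtain ⟨hcm, hci, hcs, hca⟩ := centralizer_props hS hc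
  haveI := hcm
  haveI := hci
  haveI := hcs
  haveI := hca
  haveI : ConnectedSpace C.left := connectedSpace_centralizer_closed hS hc
  haveI : IsAffine R.left := isAffine_of_isAffineHom r.left
  haveI : IsClosedImmersion (r ≫ c).left := by rw [Over.comp_left]; infer_instance
  obtain ⟨T, _, iT, s, hT, hs⟩ := exists_maxTorus_ge iS hS
  refine exists_lift_unipotentRadical hU hT (r ≫ c) hR fun B' _ iB' t hB' ht => ?_
  haveI := hB'.1
  haveI := hB'.2.1
  obtain ⟨D, _, dC, dB, hdC, hdcl, hD⟩ := exists_subgroup_inter c iB'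
  haveI := hdC
  have hBD := isBorelOver_inter hS hB' (s ≫ t) (by rw [Category.assoc, ht, hs]) hc dC dB hD
  obtain ⟨f, hf⟩ := exists_lift_of_normal_solvable r (isSolvableGrp_of_hasNoSubtorus R hR) hn dC hBD
  exact ⟨f ≫ dB, by rw [Category.assoc, ← hD.w, ← Category.assoc, hf]⟩

omit [IsAlgClosed k] [IsAffine G.left] [Smooth G.hom] [ConnectedSpace G.left] in
/-- The semidirect product of a normalised subgroup and another one, as a subgroup of the product. -/
theorem exists_semidirect {B C : Over (Spec (CommRingCat.of k))} [GrpObj B] [GrpObj C] (iB : B ⟶ G) [IsMonHom iB]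
    [Mono iB] (iC : C ⟶ G) [IsMonHom iC]
    (hn : ∀ (T : Over (Spec (CommRingCat.of k))) (g : T ⟶ C) (h : T ⟶ B),
      ∃ h' : T ⟶ B, h' ≫ iB = (g ≫ iC) * (h ≫ iB) * (g ≫ iC)⁻¹) :
    ∃ (W : Over (Spec (CommRingCat.of k))) (_ : GrpObj W) (e : W ≅ B ⊗ C) (m : W ⟶ G ⊗ C), IsMonHom m ∧ Mono m ∧
      ∀ {T : Over (Spec (CommRingCat.of k))} (p : T ⟶ B) (q : T ⟶ C),
        lift p q ≫ e.inv ≫ m = lift ((p ≫ iB) * (q ≫ iC)) q := by
  let W : Over (Spec (CommRingCat.of k)) := Over.mk (B ⊗ C).hom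
  let e : W ≅ B ⊗ C := Over.isoMk (Iso.refl _) (Category.id_comp _)
  let wB : W ⟶ B := e.hom ≫ fst B C
  let wC : W ⟶ C := e.hom ≫ snd B C
  have eB : e.inv ≫ wB = fst B C := Iso.inv_hom_id_assoc e _
  have eC : e.inv ≫ wC = snd B C := Iso.inv_hom_id_assoc e _
  let m : W ⟶ G ⊗ C := lift ((wB ≫ iB) * (wC ≫ iC)) wC
  have hm : ∀ {T : Over (Spec (CommRingCat.of k))} (l : T ⟶ W),
      l ≫ m = lift ((l ≫ wB ≫ iB) * (l ≫ wC ≫ iC)) (l ≫ wC) := fun l => by
    show l ≫ lift _ _ = _
    rw [comp_lift, MonObj.comp_mul]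
  haveI : Mono m := ⟨fun {T} p q h => by
    rw [hm, hm] at h
    have h2 : p ≫ wC = q ≫ wC := by simpa using congrArg (· ≫ snd G C) h
    have h1 : (p ≫ wB ≫ iB) * (p ≫ wC ≫ iC) = (q ≫ wB ≫ iB) * (q ≫ wC ≫ iC) := by
      simpa using congrArg (· ≫ fst G C) h
    rw [← Category.assoc p wC, ← Category.assoc q wC, h2] at h1
    have h3 := mul_right_cancel h1
    rw [← Category.assoc p wB, ← Category.assoc q wB, cancel_mono] at h3
    exact (cancel_mono e.hom).1 (CartesianMonoidalCategory.hom_ext _ _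
      (by simpa [wB] using h3) (by simpa [wC] using h2))⟩
  have hL : ∀ {T : Over (Spec (CommRingCat.of k))} (p : T ⟶ B) (q : T ⟶ C),
      (lift p q ≫ e.inv) ≫ m = lift ((p ≫ iB) * (q ≫ iC)) q := fun {T} p q => by
    rw [hm]
    simp only [Category.assoc, reassoc_of% eB, reassoc_of% eC, eC, lift_fst_assoc, lift_snd_assoc, lift_snd]
  have hlift : ∀ {T : Over (Spec (CommRingCat.of k))} (a c : T ⟶ G) (b d : T ⟶ C),
      lift a b * lift c d = lift (a * c) (b * d) := fun a c b d => by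
    refine CartesianMonoidalCategory.hom_ext _ _ ?_ ?_ <;> simp [MonObj.mul_comp]
  have hliftInv : ∀ {T : Over (Spec (CommRingCat.of k))} (a : T ⟶ G) (b : T ⟶ C),
      (lift a b)⁻¹ = lift a⁻¹ b⁻¹ := fun a b => by
    refine CartesianMonoidalCategory.hom_ext _ _ ?_ ?_ <;> simp [GrpObj.inv_comp]
  obtain ⟨hW, hmh⟩ := MTRigid29.exists_grpObj_of_subgroup m
    (fun X a b => by
      obtain ⟨c, hc⟩ := hn X (a ≫ wC) (b ≫ wB)
      refine ⟨lift ((a ≫ wB) * c) ((a ≫ wC) * (b ≫ wC)) ≫ e.inv, ?_⟩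
      rw [hL, hm, hm, hlift, MonObj.mul_comp, MonObj.mul_comp, hc]
      simp only [Category.assoc]
      congr 1
      group)
    ⟨lift 1 1 ≫ e.inv, by
      rw [hL]
      refine CartesianMonoidalCategory.hom_ext _ _ ?_ ?_ <;>
        simp only [lift_fst, lift_snd, MonObj.one_comp, _root_.mul_one]⟩
    (fun X a => by
      obtain ⟨c', hc'⟩ := hn X (a ≫ wC)⁻¹ (a ≫ wB)⁻¹
      refine ⟨lift c' (a ≫ wC)⁻¹ ≫ e.inv, ?_⟩
      rw [hL, hm, hliftInv, hc']
      simp only [GrpObj.inv_comp, Category.assoc]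
      congr 1
      group)
  exact ⟨W, hW, e, m, hmh, inferInstance, fun {T} p q => (Category.assoc _ _ _).symm.trans (hL p q)⟩

set_option maxHeartbeats 1600000 in
/-- The intersection of the centraliser of a torus with the unipotent radical is the unipotent radical of the
centraliser. -/
theorem isUnipotentRadical_inter_centralizer {S C U V : Over (Spec (CommRingCat.of k))} [GrpObj S] [GrpObj C]
    [GrpObj U] [GrpObj V] {iS : S ⟶ G} [IsMonHom iS] [Mono iS] (hS : Red.IsTorus S) {c : C ⟶ G}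
    (hc : Red.IsCentralizerOf iS c) {u : U ⟶ G} (hU : Par.IsUnipotentRadical u) {v : V ⟶ C} [IsMonHom v] {w : V ⟶ U}
    (hV : IsPullback w v u c) : Par.IsUnipotentRadical v := by
  obtain ⟨hum, huc, hun, hus, -, hucn, huns, -⟩ := (isUnipotentRadical_iff u).1 hU
  haveI := hum
  haveI := huc
  haveI := hus
  haveI := hucn
  obtain ⟨hcm, hci, hcs, hca⟩ := centralizer_props hS hc
  haveI := hcm
  haveI := hci
  haveI := hcs
  haveI := hca
  haveI : IsAffine U.left := isAffine_of_isAffineHom u.left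
  haveI : Mono u := Over.mono_of_mono_left u
  haveI : Mono c := Over.mono_of_mono_left c
  haveI : IsClosedImmersion v.left := MorphismProperty.of_isPullback (hV.map (Over.forget _)) huc
  haveI : IsClosedImmersion w.left := MorphismProperty.of_isPullback (hV.flip.map (Over.forget _)) hci
  haveI : IsAffine V.left := isAffine_of_isAffineHom v.left
  haveI : LocallyOfFiniteType V.hom := by rw [← Over.w v]; infer_instance
  haveI : IsLocallyNoetherian (Spec (CommRingCat.of k)) := inferInstance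
  haveI : LocallyOfFinitePresentation V.hom := inferInstance
  haveI : Mono v := hV.mono_snd_of_mono
  haveI : Mono w := hV.mono_fst_of_mono
  haveI hwm : IsMonHom w := BorelFix21.isMonHom_of_comp u w (by rw [hV.w]; infer_instance)
  obtain ⟨hSa, hSs, hSc, -⟩ := props_of_isTorus hS
  haveI := hSa
  haveI := hSs
  haveI := hSc
  obtain ⟨d, ⟨Ch⟩⟩ := exists_chars hS
  -- the centraliser in the semidirect product
  obtain ⟨W, hW, eW, m, hmm, hmmono, hm⟩ := exists_semidirect u iS fun T g h => by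
    obtain ⟨h', hh'⟩ := hun T (g ≫ iS) h
    exact ⟨h', hh'.symm⟩
  haveI := hmm
  haveI := hmmono
  haveI : Smooth (U ⊗ S).hom := inferInstanceAs (Smooth (pullback.fst U.hom S.hom ≫ U.hom))
  haveI : IsAffine (U ⊗ S).left := inferInstanceAs (IsAffine (pullback U.hom S.hom))
  haveI : ConnectedSpace (U ⊗ S).left := by
    haveI := AbRigid.irreducibleSpace_of_isAlgClosed U
    haveI := AbRigid.geometricallyIrreducible_of_connected S
    haveI : IrreducibleSpace ↥(Limits.pullback U.hom S.hom) := inferInstance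
    exact inferInstanceAs (ConnectedSpace ↥(Limits.pullback U.hom S.hom))
  haveI : IsIso eW.hom.left := inferInstanceAs (IsIso ((Over.forget _).map eW.hom))
  haveI : Smooth W.hom := by rw [← Over.w eW.hom]; infer_instance
  haveI : IsAffine W.left := IsAffine.of_isIso eW.hom.left
  haveI : ConnectedSpace W.left := eW.inv.left.surjective.connectedSpace eW.inv.left.continuous
  let τ : S ⟶ W := lift 1 (𝟙 S) ≫ eW.inv
  have hτ : ∀ {X : Over (Spec (CommRingCat.of k))} (h : X ⟶ S), h ≫ τ ≫ m = lift (h ≫ iS) h := fun h => by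
    simp only [τ, Category.assoc, ← Category.assoc h (lift (1 : S ⟶ U) (𝟙 S)), comp_lift, MonObj.comp_one, Category.comp_id,
      hm, MonObj.one_comp, Category.id_comp, _root_.one_mul]
  have hlift : ∀ {T : Over (Spec (CommRingCat.of k))} (a a' : T ⟶ G) (b b' : T ⟶ S),
      lift a b * lift a' b' = lift (a * a') (b * b') := fun a a' b b' => by
    refine CartesianMonoidalCategory.hom_ext _ _ ?_ ?_ <;> simp [MonObj.mul_comp]
  haveI : IsMonHom τ := TorsorSch25.isMonHom_of_points _ fun X a b => (cancel_mono m).1 (by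
    rw [Category.assoc (a * b) τ m, hτ, MonObj.mul_comp, MonObj.mul_comp, Category.assoc a τ m, Category.assoc b τ m, hτ, hτ,
      hlift])
  haveI : Mono τ := ⟨fun a b h => by simpa [τ] using congrArg (· ≫ eW.hom ≫ snd U S) h⟩
  obtain ⟨CW, _, cw, hCW, -, -⟩ := MTRigid29.exists_centralizer
    (MTRigid29.isMT_of_ft (isMultTypeFT_of_isTorus hS)) inferInstance inferInstance τ
  obtain ⟨hcwm, hcwi, hcws, hcwa⟩ := centralizer_props hS hCW
  haveI := hcws
  haveI hcwn : ConnectedSpace CW.left := connectedSpace_centralizer_closed hS hCW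
  -- the projection to the intersection
  have hcomm : ∀ {X : Over (Spec (CommRingCat.of k))} (p : X ⟶ U) (q h : X ⟶ S),
      ((lift p q ≫ eW.inv ≫ m) * (h ≫ τ ≫ m) = (h ≫ τ ≫ m) * (lift p q ≫ eW.inv ≫ m)) ↔ (p ≫ u) * (h ≫ iS) = (h ≫ iS) * (p ≫ u) := by
    intro X p q h
    rw [hm, hτ, hlift, hlift]
    have hqh : q * h = h * q := (commute_of_chars Ch q h).eq
    have hqh' : (q ≫ iS) * (h ≫ iS) = (h ≫ iS) * (q ≫ iS) := by rw [← MonObj.mul_comp, ← MonObj.mul_comp, hqh]
    constructor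
    · intro e
      have e1 : (p ≫ u) * (q ≫ iS) * (h ≫ iS) = (h ≫ iS) * ((p ≫ u) * (q ≫ iS)) := by
        simpa using congrArg (· ≫ fst G S) e
      rw [_root_.mul_assoc, hqh', ← _root_.mul_assoc, ← _root_.mul_assoc] at e1
      exact mul_right_cancel e1
    · intro e
      rw [hqh, _root_.mul_assoc, hqh', ← _root_.mul_assoc, e, _root_.mul_assoc]
  obtain ⟨pU, hpU⟩ : ∃ pU : CW ⟶ U, pU = cw ≫ eW.hom ≫ fst U S := ⟨_, rfl⟩
  obtain ⟨pC, hpC⟩ := (hc.2.2 CW (pU ≫ u)).2 fun X x h => by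
    have h1 := (hCW.2.2 CW cw).1 ⟨𝟙 CW, Category.id_comp cw⟩ X x h
    have h2 := congrArg (· ≫ m) h1
    simp only [MonObj.mul_comp, Category.assoc h τ m] at h2
    have e1 : (x ≫ cw) ≫ m = lift (x ≫ pU) (x ≫ cw ≫ eW.hom ≫ snd U S) ≫ eW.inv ≫ m := by
      have : (x ≫ cw) ≫ eW.hom = lift (x ≫ pU) (x ≫ cw ≫ eW.hom ≫ snd U S) :=
        CartesianMonoidalCategory.hom_ext _ _ (by simp [hpU]) (by simp)
      rw [← this, Category.assoc (x ≫ cw), Iso.hom_inv_id_assoc]
    rw [e1] at h2
    simpa only [Category.assoc] using (hcomm _ _ h).1 h2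
  obtain ⟨pV, hpV, -⟩ := hV.exists_lift pU pC hpC.symm
  obtain ⟨sV, hsV⟩ := (hCW.2.2 V (lift w 1 ≫ eW.inv)).2 fun X x h => (cancel_mono m).1 (by
    rw [MonObj.mul_comp, MonObj.mul_comp, Category.assoc h τ m, ← Category.assoc x (lift w 1) eW.inv,
      Category.assoc (x ≫ lift w 1) eW.inv m, comp_lift]
    refine (hcomm _ _ h).2 ?_
    rw [Category.assoc, hV.w, ← Category.assoc]
    exact centralizer_comm hc (x ≫ v) h)
  have hret : sV ≫ pV = 𝟙 V := (cancel_mono w).1 (by
    rw [Category.assoc, hpV, hpU, reassoc_of% hsV, Iso.inv_hom_id_assoc, lift_fst, Category.id_comp])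
  haveI : Surjective pV.left := ⟨fun z => ⟨sV.left z, by
    rw [← Scheme.Hom.comp_apply, ← Over.comp_left, hret]; rfl⟩⟩
  haveI : ConnectedSpace V.left := pV.left.surjective.connectedSpace pV.left.continuous
  haveI : IsClosedImmersion (v ≫ c).left := by rw [Over.comp_left]; infer_instance
  haveI : LocallyOfFinitePresentation V.hom := inferInstance
  haveI : Smooth V.hom := by
    refine MTRigid29.smooth_of_lifts (G := G) inferInstance (v ≫ c) fun D _ J hJ b g₀ ⟨z, hz⟩ => ?_
    obtain ⟨y, hy1, hy2⟩ := MTRigid29.exists_lift_of_surjective (SmoothLift15.isFormallySmoothHom_of_smooth CW.hom)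
      (Ideal.Quotient.mk J) Ideal.Quotient.mk_surjective (by rw [Ideal.mk_ker]; exact hJ) (z ≫ sV).left b
      (Over.w (z ≫ sV)).symm
    let y' : Over.mk b ⟶ CW := Over.homMk y hy2
    refine ⟨(y' ≫ pV) ≫ v ≫ c, ?_, y' ≫ pV, rfl⟩
    show _ ≫ (y ≫ pV.left) ≫ (v ≫ c).left = _
    rw [← Category.assoc, ← Category.assoc, hy1, ← Over.comp_left, ← Over.comp_left, Category.assoc z, hret,
      Category.comp_id, hz]
  refine (isUnipotentRadical_iff v).2 ⟨inferInstance, inferInstance, fun X g a => ?_, inferInstance, inferInstance,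
    inferInstance, fun T _ j _ _ hT => ?_, fun R _ r _ hrc hrn hrs _ hrcn hR => ?_⟩
  · obtain ⟨a', ha'⟩ := hun X (g ≫ c) (a ≫ w)
    obtain ⟨l, -, hl⟩ := hV.exists_lift a' (g * (a ≫ v) * g⁻¹) (by
      rw [← ha', MonObj.mul_comp, MonObj.mul_comp, GrpObj.inv_comp, Category.assoc a, hV.w, ← Category.assoc])
    exact ⟨l, hl.symm⟩
  · exact huns T (j ≫ w) hT
  · haveI := hrc
    haveI := hrs
    haveI := hrcn
    obtain ⟨f, hf⟩ := exists_lift_radical_centralizer hS hc hU r hrn hR
    obtain ⟨l, -, hl⟩ := hV.exists_lift f r hf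
    exact ⟨l, hl⟩

set_option maxHeartbeats 800000 in
/-- The centraliser of a torus in a reductive group is reductive. -/
theorem isReductiveOver_centralizer {S C : Over (Spec (CommRingCat.of k))} [GrpObj S] [GrpObj C]
    (hG : Red.IsReductiveOver k G) {iS : S ⟶ G} [IsMonHom iS] [Mono iS] (hS : Red.IsTorus S) {c : C ⟶ G}
    (hc : Red.IsCentralizerOf iS c) : Red.IsReductiveOver k C := by
  obtain ⟨hcm, hci, hcs, hca⟩ := centralizer_props hS hc
  haveI := hcm
  haveI := hci
  haveI := hca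
  haveI : Mono c := Over.mono_of_mono_left c
  refine ⟨hca, hcs, connectedSpace_centralizer_closed hS hc, fun R _ r _ hrc hrs hrcn hrn hR => ?_⟩
  haveI := hrc
  haveI := hrs
  haveI := hrcn
  haveI : IsAffine R.left := isAffine_of_isAffineHom r.left
  obtain ⟨U, _, u, hU, -⟩ := exists_unipotentRadical_connected G
  obtain ⟨hum, huc, hun, hus, -, hucn, huns, -⟩ := (isUnipotentRadical_iff u).1 hU
  haveI := hum
  have htriv := hG.2.2.2 U u huc hus hucn hun huns
  obtain ⟨f, hf⟩ := exists_lift_radical_centralizer hS hc hU r hrn hR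
  haveI : Mono r := Over.mono_of_mono_left r
  haveI : IsIso U.hom := htriv
  haveI := huc
  haveI : Mono u := Over.mono_of_mono_left u
  exact isTrivialGrp_of_pts fun x => (cancel_mono (r ≫ c)).1 (by
    rw [MonObj.one_comp, ← hf, ← Category.assoc, show x ≫ f = 1 from Over.OverMorphism.ext ((cancel_mono U.hom).1 (by rw [Over.w, Over.w])),
      MonObj.one_comp])

end Groth.Agent.TorPts21
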