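import Groth.Agent.Lib.InvRing21.Points
import Groth.Agent.Lib.TorPts21.BorelCentre
import Mathlib.AlgebraicGeometry.Pullbacks
import Mathlib.LinearAlgebra.TensorProduct.Basis
import Mathlib.LinearAlgebra.Basis.VectorSpace

/-!
# Rational points of a reduced affine variety stay schematically dense after any base change
-/

set_option autoImplicit false
set_option linter.style.haveILetI false
set_option backward.isDefEq.respectTransparency.types false
universe u

open CategoryTheory Limits MonoidalCategory CartesianMonoidalCategory MonObj AlgebraicGeometry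
open scoped TensorProduct

noncomputable section

namespace Groth.Agent.TorPts21

attribute [local instance] InvRing21.gamAlg

variable {k : Type u} [Field k] [IsAlgClosed k]

/-- An element of a tensor product killed by all evaluations at rational points vanishes. -/
theorem eq_of_forall_eval {A B : Type u} [CommRing A] [Algebra k A] [CommRing B] [Algebra k B] [IsReduced B]
    [Algebra.FiniteType k B] {z z' : A ⊗[k] B}
    (h : ∀ χ : B →ₐ[k] k, (Algebra.TensorProduct.lift (AlgHom.id k A) ((Algebra.ofId k A).comp χ)
      (fun _ _ => Commute.all _ _)) z = (Algebra.TensorProduct.lift (AlgHom.id k A) ((Algebra.ofId k A).comp χ)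
      (fun _ _ => Commute.all _ _)) z') : z = z' := by
  classical
  let bA := Module.Free.chooseBasis k A
  let e := TensorProduct.equivFinsuppOfBasisLeft (N := B) bA
  refine e.injective (Finsupp.ext fun i => ?_)
  by_contra hne
  obtain ⟨χ, hχ⟩ := UnitsRos.exists_point_ne_zero (k := k) (sub_ne_zero.2 hne)
  refine hχ ?_
  have key : ∀ w : A ⊗[k] B, χ (e w i) =
      bA.repr ((Algebra.TensorProduct.lift (AlgHom.id k A) ((Algebra.ofId k A).comp χ)
        (fun _ _ => Commute.all _ _)) w) i := by
    intro w
    induction w using TensorProduct.induction_on with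
    | zero => simp
    | tmul a b =>
      rw [TensorProduct.equivFinsuppOfBasisLeft_apply_tmul_apply, Algebra.TensorProduct.lift_tmul]
      simp only [AlgHom.coe_id, id_eq, AlgHom.comp_apply, Algebra.ofId_apply]
      rw [map_smul, smul_eq_mul, ← Algebra.commutes, ← Algebra.smul_def, map_smul, Finsupp.smul_apply, smul_eq_mul,
        mul_comm]
    | add x y hx hy => rw [map_add, Finsupp.add_apply, map_add, hx, hy, map_add, map_add, Finsupp.add_apply]
  rw [map_sub, key, key, h, sub_self]

/-- Morphisms to an affine scheme are determined by their values. -/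
theorem ext_of_val {A : Type u} [CommRing A] [Algebra k A] {Z : Over (Spec (CommRingCat.of k))} [IsAffine Z.left]
    {p q : VecGrp.pt k A ⟶ Z} (h : InvRing21.val p = InvRing21.val q) : p = q := by
  refine Over.OverMorphism.ext (ext_of_isAffine (CommRingCat.hom_ext (RingHom.ext fun F => ?_)))
  exact (Scheme.ΓSpecIso (CommRingCat.of A)).commRingCatIsoToRingEquiv.injective (DFunLike.congr_fun h F)

variable {X Y Z : Over (Spec (CommRingCat.of k))} [IsAffine Z.left]

set_option maxHeartbeats 1600000 in
/-- Morphisms from a product agreeing at all rational points of the second factor agree (affine case). -/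
theorem eq_of_forall_pt_right_affine [IsAffine X.left] [IsAffine Y.left] [LocallyOfFiniteType Y.hom]
    [IsReduced Y.left] (f g : X ⊗ Y ⟶ Z)
    (h : ∀ y : VecGrp.pt k k ⟶ Y, lift (𝟙 X) (InvRing21.toPt X ≫ y) ≫ f = lift (𝟙 X) (InvRing21.toPt X ≫ y) ≫ g) :
    f = g := by
  haveI := InvRing21.finiteType_gam Y
  let A := Γ(X.left, ⊤)
  let B := Γ(Y.left, ⊤)
  haveI : IsReduced B := inferInstance
  let P := VecGrp.pt k (A ⊗[k] B)
  let e : P ⟶ X ⊗ Y := lift
    (VecGrp.ptMap (Algebra.TensorProduct.includeLeft : A →ₐ[k] A ⊗[k] B) ≫ InvRing21.uPt X)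
    (VecGrp.ptMap (Algebra.TensorProduct.includeRight : B →ₐ[k] A ⊗[k] B) ≫ InvRing21.uPt Y)
  haveI : IsIso (InvRing21.uPt X).left := inferInstanceAs (IsIso X.left.isoSpec.inv)
  haveI : IsIso (InvRing21.uPt Y).left := inferInstanceAs (IsIso Y.left.isoSpec.inv)
  haveI : IsIso (pullback.map (Spec.map (CommRingCat.ofHom (algebraMap k A)))
      (Spec.map (CommRingCat.ofHom (algebraMap k B))) X.hom Y.hom (InvRing21.uPt X).left (InvRing21.uPt Y).left (𝟙 _)
      ((Category.comp_id _).trans (Over.w (InvRing21.uPt X)).symm)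
      ((Category.comp_id _).trans (Over.w (InvRing21.uPt Y)).symm)) := inferInstance
  have he : e.left = (pullbackSpecIso k A B).inv ≫ pullback.map (Spec.map (CommRingCat.ofHom (algebraMap k A)))
      (Spec.map (CommRingCat.ofHom (algebraMap k B))) X.hom Y.hom (InvRing21.uPt X).left (InvRing21.uPt Y).left (𝟙 _)
      ((Category.comp_id _).trans (Over.w (InvRing21.uPt X)).symm)
      ((Category.comp_id _).trans (Over.w (InvRing21.uPt Y)).symm) := by
    refine pullback.hom_ext ?_ ?_
    · rw [Over.lift_left, pullback.lift_fst, Category.assoc, pullback.map, pullback.lift_fst,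
        pullbackSpecIso_inv_fst_assoc]
      rfl
    · rw [Over.lift_left, pullback.lift_snd, Category.assoc, pullback.map, pullback.lift_snd,
        pullbackSpecIso_inv_snd_assoc]
      rfl
  haveI : IsIso e.left := by rw [he]; exact IsIso.comp_isIso
  haveI : IsIso ((Over.forget _).map e) := inferInstanceAs (IsIso e.left)
  haveI : IsIso e := isIso_of_reflects_iso e (Over.forget _)
  refine (cancel_epi e).1 (ext_of_val ?_)
  refine AlgHom.ext fun F => eq_of_forall_eval fun χ => ?_
  have hy : VecGrp.ptMap (Algebra.TensorProduct.lift (AlgHom.id k A) ((Algebra.ofId k A).comp χ)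
      (fun _ _ => Commute.all _ _)) ≫ e =
      InvRing21.uPt X ≫ lift (𝟙 X) (InvRing21.toPt X ≫ VecGrp.ptMap χ ≫ InvRing21.uPt Y) := by
    refine CartesianMonoidalCategory.hom_ext _ _ ?_ ?_
    · simp only [e, Category.assoc, lift_fst]
      rw [← Category.assoc, InvRing21.ptMap_comp, Algebra.TensorProduct.lift_comp_includeLeft,
        show VecGrp.ptMap (AlgHom.id k A) = 𝟙 (VecGrp.pt k A) from Over.OverMorphism.ext (by
          show Spec.map (CommRingCat.ofHom (AlgHom.id k A).toRingHom) = 𝟙 _
          exact Spec.map_id _), Category.id_comp, Category.comp_id]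
    · simp only [e, Category.assoc, lift_snd]
      have hr : (Algebra.TensorProduct.lift (AlgHom.id k A) ((Algebra.ofId k A).comp χ)
          (fun _ _ => Commute.all _ _)).comp Algebra.TensorProduct.includeRight = (Algebra.ofId k A).comp χ :=
        AlgHom.ext fun b => by simp
      rw [← Category.assoc, InvRing21.ptMap_comp, hr, ← InvRing21.ptMap_comp, Category.assoc,
        ← Category.assoc (InvRing21.uPt X), InvRing21.hom_ext_toPt (InvRing21.uPt X ≫ InvRing21.toPt X)
          (VecGrp.ptMap (Algebra.ofId k A))]
  have h1 := congrArg (InvRing21.uPt X ≫ ·) (h (VecGrp.ptMap χ ≫ InvRing21.uPt Y))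
  simp only [← Category.assoc] at h1
  rw [show InvRing21.uPt X ≫ lift (𝟙 X) ((InvRing21.toPt X ≫ VecGrp.ptMap χ) ≫ InvRing21.uPt Y) =
    VecGrp.ptMap (Algebra.TensorProduct.lift (AlgHom.id k A) ((Algebra.ofId k A).comp χ)
      (fun _ _ => Commute.all _ _)) ≫ e from by rw [hy, Category.assoc (InvRing21.toPt X)]] at h1
  have h2 := congrArg (fun q : VecGrp.pt k A ⟶ Z => InvRing21.val q F) h1
  simp only [Category.assoc, InvRing21.val_ptMap, AlgHom.comp_apply] at h2
  exact h2

set_option maxHeartbeats 800000 in
/-- Morphisms from a product agreeing at all rational points of the second factor agree. -/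
theorem eq_of_forall_pt_right [IsAffine Y.left] [LocallyOfFiniteType Y.hom]
    [IsReduced Y.left] (f g : X ⊗ Y ⟶ Z)
    (h : ∀ y : VecGrp.pt k k ⟶ Y, lift (𝟙 X) (InvRing21.toPt X ≫ y) ≫ f = lift (𝟙 X) (InvRing21.toPt X ≫ y) ≫ g) :
    f = g := by
  refine Over.OverMorphism.ext ((Scheme.Pullback.openCoverOfLeft X.left.affineCover X.hom Y.hom).hom_ext _ _ fun i => ?_)
  let U : Over (Spec (CommRingCat.of k)) := Over.mk (X.left.affineCover.f i ≫ X.hom)
  haveI : IsAffine U.left := inferInstanceAs (IsAffine (X.left.affineCover.X i))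
  let j : U ⟶ X := Over.homMk (X.left.affineCover.f i) rfl
  have h1 : (j ▷ Y) ≫ f = (j ▷ Y) ≫ g := eq_of_forall_pt_right_affine _ _ fun y => by
    have e : lift (𝟙 U) (InvRing21.toPt U ≫ y) ≫ (j ▷ Y) = j ≫ lift (𝟙 X) (InvRing21.toPt X ≫ y) := by
      refine CartesianMonoidalCategory.hom_ext _ _ ?_ ?_
      · simp
      · simp [← Category.assoc, InvRing21.comp_toPt]
    rw [reassoc_of% e, reassoc_of% e, h y]
  have h2 := congrArg CommaMorphism.left h1
  have e2 : (j ▷ Y).left = (Scheme.Pullback.openCoverOfLeft X.left.affineCover X.hom Y.hom).f i := by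
    refine pullback.hom_ext ?_ ?_
    · rw [Over.whiskerRight_left_fst]
      exact (pullback.lift_fst _ _ _).symm
    · rw [Over.whiskerRight_left_snd]
      exact ((pullback.lift_snd _ _ _).trans (Category.comp_id _)).symm
  simp only [Over.comp_left, e2] at h2
  exact h2

end Groth.Agent.TorPts21
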