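import Groth.Agent.Lib.TorPts21.BaseChangeTorus
import Groth.Agent.Lib.BorelFix21.BaseChange
import Groth.Prelude.Def_Par

/-!
# Geometric fibres over an algebraically closed field; unipotent radicals there
-/

set_option autoImplicit false
set_option linter.style.haveILetI false
set_option backward.isDefEq.respectTransparency.types false
universe u

open CategoryTheory Limits MonoidalCategory CartesianMonoidalCategory MonObj AlgebraicGeometry
open Groth.Agent.DiagGL Groth.Agent.AlgGrpBasic19 Groth.Agent.MultAct19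

noncomputable section

namespace Groth.Agent.TorPts21

/-- The geometric points of the spectrum of an algebraically closed field are isomorphisms. -/
instance isIso_geomPt {k : Type u} [Field k] [IsAlgClosed k] (s : Spec (CommRingCat.of k)) :
    IsIso (Red.geomPt s) := by
  haveI : IsIso ((Spec (CommRingCat.of k)).fromSpecResidueField s) := by
    obtain rfl : s = IsLocalRing.closedPoint k := Subsingleton.elim _ _
    haveI : IsClosedImmersion ((Spec (CommRingCat.of k)).fromSpecResidueField (IsLocalRing.closedPoint k)) :=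
      IsClosedImmersion.of_isPreimmersion _ (by
        rw [Scheme.range_fromSpecResidueField]
        exact (Set.subsingleton_singleton).isClosed)
    haveI : Surjective ((Spec (CommRingCat.of k)).fromSpecResidueField (IsLocalRing.closedPoint k)) :=
      ⟨fun y => ⟨IsLocalRing.closedPoint _, Subsingleton.elim _ _⟩⟩
    haveI : IsReduced (Spec (CommRingCat.of k)) := inferInstance
    exact isIso_of_isClosedImmersion_of_surjective _
  let κ := (Spec (CommRingCat.of k)).residueField s
  haveI : IsAlgClosed κ := by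
    let e : (CommRingCat.of k) ≅ κ :=
      (Scheme.ΓSpecIso _).symm ≪≫
        (@asIso _ _ _ _ ((Spec (CommRingCat.of k)).fromSpecResidueField s).appTop
          (inferInstanceAs (IsIso (((Spec (CommRingCat.of k)).fromSpecResidueField s).app ⊤)))) ≪≫ Scheme.ΓSpecIso _
    exact IsAlgClosed.of_ringEquiv k κ e.commRingCatIsoToRingEquiv
  have hb : Function.Bijective (algebraMap κ (AlgebraicClosure κ)) :=
    IsAlgClosed.algebraMap_bijective_of_isIntegral
  haveI : IsIso (CommRingCat.ofHom (algebraMap κ (AlgebraicClosure κ))) :=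
    (RingEquiv.ofBijective (algebraMap κ (AlgebraicClosure κ)) hb).toCommRingCatIso.isIso_hom
  infer_instance

variable {k : Type u} [Field k] [IsAlgClosed k]

/-- Having no subtorus is stable under isomorphisms of base fields. -/
theorem hasNoSubtorus_geomFibre (s : ↥(Spec (CommRingCat.of k))) {U : Over (Spec (CommRingCat.of k))} [GrpObj U]
    (h : Red.HasNoSubtorus k U) :
    Red.HasNoSubtorus (AlgebraicClosure ((Spec (CommRingCat.of k)).residueField s)) (Red.geomFibre s U) := by
  intro T _ j _ _ hT
  let φ := Red.geomPt s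
  haveI : IsIso φ := isIso_geomPt s
  let ψ := inv φ
  let ι₀ : ∀ X : Over (Spec (CommRingCat.of k)), (Over.map φ).obj ((Over.map ψ).obj X) ≅ X := fun X =>
    Over.isoMk (Iso.refl _) (by
      show 𝟙 _ ≫ X.hom = (X.hom ≫ ψ) ≫ φ
      rw [Category.id_comp, Category.assoc, IsIso.inv_hom_id, Category.comp_id])
  have hnat : ∀ {X Y : Over (Spec (CommRingCat.of k))} (t : X ⟶ Y),
      (Over.map φ).map ((Over.map ψ).map t) ≫ (ι₀ Y).hom = (ι₀ X).hom ≫ t := fun t => by
    ext
    show t.left ≫ 𝟙 _ = 𝟙 _ ≫ t.left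
    rw [Category.id_comp, Category.comp_id]
  let c : ∀ {X : Over (Spec (CommRingCat.of k))}, (X ⟶ Red.bc ψ T) → (X ⟶ U) := fun {X} x =>
    (ι₀ X).inv ≫ fl φ U (fl ψ T x ≫ j)
  have hcmul : ∀ {X : Over (Spec (CommRingCat.of k))} (x y : X ⟶ Red.bc ψ T), c (x * y) = c x * c y := fun x y => by
    simp only [c, fl_mul, MonObj.mul_comp, MonObj.comp_mul]
  have hcn : ∀ {X Y : Over (Spec (CommRingCat.of k))} (t : X ⟶ Y) (y : Y ⟶ Red.bc ψ T), c (t ≫ y) = t ≫ c y :=
    fun {X Y} t y => by
      simp only [c]
      rw [show fl ψ T (t ≫ y) ≫ j = (Over.map ψ).map t ≫ (fl ψ T y ≫ j) by rw [fl_comp, Category.assoc],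
        fl_comp, ← Category.assoc, ← Category.assoc]
      congr 1
  have hcinj : ∀ {X : Over (Spec (CommRingCat.of k))} (x y : X ⟶ Red.bc ψ T), c x = c y → x = y := fun x y hxy => by
    simp only [c, cancel_epi] at hxy
    exact fl_injective ψ T ((cancel_mono j).1 (fl_injective φ U hxy))
  let j' : Red.bc ψ T ⟶ U := c (𝟙 _)
  have hj' : ∀ {X : Over (Spec (CommRingCat.of k))} (x : X ⟶ Red.bc ψ T), x ≫ j' = c x := fun x => by
    rw [← hcn, Category.comp_id]
  haveI : IsMonHom j' := TorsorSch25.isMonHom_of_points j' fun X x y => by rw [hj', hj', hj', hcmul]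
  haveI : Mono j' := ⟨fun x y hxy => hcinj x y (by rw [← hj', ← hj', hxy])⟩
  have h1 := h (Red.bc ψ T) j' (isTorus_bc ψ hT)
  have e : pullback.fst T.hom ψ ≫ T.hom = pullback.snd T.hom ψ ≫ ψ := pullback.condition
  haveI : IsIso (pullback.snd T.hom ψ) := h1
  show IsIso T.hom
  rw [show T.hom = inv (pullback.fst T.hom ψ) ≫ pullback.snd T.hom ψ ≫ ψ by rw [← e, IsIso.inv_hom_id_assoc]]
  infer_instance


omit [Field k] [IsAlgClosed k] in
theorem trivial_of_bc {S' S : Scheme.{u}} (φ : S' ⟶ S) [IsIso φ] {T : Over S} [GrpObj T]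
    (h : Red.IsTrivialGrp (Red.bc φ T)) : Red.IsTrivialGrp T := by
  have e : pullback.fst T.hom φ ≫ T.hom = pullback.snd T.hom φ ≫ φ := pullback.condition
  haveI : IsIso (pullback.snd T.hom φ) := h
  show IsIso T.hom
  rw [show T.hom = inv (pullback.fst T.hom φ) ≫ pullback.snd T.hom φ ≫ φ by rw [← e, IsIso.inv_hom_id_assoc]]
  infer_instance

omit [Field k] [IsAlgClosed k] in
theorem connectedSpace_pullback_iff {S' S : Scheme.{u}}
    (φ : S' ⟶ S) [IsIso φ] {U : Over S} :
    ConnectedSpace (Red.bc φ U).left ↔ ConnectedSpace U.left := by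
  show ConnectedSpace ↥(Limits.pullback U.hom φ) ↔ _
  exact (Scheme.homeoOfIso (asIso (Limits.pullback.fst U.hom φ))).connectedSpace_iff

theorem hasNoSubtorus_of_geomFibre (s : ↥(Spec (CommRingCat.of k))) {U : Over (Spec (CommRingCat.of k))} [GrpObj U]
    (h : Red.HasNoSubtorus (AlgebraicClosure ((Spec (CommRingCat.of k)).residueField s)) (Red.geomFibre s U)) :
    Red.HasNoSubtorus k U := by
  intro T _ j _ _ hT
  haveI hi : IsIso (Red.geomPt s) := isIso_geomPt s
  have h0 := h (Red.bc (Red.geomPt s) T) ((Over.pullback (Red.geomPt s)).map j) (isTorus_bc (Red.geomPt s) hT)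
  exact trivial_of_bc (Red.geomPt s) h0

set_option maxHeartbeats 400000 in
/-- The fibre conditions of a unipotent radical over an algebraically closed field. -/
theorem forall_fibre_iff {U : Over (Spec (CommRingCat.of k))} [GrpObj U] :
    (∀ s : ↥(Spec (CommRingCat.of k)), ConnectedSpace (Red.geomFibre s U).left ∧
      Red.HasNoSubtorus (AlgebraicClosure ((Spec (CommRingCat.of k)).residueField s)) (Red.geomFibre s U)) ↔
    ConnectedSpace U.left ∧ Red.HasNoSubtorus k U := by
  constructor
  · intro h
    have key : ∀ s : ↥(Spec (CommRingCat.of k)), ConnectedSpace (Red.geomFibre s U).left → ConnectedSpace U.left :=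
      fun s h1 => by
        haveI hi : IsIso (Red.geomPt s) := isIso_geomPt s
        exact (connectedSpace_pullback_iff (Red.geomPt s)).1 h1
    obtain ⟨h1, h2⟩ := h (IsLocalRing.closedPoint k)
    exact ⟨key _ h1,
      hasNoSubtorus_of_geomFibre (IsLocalRing.closedPoint k) h2⟩
  · rintro ⟨h1, h2⟩ s
    have key : ∀ s : ↥(Spec (CommRingCat.of k)), ConnectedSpace U.left → ConnectedSpace (Red.geomFibre s U).left :=
      fun s h1 => by
        haveI hi : IsIso (Red.geomPt s) := isIso_geomPt s
        exact (connectedSpace_pullback_iff (Red.geomPt s)).2 h1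
    exact ⟨key s h1, hasNoSubtorus_geomFibre s h2⟩

/-- Unipotent radicals over an algebraically closed field. -/
theorem isUnipotentRadical_iff {U P : Over (Spec (CommRingCat.of k))} [GrpObj U] [GrpObj P] (u : U ⟶ P) :
    Par.IsUnipotentRadical u ↔ IsMonHom u ∧ IsClosedImmersion u.left ∧ AlgGrp.IsNormalHom u ∧ Smooth U.hom ∧
      QuasiCompact U.hom ∧ ConnectedSpace U.left ∧ Red.HasNoSubtorus k U ∧
      ∀ (U' : Over (Spec (CommRingCat.of k))) [GrpObj U'] (u' : U' ⟶ P) [IsMonHom u'], IsClosedImmersion u'.left →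
        AlgGrp.IsNormalHom u' → Smooth U'.hom → QuasiCompact U'.hom → ConnectedSpace U'.left →
        Red.HasNoSubtorus k U' → ∃ f : U' ⟶ U, f ≫ u = u' := by
  simp only [Par.IsUnipotentRadical, forall_fibre_iff, and_assoc, and_imp]

end Groth.Agent.TorPts21
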