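import Groth.Agent.Lib.TorPts21.BaseChangeTorus
import Groth.Agent.Lib.TorPts21.ReductiveCartanField
import Groth.Agent.Lib.MTRigid29.TransporterSmooth

/-!
# Properties descending along extensions of the base field
-/

set_option autoImplicit false
set_option linter.style.haveILetI false
set_option backward.isDefEq.respectTransparency.types false
universe u

open CategoryTheory Limits MonoidalCategory CartesianMonoidalCategory MonObj AlgebraicGeometry
open Groth.Agent.DiagGL Groth.Agent.AlgGrpBasic19 Groth.Agent.MultAct19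

noncomputable section

namespace Groth.Agent.TorPts21

variable {k K : Type u} [Field k] [Field K] (φ : Spec (CommRingCat.of K) ⟶ Spec (CommRingCat.of k))

/-- Being a torus may be checked after a field extension. -/
theorem isTorus_of_bc {T : Over (Spec (CommRingCat.of k))} [GrpObj T] (h : Red.IsTorus (Red.bc φ T)) :
    Red.IsTorus T := by
  obtain ⟨S', f, hf, hs, -, hloc⟩ := h
  haveI := hf
  haveI := hs
  haveI : Surjective φ := ⟨fun z => ⟨IsLocalRing.closedPoint K, Subsingleton.elim _ _⟩⟩
  haveI : Flat φ := inferInstance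
  refine ⟨S', f ≫ φ, inferInstance, inferInstance, fun V hV => ?_, fun p => ?_⟩
  · rcases Set.eq_empty_or_nonempty (V : Set (Spec (CommRingCat.of k))) with h | ⟨v, hv⟩
    · exact ⟨⊥, by simp, by simp [h]⟩
    · obtain ⟨w, hw⟩ := (f ≫ φ).surjective v
      obtain ⟨_, ⟨W, hW, rfl⟩, hwW, -⟩ := S'.isBasis_affineOpens.exists_subset_of_mem_open (Set.mem_univ w) isOpen_univ
      have huniv : (V : Set (Spec (CommRingCat.of k))) = Set.univ :=
        Set.eq_univ_of_forall fun z => by rwa [Subsingleton.elim z v]
      refine ⟨W, hW.isCompact, ?_⟩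
      rw [huniv]
      exact Set.eq_univ_of_forall fun z => ⟨w, hwW, Subsingleton.elim _ _⟩
  · obtain ⟨U, hU, r, ⟨iso⟩⟩ := hloc p
    refine ⟨U, hU, r, ?_⟩
    rw [← Category.assoc]
    exact isSplitTorusWith_of_chars (charsComp φ (U.ι ≫ f) ((charsDS (U : Scheme.{u}) (Fin r → ℤ)).transport iso))

/-- Triviality of a group may be checked after a field extension. -/
theorem isTrivialGrp_of_bc {T : Over (Spec (CommRingCat.of k))} (h : Red.IsTrivialGrp (Red.bc φ T)) :
    Red.IsTrivialGrp T := by
  haveI : Surjective φ := ⟨fun z => ⟨IsLocalRing.closedPoint K, Subsingleton.elim _ _⟩⟩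
  exact MorphismProperty.of_pullback_snd_of_descendsAlong (P := MorphismProperty.isomorphisms Scheme)
    (Q := @Surjective ⊓ @Flat ⊓ @QuasiCompact) ⟨⟨inferInstance, inferInstance⟩, inferInstance⟩
    (f := T.hom) (g := φ) (by exact h)

/-- Equality of morphisms may be checked after a field extension. -/
theorem eq_of_bc {X Y : Over (Spec (CommRingCat.of k))} (f g : X ⟶ Y)
    (h : (Over.pullback φ).map f = (Over.pullback φ).map g) : f = g := by
  haveI : Surjective φ := ⟨fun z => ⟨IsLocalRing.closedPoint K, Subsingleton.elim _ _⟩⟩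
  haveI : Flat φ := inferInstance
  let π : (Red.bc φ X).left ⟶ X.left := pullback.fst X.hom φ
  haveI : Flat π := inferInstanceAs (Flat (pullback.fst X.hom φ))
  haveI : Surjective π := inferInstanceAs (Surjective (pullback.fst X.hom φ))
  haveI : QuasiCompact π := inferInstanceAs (QuasiCompact (pullback.fst X.hom φ))
  haveI : Epi π := Flat.epi_of_flat_of_surjective π
  refine Over.OverMorphism.ext ((cancel_epi π).1 ?_)
  have e : ∀ f : X ⟶ Y, ((Over.pullback φ).map f).left ≫ pullback.fst Y.hom φ = π ≫ f.left :=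
    fun f => pullback.lift_fst _ _ _
  rw [← e, ← e, h]

/-- Normal subgroups stay normal. -/
theorem isNormalHom_bc {S S' : Scheme.{u}} (ψ : S' ⟶ S) {G N : Over S} [GrpObj G] [GrpObj N] {i : N ⟶ G}
    (hn : AlgGrp.IsNormalHom i) : AlgGrp.IsNormalHom ((Over.pullback ψ).map i) := fun T g n => by
  obtain ⟨n', hn'⟩ := hn _ (fl ψ G g) (fl ψ N n)
  obtain ⟨z, rfl⟩ := fl_surjective ψ N n'
  exact ⟨z, fl_injective ψ G (by rw [fl_mul, fl_mul, MTRigid29.fl_inv ψ G, fl_comp_map, fl_comp_map, hn'])⟩

/-- Tori over a field are smooth and connected. -/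
theorem smooth_connected_of_isTorus {k : Type u} [Field k] {T : Over (Spec (CommRingCat.of k))} [GrpObj T]
    (hT : Red.IsTorus T) : Smooth T.hom ∧ ConnectedSpace T.left := by
  let s₀ : Spec (CommRingCat.of k) := IsLocalRing.closedPoint k
  let φ := Red.geomPt s₀
  obtain ⟨-, hs, hc, -⟩ := props_of_isTorus (isTorus_bc φ hT)
  haveI : Surjective φ := ⟨fun z => ⟨IsLocalRing.closedPoint _, Subsingleton.elim _ _⟩⟩
  exact ⟨MorphismProperty.of_pullback_snd_of_descendsAlong (P := @Smooth)
    (Q := @Surjective ⊓ @Flat ⊓ @QuasiCompact) ⟨⟨inferInstance, inferInstance⟩, inferInstance⟩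
    (f := T.hom) (g := φ) (by exact hs), connectedSpace_of_bc φ hc⟩

end Groth.Agent.TorPts21
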