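import Groth.Agent.Lib.TorPts21.ReductiveCartanField
import Groth.Agent.Lib.TorPts21.GeomIso
import Groth.Agent.Lib.TorPts21.FieldDescent

/-!
# Maximal tori over an algebraically closed field
-/

set_option autoImplicit false
set_option linter.style.haveILetI false
set_option backward.isDefEq.respectTransparency.types false
universe u

open CategoryTheory Limits MonoidalCategory CartesianMonoidalCategory MonObj AlgebraicGeometry

noncomputable section

namespace Groth.Agent.TorPts21

/-- Over an algebraically closed field the two notions of maximal torus agree in the easy direction. -/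
theorem isMaxTorus_of_isMaximalTorus {k : Type u} [Field k] [IsAlgClosed k]
    {G T : Over (Spec (CommRingCat.of k))} [GrpObj G] [GrpObj T] {iT : T ⟶ G} (hT : Red.IsMaximalTorus iT) :
    AGF.IsMaxTorus iT := by
  obtain ⟨hm, hmono, htor, hmax⟩ := hT
  haveI := hm
  haveI := hmono
  refine ⟨inferInstance, inferInstance, htor, fun T' _ j _ _ f hT' hf => ?_⟩
  let s₀ : Spec (CommRingCat.of k) := IsLocalRing.closedPoint k
  let φ := Red.geomPt s₀
  have h1 : IsIso ((Over.pullback φ).map f) := hmax s₀ (Red.bc φ T') ((Over.pullback φ).map j) ((Over.pullback φ).map f)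
    (isTorus_bc φ hT') (by rw [← Functor.map_comp, hf])
  haveI : IsIso φ := inferInstanceAs (IsIso (Red.geomPt s₀))
  haveI : IsIso (pullback.fst T.hom φ) := inferInstance
  haveI : IsIso (pullback.fst T'.hom φ) := inferInstance
  haveI : IsIso ((Over.pullback φ).map f).left :=
    inferInstanceAs (IsIso ((Over.forget (Spec (CommRingCat.of (AlgebraicClosure ((Spec (CommRingCat.of k)).residueField s₀))))).map ((Over.pullback φ).map f)))
  have e : ((Over.pullback φ).map f).left ≫ pullback.fst T'.hom φ = pullback.fst T.hom φ ≫ f.left :=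
    pullback.lift_fst _ _ _
  have hfl : f.left = inv (pullback.fst T.hom φ) ≫ ((Over.pullback φ).map f).left ≫ pullback.fst T'.hom φ := by
    rw [e, IsIso.inv_hom_id_assoc]
  haveI : IsIso ((Over.forget _).map f) := by
    show IsIso f.left
    rw [hfl]
    infer_instance
  exact isIso_of_reflects_iso f (Over.forget _)

/-- Over an algebraically closed field a semisimple group is semisimple in the absolute sense. -/
theorem isSemisimpleOver_of_isSemisimple_closed {k : Type u} [Field k] [IsAlgClosed k]
    {G : Over (Spec (CommRingCat.of k))} [GrpObj G] (hG : Red.IsSemisimple G) : Red.IsSemisimpleOver k G := by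
  let s₀ : Spec (CommRingCat.of k) := IsLocalRing.closedPoint k
  let φ := Red.geomPt s₀
  haveI : IsIso φ := inferInstanceAs (IsIso (Red.geomPt s₀))
  obtain ⟨hGa, hGs, hGc⟩ := props_of_isReductive (G := G) ⟨hG.1, hG.2.1, fun s => (hG.2.2 s).1⟩
  haveI := hGa
  haveI := hGs
  obtain ⟨⟨-, -, -, hU⟩, hT⟩ := hG.2.2 s₀
  refine ⟨⟨hGa, hGs, hGc, fun U _ i _ hic hUs hUc hn hnst => ?_⟩, fun T _ i _ hic hn hTt => ?_⟩
  · haveI := hic
    haveI := hUs
    haveI := hUc
    exact trivial_of_bc φ (hU (Red.bc φ U) ((Over.pullback φ).map i) (BorelFix21.isClosedImmersion_bc φ i)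
      (BorelFix21.smooth_bc φ U) (BorelFix21.connectedSpace_bc φ U) (isNormalHom_bc φ hn)
      (hasNoSubtorus_geomFibre s₀ hnst))
  · haveI := hic
    exact trivial_of_bc φ (hT (Red.bc φ T) ((Over.pullback φ).map i) (BorelFix21.isClosedImmersion_bc φ i)
      (isNormalHom_bc φ hn) (isTorus_bc φ hTt))

end Groth.Agent.TorPts21
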