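import Groth.Agent.Lib.TorPts21.Nilpotent

/-!
# Nilpotent groups and central maximal tori
-/

set_option autoImplicit false
set_option linter.style.haveILetI false
set_option backward.isDefEq.respectTransparency.types false
universe u

open CategoryTheory Limits MonoidalCategory CartesianMonoidalCategory MonObj AlgebraicGeometry

noncomputable section

namespace Groth.Agent.TorPts21

open MatGrp21

attribute [local instance] InvRing21.gamAlg BorelFix21.ptsTop

variable {k : Type u} [Field k] [IsAlgClosed k] {G T : Over (Spec (CommRingCat.of k))} [GrpObj G] [GrpObj T]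
  [IsAffine G.left] [Smooth G.hom]

set_option maxHeartbeats 400000 in
/-- A torus commuting with all rational points is central. -/
theorem comm_of_points {iT : T ⟶ G} [IsMonHom iT] (hT : Red.IsTorus T)
    (h : ∀ (g : VecGrp.pt k k ⟶ G) (t : VecGrp.pt k k ⟶ T), g * (t ≫ iT) = (t ≫ iT) * g)
    {X : Over (Spec (CommRingCat.of k))} (g : X ⟶ G) (x : X ⟶ T) : g * (x ≫ iT) = (x ≫ iT) * g := by
  obtain ⟨C, _, c, hC, -, -⟩ := MTRigid29.exists_centralizer
    (MTRigid29.isMT_of_ft (isMultTypeFT_of_isTorus hT)) ‹_› inferInstance iT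
  obtain ⟨hcm, hci, hcs, hca⟩ := centralizer_props hT hC
  haveI := hcm
  haveI := hci
  haveI := hcs
  haveI := hca
  obtain ⟨f, hf⟩ := exists_lift_of_pts c (𝟙 G) fun y => by
    obtain ⟨y', rfl⟩ := exists_gpt y
    obtain ⟨z, hz⟩ := exists_lift_centralizer_pt hT hC y' fun t => h _ t
    exact ⟨gpt z, by rw [Category.comp_id, gpt, gpt, Category.assoc, hz]⟩
  have := centralizer_comm hC (g ≫ f) x
  rwa [Category.assoc, hf, Category.comp_id] at this

variable [ConnectedSpace G.left]

set_option maxHeartbeats 800000 in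
/-- In a nilpotent connected group every torus is central. -/
theorem comm_of_isNilpotentGrp (hnil : AGF.IsNilpotentGrp G) {iT : T ⟶ G} [IsMonHom iT] (hT : Red.IsTorus T)
    {X : Over (Spec (CommRingCat.of k))} (g : X ⟶ G) (x : X ⟶ T) : g * (x ≫ iT) = (x ≫ iT) * g := by
  obtain ⟨N, hN⟩ := hnil
  haveI : IsSeparated G.hom := inferInstance
  haveI : Group.IsNilpotent (VecGrp.pt k k ⟶ G) := ⟨⟨N, hN _⟩⟩
  have hsol : Red.IsSolvableGrp G := BorelFix21.isSolvableGrp_of_points inferInstance
  haveI : IsClosedImmersion (𝟙 G : G ⟶ G).left := inferInstanceAs (IsClosedImmersion (𝟙 G.left))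
  obtain ⟨n, r, hr, hrc, hu⟩ := exists_upper_embedding (𝟙 G) hsol
  haveI := hr
  haveI := hrc
  have hmem : ∀ y : VecGrp.pt k k ⟶ G, mtx r y ∈ (upper : Subgroup (GL (Fin n) k)) := fun y =>
    hu ⟨y, by rw [mtx_comp, Category.comp_id]⟩
  obtain ⟨d, ⟨Ch⟩⟩ := exists_chars hT
  refine comm_of_points hT (fun y t => mtxFn_injective r ?_) g x
  rw [← mtx_apply r, map_mul, ← mtx_apply r, map_mul]
  have hcl : IsClosed {a : GL (Fin n) k | a * mtx r y = mtx r y * a} := isClosed_commute _
  refine (closure_minimal (s := tors ((mtx (iT ≫ r)).range : Set (GL (Fin n) k))) ?_ hcl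
    (range_mtx_dense Ch (iT ≫ r) ⟨t, by rw [mtx_comp]⟩)).symm
  rintro _ ⟨⟨s, rfl⟩, L, hL, hsL⟩
  show _ * _ = _ * _
  rw [mtx_comp] at hsL ⊢
  have hs1 : (mtx r (s ≫ iT)) ^ L = 1 := hsL
  have key : ∀ m, ∀ z : VecGrp.pt k k ⟶ G, z ∈ Subgroup.upperCentralSeries (VecGrp.pt k k ⟶ G) m →
      Commute (mtx r z) (mtx r (s ≫ iT)) := by
    intro m
    induction m with
    | zero =>
      intro z hz
      rw [Subgroup.upperCentralSeries_zero, Subgroup.mem_bot] at hz
      rw [hz, map_one]
      exact Commute.one_left _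
    | succ m ih =>
      intro z hz
      have h1 := ih _ (Subgroup.mem_upperCentralSeries_succ_iff.1 hz (s ≫ iT))
      simp only [commutatorElement_def, map_mul, map_inv] at h1
      set a := mtx r z with ha
      set b := mtx r (s ≫ iT) with hb
      set w := a * b * a⁻¹ * b⁻¹ with hw
      have hwl : w ∈ (lay 1 : Subgroup (GL (Fin n) k)) := by
        have h := commutator_mem_lay ((upper : Subgroup (GL (Fin n) k)).inv_mem (hmem z))
          ((upper : Subgroup (GL (Fin n) k)).inv_mem (hmem (s ≫ iT)))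
        simpa only [inv_inv] using h
      have hwL : w ^ L = 1 := by
        have h2 : (a * b * a⁻¹) ^ L = 1 := by rw [conj_pow, hs1, _root_.mul_one, mul_inv_cancel]
        have h3 : w * b = a * b * a⁻¹ := by rw [hw]; group
        rw [← h3, h1.mul_pow, hs1, _root_.mul_one] at h2
        exact h2
      have hw1 : w = 1 := root_unique (isUnip_of_mem_lay hwl) isUnip_one hL (by rw [hwL, one_pow])
      show a * b = b * a
      rw [hw, mul_inv_eq_one, mul_inv_eq_iff_eq_mul] at hw1
      exact hw1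
  exact (key N y (by rw [hN]; trivial)).eq.symm

set_option maxHeartbeats 800000 in
/-- A torus normalised by all rational points of a connected group is central. -/
theorem comm_of_normalized {iT : T ⟶ G} [IsMonHom iT] (hT : Red.IsTorus T)
    (hn : ∀ (g : VecGrp.pt k k ⟶ G) (t : VecGrp.pt k k ⟶ T), ∃ t' : VecGrp.pt k k ⟶ T,
      g * (t ≫ iT) * g⁻¹ = t' ≫ iT)
    {X : Over (Spec (CommRingCat.of k))} (g : X ⟶ G) (x : X ⟶ T) : g * (x ≫ iT) = (x ≫ iT) * g := by
  obtain ⟨n, r, hr, hrc⟩ := GrassAct21.exists_embedding_GL G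
  haveI := hr
  haveI := hrc
  obtain ⟨d, ⟨Ch⟩⟩ := exists_chars hT
  obtain ⟨Q, hQ⟩ := range_mtx_diag Ch (iT ≫ r)
  refine comm_of_points hT (fun y t => mtxFn_injective r ?_) g x
  haveI : PreconnectedSpace (VecGrp.pt k k ⟶ G) := BorelFix21.preconnectedSpace_pts
  set a := mtx r (t ≫ iT) with ha
  let f : (VecGrp.pt k k ⟶ G) → GL (Fin n) k := fun y => mtx r y * a * (mtx r y)⁻¹
  have hcont : Continuous f :=
    (continuous_conjugate a).comp (continuous_mtxFn r)
  have hfin : (Set.range f).Finite := by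
    refine (finite_of_isDiag_charpoly Q _
      (Matrix.charpoly_monic (a : Matrix (Fin n) (Fin n) k)).ne_zero).subset ?_
    rintro _ ⟨z, rfl⟩
    refine ⟨?_, ?_⟩
    · obtain ⟨t', ht'⟩ := hn z t
      refine hQ _ ⟨t', ?_⟩
      show mtx (iT ≫ r) t' = mtx r z * a * (mtx r z)⁻¹
      rw [mtx_comp, ha, ← map_mul, ← map_inv, ← map_mul, ht']
    · rw [Units.val_mul, Units.val_mul, Matrix.coe_units_inv, Matrix.charpoly_units_conj]
  have h := BorelFix21.eq_of_finite_range f hfin
    (fun c => (isClosed_singleton' c).preimage hcont) y 1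
  simp only [f, map_one, inv_one, _root_.mul_one, _root_.one_mul] at h
  rw [← mtx_apply r, ← mtx_apply r, map_mul, map_mul, ← ha]
  exact mul_inv_eq_iff_eq_mul.1 h

end Groth.Agent.TorPts21
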