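import Groth.Agent.Lib.TorPts21.SubOfPts
import Groth.Agent.Lib.TorPts21.GeomIso
import Groth.Agent.Lib.TorPts21.BorelCent

/-!
# The unipotent radical of a connected solvable group
-/

set_option autoImplicit false
set_option linter.style.haveILetI false
set_option backward.isDefEq.respectTransparency.types false
universe u

open CategoryTheory Limits MonoidalCategory CartesianMonoidalCategory MonObj AlgebraicGeometry

noncomputable section

namespace Groth.Agent.TorPts21

open MatGrp21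

attribute [local instance] InvRing21.gamAlg BorelFix21.ptsTop

variable {k : Type u} [Field k] [IsAlgClosed k] {n : ℕ}

omit [IsAlgClosed k] in
/-- A diagonalisable unipotent matrix is trivial. -/
theorem eq_one_of_isUnip_of_isDiag {P g : GL (Fin n) k}
    (hP : ((P * g * P⁻¹ : GL (Fin n) k) : Matrix (Fin n) (Fin n) k).IsDiag) (hg : IsUnip g) : g = 1 := by
  have h1 : ((P * g * P⁻¹ : GL (Fin n) k) : Matrix (Fin n) (Fin n) k) - 1 =
      (P : Matrix (Fin n) (Fin n) k) * ((g : Matrix (Fin n) (Fin n) k) - 1) * ((P⁻¹ : GL (Fin n) k) : Matrix (Fin n) (Fin n) k) := by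
    rw [mul_sub, sub_mul, _root_.mul_one, Units.val_mul, Units.val_mul, Units.mul_inv]
  have h2 : (((P * g * P⁻¹ : GL (Fin n) k) : Matrix (Fin n) (Fin n) k) - 1) ^ n = 0 := by
    rw [h1, Units.conj_pow, hg, mul_zero, zero_mul]
  have h3 : ((P * g * P⁻¹ : GL (Fin n) k) : Matrix (Fin n) (Fin n) k) = 1 := by
    have hd := (hP.sub Matrix.isDiag_one).diagonal_diag
    rw [← hd, Matrix.diagonal_pow] at h2
    refine sub_eq_zero.1 ?_
    rw [← hd, Matrix.diagonal_eq_zero]
    funext i
    have := congrFun (Matrix.diagonal_eq_zero.1 h2) i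
    exact (pow_eq_zero_iff (by have := i.pos; omega)).1 this
  have h4 : P * g * P⁻¹ = 1 := Units.ext h3
  calc g = P⁻¹ * (P * g * P⁻¹) * P := by group
    _ = 1 := by rw [h4]; group

/-- A group embedded in the unipotent triangular matrices has no subtorus. -/
theorem hasNoSubtorus_of_range_le_lay {U : Over (Spec (CommRingCat.of k))} [GrpObj U] [IsAffine U.left]
    [LocallyOfFiniteType U.hom] (r : U ⟶ GLs k n) [IsMonHom r] [IsClosedImmersion r.left]
    (h : (mtx r).range ≤ lay 1) : Red.HasNoSubtorus k U := by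
  intro T _ j _ _ hT
  obtain ⟨hTa, hTs, -, -⟩ := props_of_isTorus hT
  haveI := hTa
  haveI := hTs
  obtain ⟨d, ⟨C⟩⟩ := exists_chars hT
  obtain ⟨P, hP⟩ := range_mtx_diag C (j ≫ r)
  have h1 : ∀ x : VecGrp.pt k k ⟶ T, x = 1 := fun x => by
    have hx : mtx (j ≫ r) x = 1 := eq_one_of_isUnip_of_isDiag (hP _ ⟨x, rfl⟩)
      (isUnip_of_mem_lay (h ⟨x ≫ j, (mtx_comp j r x).symm⟩))
    haveI : IsClosedImmersion j.left := isClosedImmersion_of_torus hT j
    haveI : IsClosedImmersion (j ≫ r).left := by rw [Over.comp_left]; infer_instance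
    refine mtxFn_injective (j ≫ r) ?_
    rw [← mtx_apply, ← mtx_apply, hx, map_one]
  haveI : IsClosedImmersion η[T].left := isClosedImmersion_of_comp_eq_id T.hom η[T].left (Over.w η[T])
  obtain ⟨f, hf⟩ := exists_lift_of_pts η[T] (𝟙 T) fun x => ⟨toUnit _, by
    rw [Category.comp_id, h1 x, Hom.one_def]⟩
  have e1 : f.left = T.hom := by
    have := Over.w f
    exact (Category.comp_id f.left).symm.trans this
  refine ⟨η[T].left, ?_, Over.w η[T]⟩
  rw [← e1, ← Over.comp_left, hf, Over.id_left]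

/-- A connected triangular group without subtori is unipotent. -/
theorem range_le_lay_of_hasNoSubtorus {V : Over (Spec (CommRingCat.of k))} [GrpObj V] [IsAffine V.left]
    [Smooth V.hom] [ConnectedSpace V.left] (r : V ⟶ GLs k n) [IsMonHom r] [IsClosedImmersion r.left]
    (hu : (mtx r).range ≤ upper) (h : Red.HasNoSubtorus k V) : (mtx r).range ≤ lay 1 := by
  obtain ⟨D⟩ := nonempty_decomp hu (isClosed_range_mtx r) (isPreirreducible_range_mtx' r)
  obtain ⟨σ, _, d, C, s, hsm, hsmono, hsc, hsr⟩ := exists_torus_subgroup r D.le D.closed D.irreducible D.P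
    fun t ht => by rw [D.diag t ht]; exact Matrix.isDiag_diagonal _
  have htriv := h σ s (isTorus_of_chars C)
  haveI : IsIso σ.hom := htriv
  have hT : ∀ t ∈ D.T, t = 1 := by
    intro t ht
    rw [← hsr] at ht
    obtain ⟨x, rfl⟩ := ht
    have hx : x = 1 := Over.OverMorphism.ext (by rw [← cancel_mono σ.hom, Over.w, Over.w])
    rw [hx, map_one]
  intro m hm
  obtain ⟨t, ht, htm⟩ := D.exists_mem m hm
  rwa [hT t ht, inv_one, _root_.one_mul] at htm

variable {G B : Over (Spec (CommRingCat.of k))} [GrpObj G] [GrpObj B] [IsAffine G.left]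

/-- The unipotent part of a triangular connected group. -/
theorem exists_unip_part (r : G ⟶ GLs k n) [IsMonHom r] [IsClosedImmersion r.left] (iB : B ⟶ G) [IsMonHom iB]
    [IsClosedImmersion iB.left] [Smooth B.hom] [ConnectedSpace B.left] (hu : (mtx (iB ≫ r)).range ≤ upper) :
    ∃ (U : Over (Spec (CommRingCat.of k))) (_ : GrpObj U) (u : U ⟶ B) (_ : IsMonHom u),
      IsClosedImmersion u.left ∧ Smooth U.hom ∧ ConnectedSpace U.left ∧ AlgGrp.IsNormalHom u ∧
        Red.HasNoSubtorus k U ∧ ∀ x : VecGrp.pt k k ⟶ B, (∃ y, y ≫ u = x) ↔ mtx (iB ≫ r) x ∈ lay 1 := by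
  haveI : IsAffine B.left := isAffine_of_isAffineHom iB.left
  haveI : IsClosedImmersion (iB ≫ r).left := by rw [Over.comp_left]; infer_instance
  obtain ⟨D⟩ := nonempty_decomp hu (isClosed_range_mtx (iB ≫ r)) (isPreirreducible_range_mtx' (iB ≫ r))
  let H : Subgroup (VecGrp.pt k k ⟶ B) := (lay 1).comap (mtx (iB ≫ r))
  have hemb := isClosedEmbedding_mtxFn (iB ≫ r)
  have hcl : IsClosed (H : Set (VecGrp.pt k k ⟶ B)) :=
    (isClosed_lay (k := k) (n := n) 1).preimage (continuous_mtxFn (iB ≫ r))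
  have hirr : IsPreirreducible (H : Set (VecGrp.pt k k ⟶ B)) := by
    have hU := D.isPreirreducible_unip hu (isPreirreducible_range_mtx' (iB ≫ r))
    rintro O O' hO hO' ⟨a, ha, haO⟩ ⟨b, hb, hbO⟩
    obtain ⟨V, hV, rfl⟩ := hemb.isEmbedding.isInducing.isOpen_iff.1 hO
    obtain ⟨V', hV', rfl⟩ := hemb.isEmbedding.isInducing.isOpen_iff.1 hO'
    obtain ⟨_, ⟨⟨x, rfl⟩, hx⟩, hxV⟩ := hU V V' hV hV' ⟨_, ⟨⟨a, rfl⟩, ha⟩, haO⟩ ⟨_, ⟨⟨b, rfl⟩, hb⟩, hbO⟩
    exact ⟨x, hx, hxV⟩
  obtain ⟨U, _, u, hum, hucl, hus, hun, hupts⟩ := exists_subgroup_of_pts H hcl hirr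
  haveI := hum
  haveI := hucl
  haveI := hus
  haveI : IsAffine U.left := isAffine_of_isAffineHom u.left
  refine ⟨U, inferInstance, u, hum, hucl, hus, hun, ?_, ?_, hupts⟩
  · haveI : Smooth (B ⊗ U).hom := inferInstanceAs (Smooth (pullback.fst B.hom U.hom ≫ B.hom))
    haveI : IsAffine (B ⊗ U).left := inferInstanceAs (IsAffine (pullback B.hom U.hom))
    obtain ⟨c, hc⟩ := exists_lift_of_pts u (fst B U * (snd B U ≫ u) * (fst B U)⁻¹) fun x => by
      refine (hupts _).2 ?_
      rw [MonObj.comp_mul, MonObj.comp_mul, GrpObj.comp_inv]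
      show mtx (iB ≫ r) _ ∈ lay 1
      rw [map_mul, map_mul, map_inv]
      refine conj_mem_lay (hu ⟨_, rfl⟩) ?_
      rw [← Category.assoc]
      exact (hupts _).1 ⟨_, rfl⟩
    intro T g x
    refine ⟨lift g x ≫ c, ?_⟩
    rw [Category.assoc, hc, MonObj.comp_mul, MonObj.comp_mul, GrpObj.comp_inv, lift_fst, lift_snd_assoc]
  · haveI : IsClosedImmersion (u ≫ iB ≫ r).left := by rw [Over.comp_left]; infer_instance
    refine hasNoSubtorus_of_range_le_lay (u ≫ iB ≫ r) ?_
    rintro _ ⟨y, rfl⟩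
    rw [mtx_comp]
    exact (hupts _).1 ⟨y, rfl⟩

/-- Connected subgroups without subtori of a triangular group lie in the unipotent part. -/
theorem exists_lift_unip_part (r : G ⟶ GLs k n) [IsMonHom r] [IsClosedImmersion r.left] {iB : B ⟶ G} [IsMonHom iB]
    [IsClosedImmersion iB.left] (hu : (mtx (iB ≫ r)).range ≤ upper) {U : Over (Spec (CommRingCat.of k))} [GrpObj U]
    {u : U ⟶ B} [IsMonHom u] [IsClosedImmersion u.left]
    (hupts : ∀ x : VecGrp.pt k k ⟶ B, (∃ y, y ≫ u = x) ↔ mtx (iB ≫ r) x ∈ lay 1)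
    {V : Over (Spec (CommRingCat.of k))} [GrpObj V] (v : V ⟶ B) [IsMonHom v] [IsClosedImmersion v.left]
    [Smooth V.hom] [ConnectedSpace V.left] (hV : Red.HasNoSubtorus k V) :
    ∃ f : V ⟶ U, f ≫ u = v := by
  haveI : IsAffine B.left := isAffine_of_isAffineHom iB.left
  haveI : IsAffine V.left := isAffine_of_isAffineHom v.left
  haveI : IsClosedImmersion (v ≫ iB ≫ r).left := by rw [Over.comp_left, Over.comp_left]; infer_instance
  have hVu : (mtx (v ≫ iB ≫ r)).range ≤ upper := by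
    rintro _ ⟨y, rfl⟩
    rw [mtx_comp]
    exact hu ⟨_, rfl⟩
  refine exists_lift_of_pts u v fun x => (hupts _).2 ?_
  rw [← mtx_comp]
  exact range_le_lay_of_hasNoSubtorus (v ≫ iB ≫ r) hVu hV ⟨x, rfl⟩

/-- A connected solvable affine group has a largest connected subgroup without subtori, its unipotent radical. -/
theorem exists_unipotentRadical (B : Over (Spec (CommRingCat.of k))) [GrpObj B] [IsAffine B.left] [Smooth B.hom]
    [ConnectedSpace B.left] (hB : Red.IsSolvableGrp B) :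
    ∃ (U : Over (Spec (CommRingCat.of k))) (_ : GrpObj U) (u : U ⟶ B), Par.IsUnipotentRadical u ∧
      ∀ (V : Over (Spec (CommRingCat.of k))) [GrpObj V] (v : V ⟶ B) [IsMonHom v], IsClosedImmersion v.left →
        Smooth V.hom → ConnectedSpace V.left → Red.HasNoSubtorus k V → ∃ f : V ⟶ U, f ≫ u = v := by
  obtain ⟨n, r, hr, hrc, hu⟩ := exists_upper_embedding (𝟙 B) hB
  haveI := hr
  haveI := hrc
  haveI : IsClosedImmersion (𝟙 B : B ⟶ B).left := inferInstanceAs (IsClosedImmersion (𝟙 B.left))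
  obtain ⟨U, _, u, hum, hucl, hus, hun, hunorm, huns, hupts⟩ := exists_unip_part r (𝟙 B) hu
  haveI := hum
  haveI := hucl
  have hall : ∀ (V : Over (Spec (CommRingCat.of k))) [GrpObj V] (v : V ⟶ B) [IsMonHom v], IsClosedImmersion v.left →
        Smooth V.hom → ConnectedSpace V.left → Red.HasNoSubtorus k V → ∃ f : V ⟶ U, f ≫ u = v :=
    fun V _ v _ hvc hvs hvn hV => by
      haveI := hvc
      haveI := hvs
      haveI := hvn
      exact exists_lift_unip_part r hu hupts v hV
  refine ⟨U, inferInstance, u, (isUnipotentRadical_iff u).2 ⟨hum, hucl, hunorm, hus, ?_, hun, huns, ?_⟩, hall⟩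
  · haveI := hus
    haveI : IsAffine U.left := isAffine_of_isAffineHom u.left
    infer_instance
  · exact fun V _ v _ hvc _ hvs _ hvn hV => hall V v hvc hvs hvn hV

end Groth.Agent.TorPts21
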