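import Groth.Agent.Lib.TorPts21.RadicalImage
import Groth.Agent.Lib.TorPts21.CentralTorus
import Groth.Agent.Lib.TorPts21.BorelCentre
import Groth.Agent.Lib.MTRigid29.NormalCentral
import Groth.Agent.S8061

/-!
# Normal subgroups of reductive and semisimple groups
-/

set_option autoImplicit false
set_option linter.style.haveILetI false
set_option backward.isDefEq.respectTransparency.types false
universe u

open CategoryTheory Limits MonoidalCategory CartesianMonoidalCategory MonObj AlgebraicGeometry

noncomputable section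

namespace Groth.Agent.TorPts21

open MatGrp21

attribute [local instance] InvRing21.gamAlg BorelFix21.ptsTop

section Triv

/-- A trivial group has one point with values in any scheme. -/
theorem eq_one_of_isTrivialGrp {S : Scheme.{u}} {U X : Over S} [GrpObj U] (h : Red.IsTrivialGrp U) (x : X ⟶ U) :
    x = 1 := by
  haveI : IsIso U.hom := h
  exact Over.OverMorphism.ext ((cancel_mono U.hom).1 (by rw [Over.w, Over.w]))

end Triv

variable {k : Type u} [Field k] [IsAlgClosed k] {G : Over (Spec (CommRingCat.of k))} [GrpObj G] [IsAffine G.left]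
  [Smooth G.hom]

omit [GrpObj G] [IsAffine G.left] in
theorem connectedSpace_fibre [ConnectedSpace G.left] (s : Spec (CommRingCat.of k)) :
    ConnectedSpace ↥(Limits.pullback G.hom ((Spec (CommRingCat.of k)).fromSpecResidueField s)) := by
  have hU : (G.hom ⁻¹' {s} : Set G.left) = Set.univ := Set.eq_univ_of_forall fun b => Subsingleton.elim _ _
  have h1 : ConnectedSpace ↥(G.hom ⁻¹' {s} : Set G.left) := by
    rw [hU]
    exact Subtype.connectedSpace isConnected_univ
  exact (G.hom.fiberHomeo s).symm.surjective.connectedSpace (G.hom.fiberHomeo s).symm.continuous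

/-- A connected solvable group without normal connected subgroups free of subtori is a torus. -/
theorem isTorus_of_solvable_reductive [ConnectedSpace G.left] (hG : Red.IsReductiveOver k G)
    (hsol : Red.IsSolvableGrp G) : Red.IsTorus G := by
  refine S8061.result k G fun V _ v _ hvc hvs hvn hV => ?_
  haveI : IsClosedImmersion (𝟙 G : G ⟶ G).left := inferInstanceAs (IsClosedImmersion (𝟙 G.left))
  haveI := hvc
  haveI := hvs
  haveI := hvn
  haveI : IsAffine V.left := isAffine_of_isAffineHom v.left
  obtain ⟨n, r, hr, hrc, hu⟩ := exists_upper_embedding (𝟙 G) hsol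
  haveI := hr
  haveI := hrc
  obtain ⟨U, _, u, hum, huc, hus, hun, hunorm, huns, hupts⟩ := exists_unip_part r (𝟙 G) hu
  haveI := hum
  haveI := huc
  obtain ⟨f, hf⟩ := exists_lift_unip_part r hu hupts v hV
  have htriv := hG.2.2.2 U u huc hus hun hunorm huns
  haveI : Mono v := Over.mono_of_mono_left v
  exact isTrivialGrp_of_pts fun x => (cancel_mono v).1 (by
    rw [← hf, ← Category.assoc, eq_one_of_isTrivialGrp htriv (x ≫ f), hf, MonObj.one_comp, MonObj.one_comp])

variable [ConnectedSpace G.left] {N : Over (Spec (CommRingCat.of k))} [GrpObj N] [Smooth N.hom] [ConnectedSpace N.left]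
  {i : N ⟶ G} [IsMonHom i] [IsClosedImmersion i.left]

/-- A connected normal subgroup of a reductive group is reductive. -/
theorem isReductiveOver_normal (hG : Red.IsReductiveOver k G) (hn : AlgGrp.IsNormalHom i) :
    Red.IsReductiveOver k N := by
  haveI : IsAffine N.left := isAffine_of_isAffineHom i.left
  refine ⟨inferInstance, inferInstance, inferInstance, fun U _ v _ hvc hvs hvn hvnorm hV => ?_⟩
  haveI := hvc
  haveI := hvs
  haveI := hvn
  haveI : IsAffine U.left := isAffine_of_isAffineHom v.left
  obtain ⟨W, _, w, hW, hWuniv⟩ := exists_unipotentRadical_connected N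
  obtain ⟨R, _, r, hR, -⟩ := exists_unipotentRadical_connected G
  obtain ⟨hrm, hrc, hrn, hrs, -, hrcn, hrns, -⟩ := (isUnipotentRadical_iff r).1 hR
  haveI := hrm
  obtain ⟨g, hg⟩ := hWuniv U v hvc hvs hvn hvnorm hV
  obtain ⟨f, hf⟩ := exists_lift_radical_of_normal hR hn hW
  have htriv := hG.2.2.2 R r hrc hrs hrcn hrn hrns
  haveI : Mono v := Over.mono_of_mono_left v
  haveI : Mono i := Over.mono_of_mono_left i
  exact isTrivialGrp_of_pts fun x => (cancel_mono (v ≫ i)).1 (by
    rw [MonObj.one_comp, ← hg, Category.assoc, ← hf, ← Category.assoc g f r, ← Category.assoc x (g ≫ f) r,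
      eq_one_of_isTrivialGrp htriv (x ≫ g ≫ f), MonObj.one_comp])

/-- A connected solvable normal subgroup of a reductive group is a central torus. -/
theorem torus_of_normal_solvable (hG : Red.IsReductiveOver k G) (hn : AlgGrp.IsNormalHom i)
    (hsol : Red.IsSolvableGrp N) :
    Red.IsTorus N ∧ ∀ (X : Over (Spec (CommRingCat.of k))) (g : X ⟶ G) (x : X ⟶ N), g * (x ≫ i) = (x ≫ i) * g := by
  haveI : IsAffine N.left := isAffine_of_isAffineHom i.left
  haveI : Mono i := Over.mono_of_mono_left i
  have hT := isTorus_of_solvable_reductive (isReductiveOver_normal hG hn) hsol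
  exact ⟨hT, fun X g x =>
    MTRigid29.central_of_normal connectedSpace_fibre i (isMultTypeFT_of_isTorus hT) hn X g x⟩

set_option maxHeartbeats 800000 in
/-- A central subtorus of a connected normal subgroup lies in a central torus of the group. -/
theorem exists_normal_torus_ge (hG : Red.IsReductiveOver k G) (hn : AlgGrp.IsNormalHom i)
    {T : Over (Spec (CommRingCat.of k))} [GrpObj T] {j : T ⟶ N} [IsMonHom j] (hT : Red.IsTorus T)
    (hc : ∀ (x : VecGrp.pt k k ⟶ T) (y : VecGrp.pt k k ⟶ N), (x ≫ j) * y = y * (x ≫ j)) :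
    ∃ (Z : Over (Spec (CommRingCat.of k))) (_ : GrpObj Z) (z : Z ⟶ G) (f : T ⟶ Z),
      IsMonHom z ∧ IsClosedImmersion z.left ∧ AlgGrp.IsNormalHom z ∧ Red.IsTorus Z ∧ f ≫ z = j ≫ i := by
  haveI : IsAffine N.left := isAffine_of_isAffineHom i.left
  obtain ⟨hTa, hTs, hTn, -⟩ := props_of_isTorus hT
  haveI := hTa
  haveI := hTs
  haveI := hTn
  obtain ⟨m, r, hr, hrc⟩ := GrassAct21.exists_embedding_GL N
  haveI := hr
  haveI := hrc
  let H : Subgroup (VecGrp.pt k k ⟶ N) := (Subgroup.centralizer ((mtx r).range : Set (GL (Fin m) k))).comap (mtx r)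
  have hH : ∀ x, x ∈ H ↔ ∀ y, x * y = y * x := fun x => by
    simp only [H, Subgroup.mem_comap, Subgroup.mem_centralizer_iff]
    constructor
    · intro h y
      refine mtxFn_injective r ?_
      rw [← mtx_apply, ← mtx_apply, map_mul, map_mul]
      exact (h _ ⟨y, rfl⟩).symm
    · rintro h _ ⟨y, rfl⟩
      rw [← map_mul, ← map_mul, h]
  have hcl : IsClosed (H : Set (VecGrp.pt k k ⟶ N)) := (isClosed_centralizer _).preimage (continuous_mtxFn r)
  obtain ⟨Z, _, z, hzm, hzc, hzs, hzn, hzH, hzuniv⟩ := exists_component_of_pts H hcl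
  haveI := hzm
  haveI := hzc
  haveI := hzs
  haveI := hzn
  haveI : IsAffine Z.left := isAffine_of_isAffineHom z.left
  haveI : Mono z := Over.mono_of_mono_left z
  haveI : Mono i := Over.mono_of_mono_left i
  haveI : IsClosedImmersion (z ≫ i).left := by rw [Over.comp_left]; infer_instance
  obtain ⟨f, hf⟩ := hzuniv T j fun x => (hH _).2 (hc x)
  have hnorm : AlgGrp.IsNormalHom (z ≫ i) := isNormalHom_of_pts (z ≫ i) fun g x => by
    obtain ⟨g₀, hg₀⟩ := exists_gpt g
    haveI := isMonHom_conjBy g₀ (z ≫ i)
    obtain ⟨c, hc'⟩ := hn Z (toUnit Z ≫ g₀) z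
    haveI : IsMonHom c := BorelFix21.isMonHom_of_comp i c (by rw [← hc']; exact isMonHom_conjBy g₀ (z ≫ i))
    obtain ⟨c', hc''⟩ := hzuniv Z c fun y => (hH _).2 fun w => by
      obtain ⟨w', hw'⟩ := hn _ g⁻¹ w
      have h1 := congrArg (fun a => g * (a ≫ i) * g⁻¹) ((hH _).1 (hzH y) w')
      simp only [MonObj.mul_comp] at h1
      rw [← hw'] at h1
      refine (cancel_mono i).1 ?_
      rw [MonObj.mul_comp, MonObj.mul_comp, Category.assoc y c i, ← hc', MonObj.comp_mul, MonObj.comp_mul,
        GrpObj.comp_inv, ← Category.assoc y, comp_toUnit, show toUnit _ ≫ g₀ = g from hg₀]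
      simp only [← Category.assoc] at h1 ⊢
      convert h1 using 1 <;> group
    refine ⟨x ≫ c', ?_⟩
    rw [Category.assoc, ← Category.assoc c', hc'', ← hc', MonObj.comp_mul, MonObj.comp_mul,
      GrpObj.comp_inv, ← Category.assoc x, comp_toUnit, show toUnit _ ≫ g₀ = g from hg₀]
  have hsol : Red.IsSolvableGrp Z := BorelFix21.isSolvableGrp_of_points (isSolvable_of_comm fun a b => (cancel_mono z).1 (by
    rw [MonObj.mul_comp, MonObj.mul_comp]
    exact (hH _).1 (hzH a) _))
  exact ⟨Z, inferInstance, z ≫ i, f, inferInstance, inferInstance, hnorm,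
    (torus_of_normal_solvable hG hnorm hsol).1, by rw [← Category.assoc, hf]⟩

/-- A connected normal subgroup of a semisimple group is semisimple. -/
theorem isSemisimpleOver_normal (hG : Red.IsSemisimpleOver k G) (hn : AlgGrp.IsNormalHom i) :
    Red.IsSemisimpleOver k N := by
  haveI : IsAffine N.left := isAffine_of_isAffineHom i.left
  refine ⟨isReductiveOver_normal hG.1 hn, fun T _ j _ hjc hjn hT => ?_⟩
  haveI := hjc
  obtain ⟨hTa, hTs, -, -⟩ := props_of_isTorus hT
  haveI := hTa
  haveI := hTs
  haveI : Mono j := Over.mono_of_mono_left j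
  haveI : Mono i := Over.mono_of_mono_left i
  have hc := MTRigid29.central_of_normal connectedSpace_fibre j (isMultTypeFT_of_isTorus hT) hjn
  obtain ⟨Z, _, z, f, hzm, hzc, hzn, hZ, hf⟩ := exists_normal_torus_ge hG.1 hn hT fun x y => (hc _ y x).symm
  haveI := hzm
  have htriv := hG.2 Z z hzc hzn hZ
  exact isTrivialGrp_of_pts fun x => (cancel_mono (j ≫ i)).1 (by
    rw [MonObj.one_comp, ← hf, ← Category.assoc, eq_one_of_isTrivialGrp htriv (x ≫ f), MonObj.one_comp])

/-- A connected commutative normal subgroup of a semisimple group is trivial. -/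
theorem isTrivialGrp_of_normal_solvable (hG : Red.IsSemisimpleOver k G) (hn : AlgGrp.IsNormalHom i)
    (hsol : Red.IsSolvableGrp N) : Red.IsTrivialGrp N :=
  hG.2 N i inferInstance hn (torus_of_normal_solvable hG.1 hn hsol).1

end Groth.Agent.TorPts21
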