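import Groth.Agent.Lib.TorPts21.Mtx
import Groth.Agent.Lib.BorelFix21.QuotMap
import Groth.Agent.Lib.InvRing21.Quot
import Groth.Agent.Lib.InvRing21.Semi
import Groth.Agent.Lib.AbRigid.Shear
import Mathlib.AlgebraicGeometry.Morphisms.UniversallyOpen

/-!
# Semi-invariant functions and closed subsets of a homogeneous space; limits
-/

set_option autoImplicit false
set_option linter.style.haveILetI false
set_option backward.isDefEq.respectTransparency.types false
universe u

open CategoryTheory Limits MonoidalCategory CartesianMonoidalCategory MonObj AlgebraicGeometry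

noncomputable section

namespace Groth.Agent.TorPts21

open InvRing21

attribute [local instance] InvRing21.gamAlg BorelFix21.ptsTop

variable {k : Type u} [Field k]

theorem pt_hom_eq_id : (VecGrp.pt k k).hom = 𝟙 (Spec (CommRingCat.of k)) := by
  show Spec.map (CommRingCat.ofHom (algebraMap k k)) = 𝟙 _
  rw [show CommRingCat.ofHom (algebraMap k k) = 𝟙 _ from rfl, Spec.map_id]

variable [IsAlgClosed k]

/-- A rational point is determined by the closed point it gives. -/
theorem pt_ext {X : Over (Spec (CommRingCat.of k))} [LocallyOfFiniteType X.hom] {x y : VecGrp.pt k k ⟶ X}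
    (h : img x = img y) : x = y :=
  Over.OverMorphism.ext (ext_of_apply_closedPoint_eq X.hom ((Over.w x).trans pt_hom_eq_id)
    ((Over.w y).trans pt_hom_eq_id) h)

theorem isClosed_singleton_img {X : Over (Spec (CommRingCat.of k))} [LocallyOfFiniteType X.hom] [IsSeparated X.hom]
    (x : VecGrp.pt k k ⟶ X) : IsClosed ({img x} : Set X.left) := by
  haveI := isClosedImmersion_of_comp_eq_id X.hom x.left ((Over.w x).trans pt_hom_eq_id)
  have h : Set.range x.left = {img x} := Set.ext fun z =>
    ⟨fun ⟨w, hw⟩ => hw ▸ congrArg x.left (Subsingleton.elim (α := Spec (CommRingCat.of k)) w _),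
      fun hz => ⟨IsLocalRing.closedPoint k, hz.symm⟩⟩
  exact h ▸ x.left.isClosedEmbedding.isClosed_range

variable {G H X : Over (Spec (CommRingCat.of k))} [GrpObj G] [GrpObj H] [IsAffine G.left] [Smooth G.hom]
  {i : H ⟶ G} [IsClosedImmersion i.left] {a : AlgGrp.Action G X} {o : 𝟙_ (Over (Spec (CommRingCat.of k))) ⟶ X}

/-- A semi-invariant vanishing on a set of points vanishes above the closure of its image in the homogeneous space. -/
theorem val_eq_zero_of_mem_closure (hX : AGF.IsQuotient i X a o) [IsSeparated X.hom]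
    {l : (VecGrp.pt k k ⟶ H) → k} {F : Γ(G.left, ⊤)} (hF : Semi i l F) (S : Set (VecGrp.pt k k ⟶ G))
    (hS : ∀ g ∈ S, val g F = 0) {g' : VecGrp.pt k k ⟶ G}
    (hg : img (g' ≫ a.orbitMap o) ∈ closure ((fun g => img (g ≫ a.orbitMap o)) '' S)) : val g' F = 0 := by
  obtain ⟨hlft, hflat, hsurj, -⟩ := id hX
  haveI := hlft
  haveI := hflat
  haveI : IsLocallyNoetherian X.left := LocallyOfFiniteType.isLocallyNoetherian X.hom
  haveI : LocallyOfFiniteType (a.orbitMap o).left := by
    haveI : LocallyOfFiniteType ((a.orbitMap o).left ≫ X.hom) := by rw [Over.w]; infer_instance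
    exact locallyOfFiniteType_of_comp (a.orbitMap o).left X.hom
  haveI : UniversallyOpen (a.orbitMap o).left := inferInstance
  by_contra hne
  have hU : IsOpen ((a.orbitMap o).left '' (G.left.basicOpen F : Set G.left)) :=
    (a.orbitMap o).left.isOpenMap _ (G.left.basicOpen F).isOpen
  obtain ⟨_, hz, g, hgS, rfl⟩ := mem_closure_iff.1 hg _ hU
    ⟨img g', (BorelFix21.val_ne_zero_iff g' F).1 hne, rfl⟩
  obtain ⟨z, hzF, hzg⟩ := hz
  obtain ⟨y, hy⟩ := BorelFix21.exists_pt_mem (G := G)
    (Z := (G.left.basicOpen F : Set G.left) ∩ (a.orbitMap o).left ⁻¹' {img (g ≫ a.orbitMap o)})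
    ((G.left.basicOpen F).isOpen.isLocallyClosed.inter
      ((isClosed_singleton_img (g ≫ a.orbitMap o)).preimage (a.orbitMap o).left.continuous).isLocallyClosed)
    ⟨z, hzF, hzg⟩
  obtain ⟨h, hh⟩ := (BorelFix21.orbit_eq_iff hX g y).1 (pt_ext (x := g ≫ a.orbitMap o) (y := y ≫ a.orbitMap o) hy.2.symm)
  refine (BorelFix21.val_ne_zero_iff y F).2 hy.1 ?_
  rw [hh, hF, hS g hgS, mul_zero]

set_option maxHeartbeats 1000000 in
/-- A curve in the cone over a complete homogeneous space has its limit in the cone. -/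
theorem exists_limit (hX : AGF.IsQuotient i X a o) [IsProper X.hom] {m : ℕ} (c : Fin m → Γ(G.left, ⊤))
    {l : (VecGrp.pt k k ⟶ H) → k} (hc : ∀ α, Semi i l (c α)) (hne : ∀ x : VecGrp.pt k k ⟶ G, ∃ α, val x (c α) ≠ 0)
    (p : Fin m → Polynomial k) (hp : ∀ s : k, s ≠ 0 → ∃ (g : VecGrp.pt k k ⟶ G) (lam : k),
      ∀ α, (p α).eval s = lam * val g (c α)) :
    ∃ (g : VecGrp.pt k k ⟶ G) (lam : k), ∀ α, (p α).eval 0 = lam * val g (c α) := by
  classical
  obtain ⟨hlft, hflat, hsurj, -⟩ := id hX
  haveI := hlft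
  haveI := hflat
  haveI : IsLocallyNoetherian X.left := LocallyOfFiniteType.isLocallyNoetherian X.hom
  haveI : LocallyOfFiniteType (a.orbitMap o).left := by
    haveI : LocallyOfFiniteType ((a.orbitMap o).left ≫ X.hom) := by rw [Over.w]; infer_instance
    exact locallyOfFiniteType_of_comp (a.orbitMap o).left X.hom
  let L : Over (Spec (CommRingCat.of k)) := VecGrp.pt k (Polynomial k)
  haveI : IsAffine L.left := inferInstanceAs (IsAffine (Spec (CommRingCat.of (Polynomial k))))
  haveI : LocallyOfFiniteType L.hom := by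
    show LocallyOfFiniteType (Spec.map (CommRingCat.ofHom (algebraMap k (Polynomial k))))
    rw [HasRingHomProperty.Spec_iff (P := @LocallyOfFiniteType)]
    exact RingHom.finiteType_algebraMap.2 inferInstance
  haveI : IrreducibleSpace L.left := inferInstanceAs (IrreducibleSpace (Spec (CommRingCat.of (Polynomial k))))
  haveI : IsSeparated L.hom := inferInstance
  -- the coordinate functions
  have hbij : Function.Bijective (ptHom (k := k) (Polynomial k)) :=
    (Scheme.ΓSpecIso (CommRingCat.of (Polynomial k))).commRingCatIsoToRingEquiv.bijective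
  let e : Γ(L.left, ⊤) ≃ₐ[k] Polynomial k :=
    AlgEquiv.ofBijective (val (𝟙 L)) (by
      have : (val (𝟙 L) : Γ(L.left, ⊤) → Polynomial k) = ptHom (k := k) (Polynomial k) := by
        funext f
        show ptHom (Polynomial k) ((𝟙 L : L ⟶ L).left.appTop f) = _
        simp
      rw [this]
      exact hbij)
  let T₀ : Γ(L.left, ⊤) := e.symm Polynomial.X
  have heval : ∀ (w : VecGrp.pt k k ⟶ L) (q : Polynomial k), val w (e.symm q) = q.eval (val w T₀) := fun w q => by
    have h : (val w).comp e.symm.toAlgHom = Polynomial.aeval (val w T₀) := Polynomial.algHom_ext (by simp [T₀])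
    exact DFunLike.congr_fun h q
  let F : Fin m → Fin m → Γ((G ⊗ L).left, ⊤) := fun α β =>
    (fst G L).left.appTop (c β) * (snd G L).left.appTop (e.symm (p α)) -
      (fst G L).left.appTop (c α) * (snd G L).left.appTop (e.symm (p β))
  have hF : ∀ (w : VecGrp.pt k k ⟶ G ⊗ L) α β, val w (F α β) =
      val (w ≫ fst G L) (c β) * (p α).eval (val (w ≫ snd G L) T₀) -
        val (w ≫ fst G L) (c α) * (p β).eval (val (w ≫ snd G L) T₀) := fun w α β => by
    simp only [F, map_sub, map_mul, appTop_val, heval]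
  let π : G ⊗ L ⟶ X ⊗ L := (a.orbitMap o) ▷ L
  have sq := ((AbRigid.isPullback_whiskerRight (a.orbitMap o) L).map (Over.forget _)).flip
  haveI : Flat π.left := MorphismProperty.of_isPullback (P := @Flat) sq.flip ‹_›
  haveI : LocallyOfFinitePresentation π.left :=
    MorphismProperty.of_isPullback (P := @LocallyOfFinitePresentation) sq.flip
      (inferInstanceAs (LocallyOfFinitePresentation (a.orbitMap o).left))
  haveI : UniversallyOpen π.left := inferInstance
  haveI : IsAffine (G ⊗ L).left := inferInstanceAs (IsAffine (pullback G.hom L.hom))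
  haveI : LocallyOfFiniteType (G ⊗ L).hom := inferInstanceAs (LocallyOfFiniteType (pullback.fst G.hom L.hom ≫ G.hom))
  haveI : LocallyOfFiniteType (X ⊗ L).hom := inferInstanceAs (LocallyOfFiniteType (pullback.fst X.hom L.hom ≫ X.hom))
  haveI : IsSeparated (X ⊗ L).hom := inferInstanceAs (IsSeparated (pullback.fst X.hom L.hom ≫ X.hom))
  let Zc : Set (G ⊗ L).left := ⋃ α, ⋃ β, ((G ⊗ L).left.basicOpen (F α β) : Set _)
  have hZc : IsOpen Zc := isOpen_iUnion fun α => isOpen_iUnion fun β => ((G ⊗ L).left.basicOpen (F α β)).isOpen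
  let U : Set (X ⊗ L).left := π.left '' Zc
  have hU : IsOpen U := π.left.isOpenMap _ hZc
  let D : Set L.left := (snd X L).left '' Uᶜ
  have hD : IsClosed D := by
    haveI : UniversallyClosed (snd X L).left := inferInstanceAs (UniversallyClosed (pullback.snd X.hom L.hom))
    exact (snd X L).left.isClosedMap _ hU.isClosed_compl
  -- points with nonzero parameter
  have hsome : ∀ w : VecGrp.pt k k ⟶ L, val w T₀ ≠ 0 → img w ∈ D := by
    intro w hw
    obtain ⟨g, lam, hgμ⟩ := hp _ hw
    refine ⟨img (lift (g ≫ a.orbitMap o) w), ?_, ?_⟩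
    · rintro ⟨z, hz, hzq⟩
      simp only [Zc, Set.mem_iUnion] at hz
      obtain ⟨α, β, hz⟩ := hz
      obtain ⟨y, hy⟩ := BorelFix21.exists_pt_mem (G := G ⊗ L)
        (Z := ((G ⊗ L).left.basicOpen (F α β) : Set _) ∩ π.left ⁻¹' {img (lift (g ≫ a.orbitMap o) w)})
        (((G ⊗ L).left.basicOpen (F α β)).isOpen.isLocallyClosed.inter
          ((isClosed_singleton_img _).preimage π.left.continuous).isLocallyClosed) ⟨z, hz, hzq⟩
      have hπ : y ≫ π = lift (g ≫ a.orbitMap o) w := pt_ext hy.2
      have h1 : (y ≫ fst G L) ≫ a.orbitMap o = g ≫ a.orbitMap o := by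
        have := congrArg (fun q => q ≫ fst X L) hπ
        simpa [π] using this
      have h2 : y ≫ snd G L = w := by
        have := congrArg (fun q => q ≫ snd X L) hπ
        simpa [π] using this
      obtain ⟨h, hh⟩ := (BorelFix21.orbit_eq_iff hX g (y ≫ fst G L)).1 h1.symm
      refine (BorelFix21.val_ne_zero_iff y (F α β)).2 hy.1 ?_
      rw [hF, h2, hh, hc, hc, hgμ, hgμ]
      ring
    · show (snd X L).left (img (lift (g ≫ a.orbitMap o) w)) = img w
      show img (lift (g ≫ a.orbitMap o) w ≫ snd X L) = img w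
      rw [lift_snd]
  have hDuniv : D = Set.univ := by
    by_contra hne'
    have hnon : (Dᶜ).Nonempty := Set.nonempty_compl.2 hne'
    have hT : (L.left.basicOpen T₀ : Set L.left).Nonempty := by
      refine ⟨img (VecGrp.ptMap (Polynomial.aeval (1 : k)) : VecGrp.pt k k ⟶ L), (BorelFix21.val_ne_zero_iff _ _).1 ?_⟩
      rw [← Category.comp_id (VecGrp.ptMap (Polynomial.aeval (1 : k))), val_ptMap]
      show Polynomial.aeval (1 : k) (e T₀) ≠ 0
      simp [T₀]
    obtain ⟨z, hz⟩ := nonempty_preirreducible_inter hD.isOpen_compl (L.left.basicOpen T₀).isOpen hnon hT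
    obtain ⟨w, hw⟩ := BorelFix21.exists_pt_mem (G := L) (hD.isOpen_compl.inter (L.left.basicOpen T₀).isOpen).isLocallyClosed
      ⟨z, hz⟩
    exact hw.1 (hsome w ((BorelFix21.val_ne_zero_iff _ _).2 hw.2))
  -- the parameter zero
  let w₀ : VecGrp.pt k k ⟶ L := VecGrp.ptMap (Polynomial.aeval (0 : k))
  have hw₀ : val w₀ T₀ = 0 := by
    rw [← Category.comp_id w₀, val_ptMap]
    show Polynomial.aeval (0 : k) (e T₀) = 0
    simp [T₀]
  obtain ⟨z, hzU, hz⟩ : img w₀ ∈ D := hDuniv.symm ▸ Set.mem_univ _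
  obtain ⟨q, hq⟩ := BorelFix21.exists_pt_mem (G := X ⊗ L) (Z := Uᶜ ∩ (snd X L).left ⁻¹' {img w₀})
    (hU.isClosed_compl.inter ((isClosed_singleton_img w₀).preimage (snd X L).left.continuous)).isLocallyClosed
    ⟨z, hzU, hz⟩
  have hq2 : q ≫ snd X L = w₀ := pt_ext hq.2
  obtain ⟨g, hg⟩ := InvRing21.IsQuotient.exists_lift hX (q ≫ fst X L).left ((Over.w _).trans pt_hom_eq_id)
  have hgq : lift g w₀ ≫ π = q := by
    refine CartesianMonoidalCategory.hom_ext _ _ ?_ ?_
    · simp only [π, Category.assoc, whiskerRight_fst, lift_fst_assoc]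
      exact Over.OverMorphism.ext hg
    · simp only [π, Category.assoc, whiskerRight_snd, lift_snd, hq2]
  have hzero : ∀ α β, val g (c β) * (p α).eval 0 = val g (c α) * (p β).eval 0 := fun α β => by
    refine sub_eq_zero.1 ?_
    by_contra hne'
    refine hq.1 ⟨img (lift g w₀), Set.mem_iUnion.2 ⟨α, Set.mem_iUnion.2 ⟨β, (BorelFix21.val_ne_zero_iff _ _).1 ?_⟩⟩,
      congrArg img hgq⟩
    rw [hF, lift_fst, lift_snd, hw₀]
    exact hne'
  obtain ⟨β, hβ⟩ := hne g
  refine ⟨g, (p β).eval 0 / val g (c β), fun α => ?_⟩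
  rw [div_mul_eq_mul_div, eq_div_iff hβ, mul_comm ((p α).eval 0), hzero, mul_comm]

end Groth.Agent.TorPts21
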