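import Groth.Agent.Lib.TorPts21.Max
import Groth.Agent.Lib.InvRing21.OpenSubgroup
import Groth.Agent.Lib.SchImage.ReducedKer
import Groth.Agent.Lib.MTRigid29.CentralizerNormalizer

/-!
# Smooth subgroup schemes from closed irreducible groups of points
-/

set_option autoImplicit false
set_option linter.style.haveILetI false
set_option backward.isDefEq.respectTransparency.types false
universe u

open CategoryTheory Limits MonoidalCategory CartesianMonoidalCategory MonObj AlgebraicGeometry

noncomputable section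

namespace Groth.Agent.TorPts21

open MatGrp21

attribute [local instance] InvRing21.gamAlg BorelFix21.ptsTop

variable {k : Type u} [Field k] [IsAlgClosed k]
variable {G : Over (Spec (CommRingCat.of k))} [GrpObj G] [IsAffine G.left] [LocallyOfFiniteType G.hom]

/-- A closed subgroup of the group of points is the group of points of a smooth closed subgroup scheme. -/
theorem exists_closed_subgroup_of_pts (H : Subgroup (VecGrp.pt k k ⟶ G))
    (hcl : IsClosed (H : Set (VecGrp.pt k k ⟶ G))) :
    ∃ (Z : Over (Spec (CommRingCat.of k))) (_ : GrpObj Z) (j : Z ⟶ G) (_ : IsMonHom j),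
      IsClosedImmersion j.left ∧ Smooth Z.hom ∧
      Set.range j.left = closure (InvRing21.img '' (H : Set (VecGrp.pt k k ⟶ G))) ∧
        ∀ x : VecGrp.pt k k ⟶ G, (∃ y : VecGrp.pt k k ⟶ Z, y ≫ j = x) ↔ x ∈ H := by
  let T : Set G.left := closure (InvRing21.img '' (H : Set (VecGrp.pt k k ⟶ G)))
  have hT : IsClosed T := isClosed_closure
  have hmem : ∀ x : VecGrp.pt k k ⟶ G, InvRing21.img x ∈ T ↔ x ∈ H := fun x => by
    refine ⟨fun hx => ?_, fun hx => subset_closure ⟨x, hx, rfl⟩⟩
    rw [← SetLike.mem_coe, ← hcl.closure_eq]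
    exact (closure_induced (f := (InvRing21.img : (VecGrp.pt k k ⟶ G) → G.left))).2 hx
  let I := Scheme.IdealSheafData.vanishingIdeal (⟨T, hT⟩ : TopologicalSpace.Closeds G.left)
  let Z : Over (Spec (CommRingCat.of k)) := Over.mk (I.subschemeι ≫ G.hom)
  let j : Z ⟶ G := Over.homMk I.subschemeι rfl
  haveI : IsClosedImmersion j.left := inferInstanceAs (IsClosedImmersion I.subschemeι)
  haveI : IsReduced Z.left := RedSepLib.isReduced_vanishingIdeal_subscheme _
  haveI : LocallyOfFiniteType Z.hom := inferInstanceAs (LocallyOfFiniteType (I.subschemeι ≫ G.hom))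
  haveI : Mono j := Over.mono_of_mono_left j
  have hrange : Set.range j.left = T := by
    show Set.range I.subschemeι = T
    rw [Scheme.IdealSheafData.range_subschemeι]
    simp [I]
  -- morphisms from reduced schemes whose points lie in `H` factor
  have hlift : ∀ {W : Over (Spec (CommRingCat.of k))} [IsReduced W.left] [LocallyOfFiniteType W.hom]
      [QuasiCompact W.hom] (g : W ⟶ G),
      (∀ w : VecGrp.pt k k ⟶ W, w ≫ g ∈ H) → ∃ l : W ⟶ Z, l ≫ j = g := by
    intro W _ _ _ g hg
    haveI : JacobsonSpace W.left := LocallyOfFiniteType.jacobsonSpace W.hom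
    haveI : QuasiCompact (g.left ≫ G.hom) := by rw [Over.w]; infer_instance
    have hsub : Set.range g.left ⊆ T := by
      rintro _ ⟨w, rfl⟩
      have hc : IsClosed (g.left ⁻¹' T) := hT.preimage g.left.continuous
      have hcp : closedPoints W.left ⊆ g.left ⁻¹' T := fun z hz => by
        obtain ⟨x, rfl⟩ := BorelFix21.exists_pt_of_closed z hz
        exact (hmem (x ≫ g)).2 (hg x)
      exact (closure_minimal hcp hc) (by rw [closure_closedPoints]; trivial)
    have hker : j.left.ker ≤ g.left.ker := by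
      rw [show j.left.ker = _ from Scheme.IdealSheafData.ker_subschemeι I, RedSepLib.ker_eq_vanishingIdeal g.left]
      exact Scheme.IdealSheafData.vanishingIdeal_antimono (closure_minimal hsub hT)
    refine ⟨Over.homMk (IsClosedImmersion.lift j.left g.left hker) ?_, ?_⟩
    · show _ ≫ Z.hom = _
      rw [← Over.w j, IsClosedImmersion.lift_fac_assoc, Over.w]
    · ext1; exact IsClosedImmersion.lift_fac _ _ _
  have hpts : ∀ y : VecGrp.pt k k ⟶ Z, y ≫ j ∈ H := fun y =>
    (hmem _).1 (hrange.le ⟨InvRing21.img y, rfl⟩)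
  obtain ⟨iG, hiG⟩ : ∃ _ : GrpObj Z, IsMonHom j := by
    refine MTRigid29.exists_grpObj_of_subgroup j (fun X a b => ?_) ?_ (fun X a => ?_)
    · haveI : IsReduced (Z ⊗ Z).left := PerfProd19.isReduced_tensorObj Z Z
      haveI : LocallyOfFiniteType (Z ⊗ Z).hom :=
        inferInstanceAs (LocallyOfFiniteType (pullback.fst Z.hom Z.hom ≫ Z.hom))
      haveI : QuasiCompact Z.hom := inferInstanceAs (QuasiCompact (I.subschemeι ≫ G.hom))
      haveI : QuasiCompact (Z ⊗ Z).hom := inferInstanceAs (QuasiCompact (pullback.fst Z.hom Z.hom ≫ Z.hom))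
      obtain ⟨m, hm⟩ := hlift ((fst Z Z ≫ j) * (snd Z Z ≫ j)) fun w => by
        rw [MonObj.comp_mul, ← Category.assoc, ← Category.assoc]
        exact H.mul_mem (hpts _) (hpts _)
      refine ⟨lift a b ≫ m, ?_⟩
      rw [Category.assoc, hm, MonObj.comp_mul, lift_fst_assoc, lift_snd_assoc]
    · haveI : IsReduced (𝟙_ (Over (Spec (CommRingCat.of k)))).left :=
        inferInstanceAs (IsReduced (Spec (CommRingCat.of k)))
      haveI : LocallyOfFiniteType (𝟙_ (Over (Spec (CommRingCat.of k)))).hom :=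
        inferInstanceAs (LocallyOfFiniteType (𝟙 (Spec (CommRingCat.of k))))
      haveI : QuasiCompact (𝟙_ (Over (Spec (CommRingCat.of k)))).hom :=
        inferInstanceAs (QuasiCompact (𝟙 (Spec (CommRingCat.of k))))
      exact hlift _ fun w => by rw [MonObj.comp_one]; exact H.one_mem
    · haveI : QuasiCompact Z.hom := inferInstanceAs (QuasiCompact (I.subschemeι ≫ G.hom))
      obtain ⟨v, hv⟩ := hlift j⁻¹ fun w => by
        rw [GrpObj.comp_inv]
        exact H.inv_mem (hpts _)
      exact ⟨a ≫ v, by rw [Category.assoc, hv, GrpObj.comp_inv]⟩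
  haveI : Smooth Z.hom := GrpSmooth19.smooth_of_isReduced Z
  refine ⟨Z, iG, j, hiG, inferInstance, inferInstance, hrange, fun x => ⟨?_, fun hx => ?_⟩⟩
  · rintro ⟨y, rfl⟩
    exact hpts y
  · haveI : IsReduced (VecGrp.pt k k).left := inferInstanceAs (IsReduced (Spec (CommRingCat.of k)))
    haveI : LocallyOfFiniteType (VecGrp.pt k k).hom := by
      show LocallyOfFiniteType (Spec.map (CommRingCat.ofHom (algebraMap k k)))
      rw [show CommRingCat.ofHom (algebraMap k k) = 𝟙 _ from rfl, Spec.map_id]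
      infer_instance
    haveI : QuasiCompact (VecGrp.pt k k).hom := by
      show QuasiCompact (Spec.map (CommRingCat.ofHom (algebraMap k k)))
      infer_instance
    have hpt : (VecGrp.pt k k).hom = 𝟙 (Spec (CommRingCat.of k)) := by
      show Spec.map (CommRingCat.ofHom (algebraMap k k)) = 𝟙 _
      rw [show CommRingCat.ofHom (algebraMap k k) = 𝟙 _ from rfl, Spec.map_id]
    have hw : ∀ w : VecGrp.pt k k ⟶ VecGrp.pt k k, w = 𝟙 _ := fun w => by
      haveI : Mono (VecGrp.pt k k).hom := by rw [hpt]; exact (inferInstance : IsSplitMono (𝟙 _)).mono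
      refine Over.OverMorphism.ext ?_
      rw [← cancel_mono (VecGrp.pt k k).hom, Over.w, Over.id_left, Category.id_comp]
    obtain ⟨y, hy⟩ := hlift x fun w => by rwa [hw w, Category.id_comp]
    exact ⟨y, hy⟩


/-- A closed irreducible subgroup of the group of points is the group of points of a smooth connected
closed subgroup scheme. -/
theorem exists_subgroup_of_pts (H : Subgroup (VecGrp.pt k k ⟶ G))
    (hcl : IsClosed (H : Set (VecGrp.pt k k ⟶ G))) (hirr : IsPreirreducible (H : Set (VecGrp.pt k k ⟶ G))) :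
    ∃ (Z : Over (Spec (CommRingCat.of k))) (_ : GrpObj Z) (j : Z ⟶ G) (_ : IsMonHom j),
      IsClosedImmersion j.left ∧ Smooth Z.hom ∧ ConnectedSpace Z.left ∧
        ∀ x : VecGrp.pt k k ⟶ G, (∃ y : VecGrp.pt k k ⟶ Z, y ≫ j = x) ↔ x ∈ H := by
  obtain ⟨Z, iG, j, hiG, hjc, hsm, hrange, hpts⟩ := exists_closed_subgroup_of_pts H hcl
  haveI := hjc
  have h1 : IsPreirreducible (Set.range j.left) := by
    rw [hrange]
    exact (hirr.image InvRing21.img continuous_induced_dom.continuousOn).closure
  have hne : (Set.range j.left).Nonempty := ⟨_, ⟨InvRing21.img (1 : VecGrp.pt k k ⟶ Z), rfl⟩⟩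
  have h2 : _root_.IsConnected (Set.range j.left) := ⟨hne, h1.isPreconnected⟩
  have hconn : ConnectedSpace Z.left :=
    j.left.isClosedEmbedding.isEmbedding.toHomeomorph.symm.connectedSpace_iff.1 (isConnected_iff_connectedSpace.1 h2)
  exact ⟨Z, iG, j, hiG, hjc, hsm, hconn, hpts⟩

/-- The largest connected subgroup with points in a closed group of points. -/
theorem exists_component_of_pts (H : Subgroup (VecGrp.pt k k ⟶ G))
    (hcl : IsClosed (H : Set (VecGrp.pt k k ⟶ G))) :
    ∃ (Z : Over (Spec (CommRingCat.of k))) (_ : GrpObj Z) (j : Z ⟶ G) (_ : IsMonHom j),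
      IsClosedImmersion j.left ∧ Smooth Z.hom ∧ ConnectedSpace Z.left ∧ (∀ y : VecGrp.pt k k ⟶ Z, y ≫ j ∈ H) ∧
      ∀ (V : Over (Spec (CommRingCat.of k))) [GrpObj V] (v : V ⟶ G) [IsMonHom v] [IsAffine V.left] [Smooth V.hom]
        [ConnectedSpace V.left], (∀ y : VecGrp.pt k k ⟶ V, y ≫ v ∈ H) → ∃ f : V ⟶ Z, f ≫ j = v := by
  obtain ⟨Z, _, j, hjm, hjc, hsm, hrange, hpts⟩ := exists_closed_subgroup_of_pts H hcl
  haveI := hjc
  haveI := hjm
  haveI : IsAffine Z.left := isAffine_of_isAffineHom j.left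
  obtain ⟨Z₀, _, j₀, hj₀, hj₀o, hconn⟩ := BorelFix21.exists_identity_component Z
  haveI := hj₀
  haveI := hj₀o
  haveI := hsm
  haveI := InvRing21.isClosedImmersion_of_open_subgroup j₀
  haveI : Smooth Z₀.hom := InvRing21.smooth_of_openImmersion j₀
  haveI : IsClosedImmersion (j₀ ≫ j).left := by rw [Over.comp_left]; infer_instance
  refine ⟨Z₀, inferInstance, j₀ ≫ j, inferInstance, inferInstance, inferInstance, hconn, fun y => ?_,
    fun V _ v _ _ _ hV hv => ?_⟩
  · rw [← Category.assoc]
    exact (hpts _).1 ⟨_, rfl⟩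
  · obtain ⟨f, hf⟩ := exists_lift_of_pts j v fun y => (hpts _).2 (hv y)
    haveI : Mono j := Over.mono_of_mono_left j
    haveI : IsMonHom f := BorelFix21.isMonHom_of_comp j f (hf ▸ ‹IsMonHom v›)
    have hr : Set.range f.left ⊆ Set.range j₀.left := by
      have hclo : IsClopen (Set.range j₀.left) :=
        ⟨j₀.left.isClosedEmbedding.isClosed_range, j₀.left.isOpenEmbedding.isOpen_range⟩
      have hone : f.left (InvRing21.img (1 : VecGrp.pt k k ⟶ V)) ∈ Set.range j₀.left := by
        refine ⟨InvRing21.img (1 : VecGrp.pt k k ⟶ Z₀), ?_⟩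
        show InvRing21.img ((1 : VecGrp.pt k k ⟶ Z₀) ≫ j₀) = InvRing21.img ((1 : VecGrp.pt k k ⟶ V) ≫ f)
        rw [MonObj.one_comp, MonObj.one_comp]
      exact (isPreconnected_range f.left.continuous).subset_isClopen hclo ⟨_, ⟨_, rfl⟩, hone⟩
    haveI : Mono j₀ := Over.mono_of_mono_left j₀
    refine ⟨Over.homMk (IsOpenImmersion.lift j₀.left f.left hr) ?_, ?_⟩
    · show _ ≫ Z₀.hom = _
      rw [← Over.w j₀, IsOpenImmersion.lift_fac_assoc, Over.w]
    · rw [← Category.assoc, ← hf]
      congr 1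
      ext1
      exact IsOpenImmersion.lift_fac _ _ _

end Groth.Agent.TorPts21
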