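import Groth.Agent.Lib.TorPts21.Sub
import Groth.Agent.Lib.BorelFix21.LieKolchin
import Groth.Agent.Lib.GrassAct21.Embed

/-!
# An embedding in which a connected solvable subgroup is triangular
-/

set_option autoImplicit false
set_option linter.style.haveILetI false
set_option backward.isDefEq.respectTransparency.types false
universe u

open CategoryTheory Limits MonoidalCategory CartesianMonoidalCategory MonObj AlgebraicGeometry
open scoped commutatorElement

noncomputable section

namespace Groth.Agent.TorPts21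

open MatGrp21

variable {k : Type u} [Field k] [IsAlgClosed k] {n : ℕ}

/-- A stable flag for a connected solvable group of operators. -/
theorem exists_flag {M : Type u} [Group M] [TopologicalSpace M] [PreconnectedSpace M] {N : ℕ}
    (hN : derivedSeries M N = ⊥) (hl : ∀ a : M, Continuous (a * ·)) (hr : ∀ a : M, Continuous (· * a))
    (hi : Continuous fun a : M => a⁻¹) (hc : ∀ a : M, Continuous fun b : M => ⁅a, b⁆) :
    ∀ (d : ℕ) {V : Type u} [AddCommGroup V] [Module k V] [FiniteDimensional k V], Module.finrank k V = d →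
      ∀ ρ : M →* Module.End k V, (∀ (v : V) (φ : Module.Dual k V) (c : k), IsClosed {m | φ (ρ m v) = c}) →
        ∃ b : Fin d → V, Submodule.span k (Set.range b) = ⊤ ∧
          ∀ m j, ρ m (b j) ∈ Submodule.span k (b '' Set.Iic j) := by
  intro d
  induction d with
  | zero =>
    intro V _ _ _ hd ρ _
    haveI : Subsingleton V := Module.finrank_zero_iff.1 hd
    exact ⟨Fin.elim0, Subsingleton.elim _ _, fun m j => Fin.elim0 j⟩
  | succ d ih =>
    intro V _ _ _ hd ρ hρ
    haveI : Nontrivial V := Module.nontrivial_of_finrank_pos (R := k) (by omega)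
    obtain ⟨v, hv, hve⟩ := BorelFix21.exists_eigvec (k := k) (V := V) N hN hl hr hi hc ρ hρ
    let W : Submodule k V := k ∙ v
    have hW : ∀ m, W ≤ W.comap (ρ m) := fun m => by
      rw [Submodule.span_le, Set.singleton_subset_iff]
      obtain ⟨c, hc⟩ := hve m
      show ρ m v ∈ W
      rw [hc]
      exact W.smul_mem c (Submodule.mem_span_singleton_self v)
    let ρ' : M →* Module.End k (V ⧸ W) :=
      { toFun := fun m => W.mapQ W (ρ m) (hW m)
        map_one' := Submodule.linearMap_qext _ (LinearMap.ext fun x => by simp)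
        map_mul' := fun a b => Submodule.linearMap_qext _ (LinearMap.ext fun x => by simp) }
    have hρ' : ∀ (x : V ⧸ W) (φ : Module.Dual k (V ⧸ W)) (c : k), IsClosed {m | φ (ρ' m x) = c} := fun x φ c => by
      obtain ⟨y, rfl⟩ := W.mkQ_surjective x
      exact hρ y (φ.comp W.mkQ) c
    have hd' : Module.finrank k (V ⧸ W) = d := by
      have h1 := W.finrank_quotient_add_finrank
      have h2 : Module.finrank k W = 1 := finrank_span_singleton hv
      omega
    obtain ⟨b', hb's, hb't⟩ := ih hd' ρ' hρ'
    choose lft hlft using W.mkQ_surjective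
    let b : Fin (d + 1) → V := Fin.cons v fun j => lft (b' j)
    have hb0 : b 0 = v := Fin.cons_zero _ _
    have hbs : ∀ j, W.mkQ (b (Fin.succ j)) = b' j := fun j => by
      show W.mkQ ((Fin.cons v fun j => lft (b' j) : Fin (d + 1) → V) (Fin.succ j)) = b' j
      rw [Fin.cons_succ, hlft]
    have hsub : ∀ (S : Set (Fin d)) (x : V), W.mkQ x ∈ Submodule.span k (b' '' S) →
        x ∈ Submodule.span k (b '' insert 0 (Fin.succ '' S)) := fun S x hx => by
      have e : b' '' S = W.mkQ '' (b '' (Fin.succ '' S)) := by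
        rw [Set.image_image, Set.image_image]
        exact Set.image_congr fun j _ => (hbs j).symm
      rw [e, Submodule.span_image] at hx
      obtain ⟨y, hy, hyx⟩ := hx
      have hW' : x - y ∈ W := by
        rw [← W.ker_mkQ, LinearMap.mem_ker, map_sub, hyx, sub_self]
      obtain ⟨c, hc⟩ := Submodule.mem_span_singleton.1 hW'
      rw [Set.image_insert_eq, hb0, Submodule.mem_span_insert]
      exact ⟨c, y, hy, by rw [hc]; abel⟩
    refine ⟨b, ?_, fun m j => ?_⟩
    · rw [eq_top_iff]
      intro x _
      have h := hsub Set.univ x (by rw [Set.image_univ, hb's]; trivial)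
      exact Submodule.span_mono (Set.image_subset_range _ _) h
    · induction j using Fin.cases with
      | zero =>
        obtain ⟨c, hc⟩ := hve m
        rw [hb0, hc, ← hb0]
        exact Submodule.smul_mem _ c (Submodule.subset_span ⟨0, Set.mem_Iic.2 le_rfl, rfl⟩)
      | succ j =>
        have h1 : W.mkQ (ρ m (b j.succ)) ∈ Submodule.span k (b' '' Set.Iic j) := by
          have : W.mkQ (ρ m (b j.succ)) = ρ' m (W.mkQ (b j.succ)) := rfl
          rw [this, hbs]
          exact hb't m j
        refine Submodule.span_mono (Set.image_mono ?_) (hsub _ _ h1)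
        rintro i (rfl | ⟨i, hi, rfl⟩)
        · exact Fin.zero_le _
        · exact Fin.succ_le_succ_iff.2 hi

/-- A closed irreducible solvable matrix group can be conjugated into the triangular matrices. -/
theorem exists_conj_upper {M : Subgroup (GL (Fin n) k)} (hirr : IsPreirreducible (M : Set (GL (Fin n) k))) {N : ℕ}
    (hN : derivedSeries M N = ⊥) : ∃ P : GL (Fin n) k, ∀ g ∈ M, P * g * P⁻¹ ∈ upper := by
  haveI : PreconnectedSpace M := Subtype.preconnectedSpace hirr.isPreconnected
  let ρ : M →* Module.End k (Fin n → k) :=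
    (Matrix.toLinAlgEquiv' : Matrix (Fin n) (Fin n) k ≃ₐ[k] Module.End k (Fin n → k)).toAlgHom.toMonoidHom.comp
      ((Units.coeHom _).comp M.subtype)
  have hρ : ∀ (v : Fin n → k) (φ : Module.Dual k (Fin n → k)) (c : k), IsClosed {m : M | φ (ρ m v) = c} := by
    intro v φ c
    have hreg : IsReg fun g : GL (Fin n) k =>
        φ (Matrix.toLinAlgEquiv' (g : Matrix (Fin n) (Fin n) k) v) := by
      have e : ∀ g : GL (Fin n) k, φ (Matrix.toLinAlgEquiv' (g : Matrix (Fin n) (Fin n) k) v) =
          ∑ a, (∑ b, (g : Matrix (Fin n) (Fin n) k) a b * v b) * φ (Pi.single a 1) := fun g => by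
        conv_lhs => rw [pi_eq_sum_univ' (Matrix.toLinAlgEquiv' (g : Matrix (Fin n) (Fin n) k) v), map_sum]
        refine Finset.sum_congr rfl fun a _ => ?_
        rw [map_smul, smul_eq_mul]
        rfl
      simp only [e]
      exact IsReg.sum _ fun a _ => (IsReg.sum _ fun b _ => (isReg_entry a b).mul (isReg_const _)).mul (isReg_const _)
    exact (MatGrp21.isClosed_eq hreg (isReg_const c)).preimage continuous_subtype_val
  obtain ⟨b, hb, hbt⟩ := exists_flag (k := k) hN
    (fun a => ((continuous_mul_left' a.1).comp continuous_subtype_val).subtype_mk _)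
    (fun a => ((continuous_mul_right' a.1).comp continuous_subtype_val).subtype_mk _)
    ((continuous_inv'.comp continuous_subtype_val).subtype_mk _)
    (fun a => Topology.IsInducing.subtypeVal.continuous_iff.2
      ((continuous_commutator' a.1).comp continuous_subtype_val))
    n (V := Fin n → k) (Module.finrank_fin_fun k) ρ hρ
  have hli : LinearIndependent k b :=
    linearIndependent_of_top_le_span_of_card_eq_finrank hb.ge
      (by rw [Fintype.card_fin, Module.finrank_fin_fun])
  let e : Module.Basis (Fin n) k (Fin n → k) := Module.Basis.mk hli hb.ge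
  let P : GL (Fin n) k := ⟨e.toMatrix (Pi.basisFun k (Fin n)), (Pi.basisFun k (Fin n)).toMatrix e,
    e.toMatrix_mul_toMatrix_flip _, (Pi.basisFun k (Fin n)).toMatrix_mul_toMatrix_flip _⟩
  refine ⟨P, fun g hg => mem_upper.2 fun a c hac => ?_⟩
  show (e.toMatrix (Pi.basisFun k (Fin n)) * (g : Matrix (Fin n) (Fin n) k) *
    (Pi.basisFun k (Fin n)).toMatrix e) a c = 0
  have key : e.toMatrix (Pi.basisFun k (Fin n)) * (g : Matrix (Fin n) (Fin n) k) *
      (Pi.basisFun k (Fin n)).toMatrix e = LinearMap.toMatrix e e (ρ ⟨g, hg⟩) := by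
    rw [← basis_toMatrix_mul_linearMap_toMatrix_mul_basis_toMatrix e (Pi.basisFun k (Fin n)) e
      (Pi.basisFun k (Fin n))]
    congr 2
    rw [LinearMap.toMatrix_eq_toMatrix']
    exact (LinearMap.toMatrix'_toLin' _).symm
  rw [key, LinearMap.toMatrix_apply]
  have h1 := hbt ⟨g, hg⟩ c
  rw [show e c = b c from Module.Basis.mk_apply _ _ _]
  refine Finsupp.notMem_support_iff.1 fun hmem => ?_
  have h2 : (e.repr (ρ ⟨g, hg⟩ (b c))).support ⊆ (Set.Iic c).toFinset := by
    have h3 : ρ ⟨g, hg⟩ (b c) ∈ Submodule.span k (e '' Set.Iic c) := by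
      rwa [Module.Basis.coe_mk]
    rw [Module.Basis.mem_span_image] at h3
    intro i hi
    exact Set.mem_toFinset.2 (h3 hi)
  have h4' : a ∈ Set.Iic c := Set.mem_toFinset.1 (h2 hmem)
  have h4 : a ≤ c := h4'
  have h5 : (c : ℕ) < (a : ℕ) := by simpa using hac
  exact absurd h4 (by rw [Fin.le_def]; omega)

/-- An embedding of an affine group in which a connected solvable subgroup is triangular. -/
theorem exists_upper_embedding {G B : Over (Spec (CommRingCat.of k))} [GrpObj G] [GrpObj B] [IsAffine G.left]
    [LocallyOfFiniteType G.hom] (iB : B ⟶ G) [IsMonHom iB] [Smooth B.hom] [ConnectedSpace B.left]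
    (hB : Red.IsSolvableGrp B) :
    ∃ (n : ℕ) (r : G ⟶ GLs k n) (_ : IsMonHom r), IsClosedImmersion r.left ∧ (mtx (iB ≫ r)).range ≤ upper := by
  obtain ⟨n, r, hr, hrc⟩ := GrassAct21.exists_embedding_GL G
  haveI := hr
  haveI := hrc
  obtain ⟨N, hN⟩ := hB
  have hM : derivedSeries (mtx (iB ≫ r)).range N = ⊥ := by
    rw [← map_derivedSeries_eq (f := (mtx (iB ≫ r)).rangeRestrict) (MonoidHom.rangeRestrict_surjective _) N,
      hN, Subgroup.map_bot]
  obtain ⟨P, hP⟩ := exists_conj_upper (isPreirreducible_range_mtx' (iB ≫ r)) hM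
  obtain ⟨g, hg⟩ := exists_gpt (mtxFn_surjective P).choose
  haveI := isMonHom_conjBy g r
  refine ⟨n, AGF.conjBy g r, inferInstance, isClosedImmersion_conjBy g r, ?_⟩
  rintro _ ⟨x, rfl⟩
  rw [mtx_comp, mtx_apply, show AGF.conjBy g r = AGF.conjBy g r ≫ 𝟙 _ from (Category.comp_id _).symm,
    mtxFn_conjBy (𝟙 _), Category.comp_id, hg, (mtxFn_surjective P).choose_spec]
  exact hP _ ⟨x, by rw [mtx_comp]; rfl⟩

end Groth.Agent.TorPts21
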