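import Groth.Agent.Lib.TorPts21.LineRep
import Groth.Agent.Lib.TorPts21.OrbitLimit
import Groth.Agent.Lib.TorPts21.SubOfPts
import Groth.Agent.Lib.TorPts21.Max
import Groth.Agent.Lib.TorPts21.Upper
import Groth.Agent.Lib.BorelFix21.Parabolic
import Groth.Agent.Lib.GrassAct21.QuotAffine
import Mathlib.Algebra.Polynomial.Roots
import Mathlib.LinearAlgebra.FiniteDimensional.Lemmas

/-!
# The variety of Borel subgroups is covered by charts attached to the Borel subgroups containing a maximal torus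
-/

set_option autoImplicit false
set_option linter.style.haveILetI false
set_option backward.isDefEq.respectTransparency.types false
universe u

open CategoryTheory Limits MonoidalCategory CartesianMonoidalCategory MonObj AlgebraicGeometry

noncomputable section

namespace Groth.Agent.TorPts21

open MatGrp21 InvRing21 DiagGL
open scoped Matrix

attribute [local instance] InvRing21.gamAlg BorelFix21.ptsTop

variable {k : Type u} [Field k] [IsAlgClosed k]

/-- The values of a family of functions at a point. -/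
def vec {X : Over (Spec (CommRingCat.of k))} {m : ℕ} (c : Fin m → Γ(X.left, ⊤)) (x : VecGrp.pt k k ⟶ X) :
    Fin m → k := fun α => val x (c α)

/-- The pairing of weights. -/
def pairing {d : ℕ} (a b : Fin d → ℤ) : ℤ := ∑ i, a i * b i

theorem exists_pairing_ne_zero {d : ℕ} (S : Finset (Fin d → ℤ)) (hS : ∀ a ∈ S, a ≠ 0) :
    ∃ b : Fin d → ℤ, ∀ a ∈ S, pairing a b ≠ 0 := by
  classical
  let q : Polynomial ℤ := ∏ a ∈ S, ∑ i, Polynomial.C (a i) * Polynomial.X ^ (i : ℕ)
  have hq : q ≠ 0 := Finset.prod_ne_zero_iff.2 fun a ha h => hS a ha (funext fun i => by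
    have := congrArg (fun p => Polynomial.coeff p (i : ℕ)) h
    simpa [Polynomial.finsetSum_coeff, Polynomial.coeff_C_mul, Polynomial.coeff_X_pow, Fin.val_inj] using this)
  obtain ⟨M, hM⟩ : ∃ M : ℤ, q.eval M ≠ 0 := by
    by_contra! h
    exact hq (Polynomial.funext fun r => by rw [h r, Polynomial.eval_zero])
  refine ⟨fun i => M ^ (i : ℕ), fun a ha => ?_⟩
  have := (Finset.prod_ne_zero_iff.1 (by simpa [q, Polynomial.eval_prod] using hM :
    ∏ x ∈ S, Polynomial.eval M (∑ i, Polynomial.C (x i) * Polynomial.X ^ (i : ℕ)) ≠ 0)) a ha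
  simpa [pairing, Polynomial.eval_finsetSum] using this

variable {σ : Over (Spec (CommRingCat.of k))} [GrpObj σ] {d : ℕ}

/-- The points of a cocharacter. -/
theorem exists_cochar_pt (C : Chars (Fin d → ℤ) σ) (b : Fin d → ℤ) (s : kˣ) :
    ∃ x : VecGrp.pt k k ⟶ σ, ∀ a, ptChr C x (Multiplicative.ofAdd a) = ((s ^ pairing a b : kˣ) : k) := by
  obtain ⟨x, hx⟩ := exists_ptChr C ((Units.coeHom k).comp (MonoidHom.mk'
    (fun a : Multiplicative (Fin d → ℤ) => s ^ pairing a.toAdd b) fun a a' => by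
      simp only [pairing, toAdd_mul, Pi.add_apply, add_mul, Finset.sum_add_distrib, zpow_add]))
  exact ⟨x, fun a => by rw [hx]; rfl⟩

/-- The weights of a torus in a representation. -/
theorem exists_weights (C : Chars (Fin d → ℤ) σ) {m : ℕ} (s : σ ⟶ GLs k m) [IsMonHom s] :
    ∃ (P : GL (Fin m) k) (a : Fin m → (Fin d → ℤ)), ∀ x : VecGrp.pt k k ⟶ σ,
      ((P * mtx s x * P⁻¹ : GL (Fin m) k) : Matrix (Fin m) (Fin m) k) =
        Matrix.diagonal fun j => ptChr C x (Multiplicative.ofAdd (a j)) := by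
  classical
  obtain ⟨P, hP⟩ := range_mtx_diag C s
  obtain ⟨A, hA⟩ := exists_mtxFn_eq C s
  let f : Fin m → MonoidAlgebra k (Multiplicative (Fin d → ℤ)) := fun j =>
    ∑ l, ∑ l', algebraMap k _ ((P : Matrix (Fin m) (Fin m) k) j l) * A l l' *
      algebraMap k _ (((P⁻¹ : GL (Fin m) k) : Matrix (Fin m) (Fin m) k) l' j)
  have hf : ∀ x j, ((P * mtx s x * P⁻¹ : GL (Fin m) k) : Matrix (Fin m) (Fin m) k) j j =
      MonoidAlgebra.lift k k _ (ptChr C x) (f j) := fun x j => by
    rw [mtx_apply, Units.val_mul, Units.val_mul, hA x]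
    simp only [f, Matrix.mul_apply, Matrix.map_apply, map_sum, map_mul, AlgHom.commutes, Algebra.algebraMap_self,
      RingHom.id_apply, Finset.sum_mul]
    exact Finset.sum_comm
  -- the diagonal entries are characters on the group of all characters
  have hχ : ∀ j, ∃ a : Fin d → ℤ, ∀ x, MonoidAlgebra.lift k k _ (ptChr C x) (f j) =
      ptChr C x (Multiplicative.ofAdd a) := by
    intro j
    let Φ : (VecGrp.pt k k ⟶ σ) →* k := MonoidHom.mk
      ⟨fun x => MonoidAlgebra.lift k k _ (ptChr C x) (f j), by rw [← hf]; simp⟩ fun x y => by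
        simp only [← hf]
        have h1 := hP _ ⟨x, rfl⟩
        have h2 := hP _ ⟨y, rfl⟩
        rw [map_mul, show P * (mtx s x * mtx s y) * P⁻¹ = (P * mtx s x * P⁻¹) * (P * mtx s y * P⁻¹) by group,
          Units.val_mul, ← h1.diagonal_diag, ← h2.diagonal_diag, Matrix.diagonal_mul_diagonal]
        simp
    let ev : (Fin d → ℤ) → ((VecGrp.pt k k ⟶ σ) →* k) := fun a => MonoidHom.mk
      ⟨fun x => ptChr C x (Multiplicative.ofAdd a), by
        show InvRing21.ptHom (k := k) k (C.ch 1 (Multiplicative.ofAdd a)) = 1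
        rw [C.one, map_one]⟩ fun x y => by
        show InvRing21.ptHom (k := k) k (C.ch (x * y) (Multiplicative.ofAdd a)) = _
        rw [C.mul, map_mul]
        rfl
    have hinj : Function.Injective ev := fun a a' h => by
      by_contra hne
      obtain ⟨i, hi⟩ := Function.ne_iff.1 hne
      obtain ⟨s₀, hs₀, hs₁⟩ : ∃ s₀ : k, s₀ ≠ 0 ∧ s₀ ^ (a i - a' i).natAbs ≠ 1 := by
        obtain ⟨s₀, hs₀⟩ := Infinite.exists_notMem_finset
          (insert 0 (Polynomial.nthRoots (a i - a' i).natAbs (1 : k)).toFinset)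
        simp only [Finset.mem_insert, Multiset.mem_toFinset, not_or] at hs₀
        exact ⟨s₀, hs₀.1, fun h1 => hs₀.2 ((Polynomial.mem_nthRoots (Int.natAbs_pos.2 (sub_ne_zero.2 hi))).2 h1)⟩
      obtain ⟨x, hx⟩ := exists_cochar_pt C (Pi.single i 1) (Units.mk0 s₀ hs₀)
      have h1 := DFunLike.congr_fun h x
      change ptChr C x (Multiplicative.ofAdd a) = ptChr C x (Multiplicative.ofAdd a') at h1
      rw [hx, hx] at h1
      simp only [pairing, Pi.single_apply, mul_ite, _root_.mul_one, mul_zero, Finset.sum_ite_eq', Finset.mem_univ,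
        if_true] at h1
      have h2 : (Units.mk0 s₀ hs₀) ^ (a i - a' i) = 1 := by rw [zpow_sub, Units.ext h1, mul_inv_cancel]
      rcases Int.natAbs_eq (a i - a' i) with e | e
      · rw [e, zpow_natCast] at h2
        exact hs₁ (by simpa using congrArg Units.val h2)
      · rw [e, zpow_neg, zpow_natCast, inv_eq_one] at h2
        exact hs₁ (by simpa using congrArg Units.val h2)
    have hli := (linearIndependent_monoidHom (VecGrp.pt k k ⟶ σ) k).comp ev hinj
    have hexp : (fun x => MonoidAlgebra.lift k k _ (ptChr C x) (f j)) =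
        ∑ q ∈ (f j).coeff.support, (f j).coeff q • (fun x => ev q.toAdd x) := by
      funext x
      simp only [MonoidAlgebra.lift_apply, Finsupp.sum, Finset.sum_apply, Pi.smul_apply, smul_eq_mul]
      rfl
    by_contra hnot
    push Not at hnot
    have hΦ : ∀ q : Fin d → ℤ, Φ ≠ ev q := fun q h => by
      obtain ⟨x, hx⟩ := hnot q
      exact hx (DFunLike.congr_fun h x)
    let ev' : Option (Fin d → ℤ) → ((VecGrp.pt k k ⟶ σ) →* k) := fun o => o.elim Φ ev
    have hinj' : Function.Injective ev' := by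
      rintro (_ | q) (_ | q') h
      · rfl
      · exact absurd h (hΦ q')
      · exact absurd h.symm (hΦ q)
      · exact congrArg some (hinj h)
    have hli' := (linearIndependent_monoidHom (VecGrp.pt k k ⟶ σ) k).comp ev' hinj'
    have := linearIndependent_iff'.1 hli' (insert none ((f j).coeff.support.image fun q => some q.toAdd))
      (fun o => o.elim (-1) fun q => (f j).coeff (Multiplicative.ofAdd q)) (by
        rw [Finset.sum_insert (by simp), Finset.sum_image fun q _ q' _ h => Multiplicative.toAdd.injective (Option.some_injective _ h)]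
        show (-1 : k) • (fun x => MonoidAlgebra.lift k k _ (ptChr C x) (f j)) + _ = 0
        rw [hexp, neg_one_smul, neg_add_eq_zero]
        rfl) none (Finset.mem_insert_self _ _)
    simp at this
  choose a ha using hχ
  refine ⟨P, a, fun x => ?_⟩
  rw [← (hP _ ⟨x, rfl⟩).diagonal_diag]
  congr 1
  funext j
  rw [Matrix.diag_apply, hf, ha]

variable {G B : Over (Spec (CommRingCat.of k))} [GrpObj G] [GrpObj B] [IsAffine G.left] [Smooth G.hom]

/-- A functional on the orbit which is an eigenvector of a connected solvable subgroup. -/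
theorem exists_eigen_functional (iB : B ⟶ G) [IsMonHom iB] [Smooth B.hom] [ConnectedSpace B.left]
    (hB : Red.IsSolvableGrp B) {m : ℕ} (r : G ⟶ GLs k m) [IsMonHom r] (c : Fin m → Γ(G.left, ⊤))
    (hc : ∀ g x, vec c (g * x) = (mtx r g : Matrix (Fin m) (Fin m) k) *ᵥ vec c x)
    (hne : ∃ x, vec c x ≠ 0) :
    ∃ ξ : Fin m → k, (∃ x, ξ ⬝ᵥ vec c x ≠ 0) ∧
      ∀ b : VecGrp.pt k k ⟶ B, ∃ δ : k, ∀ x, ξ ⬝ᵥ vec c ((b ≫ iB) * x) = δ * (ξ ⬝ᵥ vec c x) := by
  classical
  obtain ⟨N, hN⟩ := hB
  have hM : derivedSeries (mtx (iB ≫ r)).range N = ⊥ := by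
    rw [← map_derivedSeries_eq (f := (mtx (iB ≫ r)).rangeRestrict) (MonoidHom.rangeRestrict_surjective _) N,
      hN, Subgroup.map_bot]
  obtain ⟨P, hP⟩ := exists_conj_upper (isPreirreducible_range_mtx' (iB ≫ r)) hM
  obtain ⟨x₀, hx₀⟩ := hne
  have hJ : (Finset.univ.filter fun j => ∃ x, ((P : Matrix (Fin m) (Fin m) k) *ᵥ vec c x) j ≠ 0).Nonempty := by
    by_contra h
    rw [Finset.not_nonempty_iff_eq_empty, Finset.filter_eq_empty_iff] at h
    refine hx₀ ?_
    have h0 : (P : Matrix (Fin m) (Fin m) k) *ᵥ vec c x₀ = 0 := funext fun j => by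
      by_contra hj
      exact h (Finset.mem_univ j) ⟨x₀, hj⟩
    have := congrArg (fun w => ((P⁻¹ : GL (Fin m) k) : Matrix (Fin m) (Fin m) k) *ᵥ w) h0
    simpa [Matrix.mulVec_mulVec] using this
  set j := (Finset.univ.filter fun j => ∃ x, ((P : Matrix (Fin m) (Fin m) k) *ᵥ vec c x) j ≠ 0).max' hJ with hj
  obtain ⟨x₁, hx₁⟩ := (Finset.mem_filter.1 ((Finset.univ.filter fun j => ∃ x,
    ((P : Matrix (Fin m) (Fin m) k) *ᵥ vec c x) j ≠ 0).max'_mem hJ)).2
  refine ⟨fun α => (P : Matrix (Fin m) (Fin m) k) j α, ⟨x₁, hx₁⟩, fun b => ?_⟩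
  set g := mtx (iB ≫ r) b
  refine ⟨((P * g * P⁻¹ : GL (Fin m) k) : Matrix (Fin m) (Fin m) k) j j, fun x => ?_⟩
  show ((P : Matrix (Fin m) (Fin m) k) *ᵥ vec c ((b ≫ iB) * x)) j = _
  rw [hc, show (mtx r (b ≫ iB) : Matrix (Fin m) (Fin m) k) = (g : Matrix (Fin m) (Fin m) k) from
    congrArg Units.val (mtx_comp iB r b).symm, Matrix.mulVec_mulVec,
    show (P : Matrix (Fin m) (Fin m) k) * (g : Matrix (Fin m) (Fin m) k) =
      ((P * g * P⁻¹ : GL (Fin m) k) : Matrix (Fin m) (Fin m) k) * (P : Matrix (Fin m) (Fin m) k) by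
      rw [← Units.val_mul, ← Units.val_mul, inv_mul_cancel_right], ← Matrix.mulVec_mulVec]
  show ∑ l, _ * ((P : Matrix (Fin m) (Fin m) k) *ᵥ vec c x) l =
    _ * ((P : Matrix (Fin m) (Fin m) k) *ᵥ vec c x) j
  refine Finset.sum_eq_single j (fun l _ hl => ?_) (by simp)
  rcases lt_or_gt_of_ne hl with h | h
  · rw [mem_upper.1 (hP g ⟨b, rfl⟩) j l h, zero_mul]
  · have : ((P : Matrix (Fin m) (Fin m) k) *ᵥ vec c x) l = 0 := by
      by_contra hne'
      exact absurd (Finset.le_max' _ l (Finset.mem_filter.2 ⟨Finset.mem_univ _, x, hne'⟩)) (not_le.2 h)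
    rw [this, mul_zero]

end Groth.Agent.TorPts21
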