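import Groth.Agent.Lib.TorPts21.Connected
import Groth.Agent.Lib.BorelFix21.Solvable
import Mathlib.GroupTheory.Nilpotent

/-!
# Nilpotency of Cartan subgroups
-/

set_option autoImplicit false
set_option linter.style.haveILetI false
set_option backward.isDefEq.respectTransparency.types false
universe u v

open CategoryTheory Limits MonoidalCategory CartesianMonoidalCategory MonObj AlgebraicGeometry

noncomputable section

namespace Groth.Agent.TorPts21

open MatGrp21

theorem mem_ucs_of_injective {A : Type u} {B : Type v} [Group A] [Group B] (f : A →* B)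
    (hf : Function.Injective f) (m : ℕ) :
    ∀ x : A, f x ∈ Subgroup.upperCentralSeries B m → x ∈ Subgroup.upperCentralSeries A m := by
  induction m with
  | zero =>
    intro x hx
    rw [Subgroup.upperCentralSeries_zero, Subgroup.mem_bot] at hx ⊢
    exact hf (hx.trans (map_one f).symm)
  | succ m ih =>
    intro x hx
    rw [Subgroup.mem_upperCentralSeries_succ_iff] at hx ⊢
    intro y
    refine ih _ ?_
    have := hx (f y)
    simpa only [map_commutatorElement] using this

variable {k : Type u} [Field k]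

/-- The commutator of two unipotent triangular matrices moves up the filtration. -/
theorem comm_mem_lay_succ {n i : ℕ} (hi : 1 ≤ i) {g u : GL (Fin n) k} (hg : g ∈ lay i) (hu : u ∈ lay 1) :
    g * u * g⁻¹ * u⁻¹ ∈ lay (i + 1) := by
  have hg' : g⁻¹ ∈ (lay i : Subgroup (GL (Fin n) k)) := Subgroup.inv_mem _ hg
  have h1 : u * g⁻¹ * u⁻¹ ∈ lay i := conj_mem_lay hu.1 hg'
  have e : g * u * g⁻¹ * u⁻¹ = g * (u * g⁻¹ * u⁻¹) := by group
  rw [e]
  refine (phi_eq_zero_iff hi (Subgroup.mul_mem _ hg h1)).1 ?_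
  rw [phi_mul hi hg h1, phi_conj hi hu.1 hg', phi_inv hi hg]
  have hs : scal i u = 1 := funext fun a => by
    simp only [scal, Pi.one_apply]
    split
    · rw [(mem_lay_one_iff.1 hu).2, (mem_lay_one_iff.1 (Subgroup.inv_mem _ hu)).2, _root_.one_mul]
    · rfl
  rw [hs, _root_.one_mul, add_neg_cancel]

section Closed

variable [IsAlgClosed k] {G : Over (Spec (CommRingCat.of k))} [GrpObj G] [IsSeparated G.hom]

/-- The upper central series of all points is detected by rational points. -/
theorem forall_mem_ucs_of_points (m : ℕ) : ∀ (Q : Over (Spec (CommRingCat.of k))) [Smooth Q.hom] (w : Q ⟶ G),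
    (∀ q : VecGrp.pt k k ⟶ Q, q ≫ w ∈ Subgroup.upperCentralSeries (VecGrp.pt k k ⟶ G) m) →
    [Smooth G.hom] → ∀ (X : Over (Spec (CommRingCat.of k))) (q : X ⟶ Q),
      q ≫ w ∈ Subgroup.upperCentralSeries (X ⟶ G) m := by
  induction m with
  | zero =>
    intro Q _ w hw _ X q
    haveI := OrbitTop19.isReduced_of_smooth Q.hom
    haveI := PtsDetect19.isClosedImmersion_diag G
    obtain ⟨l, hl⟩ := PtsDetect19.exists_lift_algClosed (k := k) k (lift w 1) (lift (𝟙 G) (𝟙 G))
      (fun p => ⟨p ≫ w, by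
        rw [comp_lift, comp_lift, Category.comp_id, MonObj.comp_one]
        have := hw p
        rw [Subgroup.upperCentralSeries_zero, Subgroup.mem_bot] at this
        exact congrArg (lift (p ≫ w)) this⟩)
    have h1 := congrArg (· ≫ fst G G) hl
    have h2 := congrArg (· ≫ snd G G) hl
    simp only [comp_lift, lift_fst, lift_snd, Category.comp_id] at h1 h2
    rw [Subgroup.upperCentralSeries_zero, Subgroup.mem_bot, h1.symm.trans h2, MonObj.comp_one]
  | succ m ih =>
    intro Q hQ w hw _ X q
    rw [Subgroup.mem_upperCentralSeries_succ_iff]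
    intro y
    haveI : Smooth (Q ⊗ G).hom := inferInstanceAs (Smooth (Limits.pullback.fst Q.hom G.hom ≫ Q.hom))
    have h := ih (Q ⊗ G) ((fst Q G ≫ w) * snd Q G * (fst Q G ≫ w)⁻¹ * (snd Q G)⁻¹) (fun p => by
      have := (Subgroup.mem_upperCentralSeries_succ_iff.1 (hw (p ≫ fst Q G))) (p ≫ snd Q G)
      simpa only [commutatorElement_def, MonObj.comp_mul, GrpObj.comp_inv, Category.assoc] using this) X (lift q y)
    simpa only [commutatorElement_def, MonObj.comp_mul, GrpObj.comp_inv, lift_fst_assoc, lift_snd] using h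

/-- Nilpotency is detected by rational points. -/
theorem isNilpotentGrp_of_points [Smooth G.hom] (m : ℕ)
    (h : ∀ q : VecGrp.pt k k ⟶ G, q ∈ Subgroup.upperCentralSeries (VecGrp.pt k k ⟶ G) m) :
    AGF.IsNilpotentGrp G :=
  ⟨m, fun X => (Subgroup.eq_top_iff' _).2 fun x => by
    have := forall_mem_ucs_of_points m G (𝟙 G) (fun q => by rw [Category.comp_id]; exact h q) X x
    rwa [Category.comp_id] at this⟩

set_option maxHeartbeats 800000 in
/-- A connected group with a central maximal torus is nilpotent. -/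
theorem isNilpotentGrp_of_central_maxTorus [IsAffine G.left] [Smooth G.hom] [ConnectedSpace G.left]
    {T : Over (Spec (CommRingCat.of k))} [GrpObj T] {iT : T ⟶ G} (hT : AGF.IsMaxTorus iT)
    (hcent : ∀ {X : Over (Spec (CommRingCat.of k))} (x : X ⟶ G) (y : X ⟶ T), x * (y ≫ iT) = (y ≫ iT) * x) :
    AGF.IsNilpotentGrp G := by
  haveI := hT.1
  have hsol := isSolvableGrp_of_central_maxTorus hT hcent
  haveI : IsMonHom (𝟙 G) := inferInstance
  haveI : IsClosedImmersion (𝟙 G : G ⟶ G).left := inferInstanceAs (IsClosedImmersion (𝟙 G.left))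
  obtain ⟨n, r, hr, hrc, hu⟩ := exists_upper_embedding (𝟙 G) hsol
  haveI := hr
  haveI := hrc
  haveI : IsClosedImmersion (𝟙 G ≫ r).left := by rw [Category.id_comp]; infer_instance
  obtain ⟨D⟩ := nonempty_decomp hu (isClosed_range_mtx (𝟙 G ≫ r)) (isPreirreducible_range_mtx' (𝟙 G ≫ r))
  have hDT := decomp_eq_of_central r (𝟙 G) hu D hT iT (Category.comp_id _)
    fun x y => by rw [Category.comp_id]; exact hcent x y
  have hmem : ∀ x : VecGrp.pt k k ⟶ G, mtx r x ∈ (mtx (𝟙 G ≫ r)).range := fun x =>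
    ⟨x, by rw [mtx_comp, Category.comp_id]⟩
  have hdecomp : ∀ y : VecGrp.pt k k ⟶ G, ∃ τ u, mtx r y = τ * u ∧ u ∈ lay 1 ∧
      ∀ x : VecGrp.pt k k ⟶ G, Commute τ (mtx r x) := fun y => by
    obtain ⟨τ, hτ, hu'⟩ := D.exists_mem _ (hmem y)
    obtain ⟨z, hz⟩ := hDT ▸ hτ
    refine ⟨τ, τ⁻¹ * mtx r y, (mul_inv_cancel_left _ _).symm, hu', fun x => ?_⟩
    rw [← hz, mtx_comp]
    exact ((show Commute x (z ≫ iT) from hcent x z).map (mtx r)).symm
  have hinj : Function.Injective (mtx r) := fun a b h => mtxFn_injective r h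
  have hstep : ∀ (m j : ℕ), 1 ≤ j → n ≤ j + m → ∀ x : VecGrp.pt k k ⟶ G, mtx r x ∈ lay j →
      x ∈ Subgroup.upperCentralSeries (VecGrp.pt k k ⟶ G) m := by
    intro m
    induction m with
    | zero =>
      intro j _ hn x hx
      rw [lay_eq_bot (by omega), Subgroup.mem_bot] at hx
      rw [Subgroup.upperCentralSeries_zero, Subgroup.mem_bot]
      exact hinj (hx.trans (map_one _).symm)
    | succ m ih =>
      intro j hj hn x hx
      rw [Subgroup.mem_upperCentralSeries_succ_iff]
      intro y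
      refine ih (j + 1) (by omega) (by omega) _ ?_
      obtain ⟨τ, u, hy, hu1, hτ⟩ := hdecomp y
      simp only [commutatorElement_def, map_mul, map_inv, hy]
      have e : mtx r x * (τ * u) * (mtx r x)⁻¹ * (τ * u)⁻¹ =
          τ * (mtx r x * u * (mtx r x)⁻¹ * u⁻¹) * τ⁻¹ := by
        rw [← _root_.mul_assoc, ← (hτ x).eq]
        group
      rw [e]
      refine conj_mem_lay ?_ (comm_mem_lay_succ hj hx hu1)
      have hy' := hu (hmem y)
      rw [hy] at hy'
      have := Subgroup.mul_mem _ hy' (Subgroup.inv_mem _ hu1.1)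
      rwa [mul_inv_cancel_right] at this
  refine isNilpotentGrp_of_points (n + 1) fun x => ?_
  rw [Subgroup.mem_upperCentralSeries_succ_iff]
  intro y
  refine hstep n 1 le_rfl (by omega) _ ?_
  simp only [commutatorElement_def, map_mul, map_inv]
  have h := commutator_mem_lay ((upper : Subgroup (GL (Fin n) k)).inv_mem (hu (hmem x)))
    ((upper : Subgroup (GL (Fin n) k)).inv_mem (hu (hmem y)))
  simpa only [inv_inv] using h

end Closed

set_option maxHeartbeats 400000 in
/-- Nilpotency descends along field extensions. -/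
theorem isNilpotentGrp_of_bc {K : Type u} [Field K] (φ : Spec (CommRingCat.of K) ⟶ Spec (CommRingCat.of k))
    [Flat φ] [Surjective φ] {G : Over (Spec (CommRingCat.of k))} [GrpObj G] (h : AGF.IsNilpotentGrp (Red.bc φ G)) :
    AGF.IsNilpotentGrp G := by
  obtain ⟨m, hm⟩ := h
  refine ⟨m, fun X => (Subgroup.eq_top_iff' _).2 fun x => ?_⟩
  let X' : Over (Spec (CommRingCat.of K)) := Over.mk (pullback.snd X.hom φ)
  let π : (Over.map φ).obj X' ⟶ X := Over.homMk (pullback.fst X.hom φ) pullback.condition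
  haveI : Flat π.left := inferInstanceAs (Flat (pullback.fst X.hom φ))
  haveI : Surjective π.left := inferInstanceAs (Surjective (pullback.fst X.hom φ))
  haveI : QuasiCompact π.left := inferInstanceAs (QuasiCompact (pullback.fst X.hom φ))
  haveI := AlgGrpBasic19.epi_of_cover π
  let F : (X ⟶ G) →* ((Over.map φ).obj X' ⟶ G) := MonoidHom.mk' (π ≫ ·) fun a b => MonObj.comp_mul π a b
  refine mem_ucs_of_injective F (fun a b e => (cancel_epi π).1 e) m x ?_
  let E : (X' ⟶ Red.bc φ G) ≃* ((Over.map φ).obj X' ⟶ G) :=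
    MulEquiv.mk' (Equiv.ofBijective (DiagGL.fl φ G) ⟨DiagGL.fl_injective φ G, DiagGL.fl_surjective φ G⟩)
      fun a b => DiagGL.fl_mul φ G a b
  refine mem_ucs_of_injective E.symm.toMonoidHom E.symm.injective m _ ?_
  rw [hm X']
  trivial

set_option maxHeartbeats 800000 in
/-- The centraliser of a maximal torus is smooth, connected and nilpotent. -/
theorem cartan_props {G T C : Over (Spec (CommRingCat.of k))} [GrpObj G] [GrpObj T] [GrpObj C]
    [IsAffine G.left] [Smooth G.hom] [ConnectedSpace G.left] {iT : T ⟶ G} (hT : Red.IsMaximalTorus iT)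
    {c : C ⟶ G} (hc : Red.IsCentralizerOf iT c) :
    Smooth C.hom ∧ ConnectedSpace C.left ∧ AGF.IsNilpotentGrp C := by
  obtain ⟨hm, hmono, htor, hmax⟩ := hT
  haveI := hm
  haveI := hmono
  obtain ⟨hcm, hci, hcs, hca⟩ := centralizer_props htor hc
  haveI := hcm
  haveI := hci
  haveI := hcs
  haveI := hca
  haveI hconn := connectedSpace_centralizer htor hc
  refine ⟨hcs, hconn, ?_⟩
  let s : Spec (CommRingCat.of k) := IsLocalRing.closedPoint k
  let φ := Red.geomPt s
  haveI : Surjective φ := ⟨fun z => ⟨IsLocalRing.closedPoint _, Subsingleton.elim _ _⟩⟩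
  haveI : Flat φ := inferInstance
  refine isNilpotentGrp_of_bc φ ?_
  have hTbar : AGF.IsMaxTorus ((Over.pullback φ).map iT) :=
    ⟨inferInstance, inferInstance, isTorus_bc φ htor, fun T' _ j _ _ f hT' hf => hmax s T' j f hT' hf⟩
  have hcbar := isCentralizerOf_bc φ hc
  haveI : IsAffine (Red.bc φ G).left := BorelFix21.isAffine_bc φ G
  haveI : Smooth (Red.bc φ G).hom := BorelFix21.smooth_bc φ G
  haveI : IsAffine (Red.bc φ C).left := BorelFix21.isAffine_bc φ C
  haveI : Smooth (Red.bc φ C).hom := BorelFix21.smooth_bc φ C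
  haveI : ConnectedSpace (Red.bc φ C).left := BorelFix21.connectedSpace_bc φ C
  haveI := hTbar.1
  haveI := hTbar.2.1
  haveI := hcbar.1
  haveI := hcbar.2.1
  obtain ⟨d, ⟨Ch⟩⟩ := exists_chars hTbar.2.2.1
  obtain ⟨t, ht, htm⟩ := exists_lift_centralizer hcbar (fun x y => commute_of_chars Ch x y)
  haveI := htm
  haveI : Mono (t ≫ (Over.pullback φ).map c) := ht.symm ▸ hTbar.2.1
  haveI : Mono t := mono_of_mono t ((Over.pullback φ).map c)
  refine isNilpotentGrp_of_central_maxTorus (iT := t) ⟨htm, inferInstance, hTbar.2.2.1, fun T' _ j _ _ f hT' hf => ?_⟩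
    fun x y => ?_
  · exact hTbar.2.2.2 T' (j ≫ (Over.pullback φ).map c) f hT' (by rw [← Category.assoc, hf, ht])
  · refine (cancel_mono ((Over.pullback φ).map c)).1 ?_
    rw [MonObj.mul_comp, MonObj.mul_comp, show (y ≫ t) ≫ (Over.pullback φ).map c = y ≫ (Over.pullback φ).map iT by
      rw [Category.assoc, ht]]
    exact centralizer_comm hcbar x y

end Groth.Agent.TorPts21
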