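import Groth.Agent.Lib.TorPts21.Torus
import Groth.Agent.Lib.BorelFix21.BorelConj
import Groth.Agent.Lib.BorelFix21.Borel
import Groth.Agent.Lib.InvRing21.Points

/-!
# Subgroup schemes from matrix groups
-/

set_option autoImplicit false
set_option linter.style.haveILetI false
set_option backward.isDefEq.respectTransparency.types false
universe u

open CategoryTheory Limits MonoidalCategory CartesianMonoidalCategory MonObj AlgebraicGeometry
open Groth.Agent.DiagGL

noncomputable section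

namespace Groth.Agent.TorPts21

open MatGrp21

variable {k : Type u} [Field k] {n : ℕ}

attribute [local instance] InvRing21.gamAlg

/-- The rational point as a point with values in `k`. -/
def gpt {G : Over (Spec (CommRingCat.of k))} (g : 𝟙_ (Over (Spec (CommRingCat.of k))) ⟶ G) : VecGrp.pt k k ⟶ G :=
  toUnit (VecGrp.pt k k) ≫ g

theorem exists_gpt {G : Over (Spec (CommRingCat.of k))} (y : VecGrp.pt k k ⟶ G) :
    ∃ g : 𝟙_ (Over (Spec (CommRingCat.of k))) ⟶ G, gpt g = y :=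
  ⟨InvRing21.toPt _ ≫ y, by rw [gpt, ← Category.assoc, InvRing21.comp_toPt, InvRing21.toPt_pt, Category.id_comp]⟩

section Conj

variable {G H : Over (Spec (CommRingCat.of k))} [GrpObj G]

theorem isMonHom_conjBy [GrpObj H] (g : 𝟙_ (Over (Spec (CommRingCat.of k))) ⟶ G) (i : H ⟶ G) [IsMonHom i] :
    IsMonHom (AGF.conjBy g i) := by
  have h := BorelFix21.isMonHom_conj i g⁻¹
  rwa [GrpObj.comp_inv, inv_inv] at h

theorem isClosedImmersion_conjBy (g : 𝟙_ (Over (Spec (CommRingCat.of k))) ⟶ G) (i : H ⟶ G)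
    [IsClosedImmersion i.left] : IsClosedImmersion (AGF.conjBy g i).left := by
  have h := BorelFix21.isClosedImmersion_conj i g⁻¹
  rwa [GrpObj.comp_inv, inv_inv] at h

theorem comp_conjBy {T : Over (Spec (CommRingCat.of k))} (g : 𝟙_ (Over (Spec (CommRingCat.of k))) ⟶ G) (i : H ⟶ G)
    (x : T ⟶ H) : x ≫ AGF.conjBy g i = (toUnit T ≫ g) * (x ≫ i) * (toUnit T ≫ g)⁻¹ := by
  simp only [AGF.conjBy, MonObj.comp_mul, GrpObj.comp_inv, comp_toUnit_assoc]

theorem mtxFn_conjBy (r : G ⟶ GLs k n) [IsMonHom r] (g : 𝟙_ (Over (Spec (CommRingCat.of k))) ⟶ G) (i : H ⟶ G)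
    (x : VecGrp.pt k k ⟶ H) :
    mtxFn (AGF.conjBy g i ≫ r) x = mtxFn r (gpt g) * mtxFn (i ≫ r) x * (mtxFn r (gpt g))⁻¹ := by
  rw [mtxFn_comp, mtxFn_comp, comp_conjBy, ← mtx_apply, ← mtx_apply, ← mtx_apply, map_mul, map_mul, map_inv]
  rfl

theorem range_conjBy [GrpObj H] (r : G ⟶ GLs k n) [IsMonHom r] (g : 𝟙_ (Over (Spec (CommRingCat.of k))) ⟶ G)
    (i : H ⟶ G) [IsMonHom i] (i' : H ⟶ G) [IsMonHom i'] (he : i' = AGF.conjBy g i) :
    (mtx (i' ≫ r)).range = (mtx (i ≫ r)).range.map (MulAut.conj (mtxFn r (gpt g))).toMonoidHom := by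
  subst he
  ext a
  simp only [MonoidHom.mem_range, Subgroup.mem_map, mtx_apply, mtxFn_conjBy, MulEquiv.coe_toMonoidHom,
    MulAut.conj_apply]
  exact ⟨fun ⟨x, hx⟩ => ⟨_, ⟨x, rfl⟩, hx⟩, fun ⟨_, ⟨x, hx⟩, h⟩ => ⟨x, hx ▸ h⟩⟩

end Conj

section Lift

variable [IsAlgClosed k] {G H X : Over (Spec (CommRingCat.of k))}

/-- A morphism from a smooth affine scheme whose rational points factor through a closed subscheme factors. -/
theorem exists_lift_of_pts [IsAffine G.left] [IsAffine X.left] [Smooth X.hom] (iH : H ⟶ G)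
    [IsClosedImmersion iH.left] (f : X ⟶ G) (h : ∀ x : VecGrp.pt k k ⟶ X, ∃ y : VecGrp.pt k k ⟶ H, y ≫ iH = x ≫ f) :
    ∃ f' : X ⟶ H, f' ≫ iH = f := by
  haveI : IsAffine H.left := (IsClosedImmersion.isAffine_surjective_of_isAffine iH.left).1
  let L := InvRing21.appAlg iH
  have hsurj : Function.Surjective L := (IsClosedImmersion.isAffine_surjective_of_isAffine iH.left).2
  have hker : ∀ a ∈ RingHom.ker L, InvRing21.appAlg f a = 0 := fun a ha => InvRing21.ext_val fun x => by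
    obtain ⟨y, hy⟩ := h x
    show InvRing21.val x (f.left.appTop a) = InvRing21.val x 0
    rw [InvRing21.appTop_val, ← hy, ← InvRing21.appTop_val,
      show iH.left.appTop a = 0 from ha, map_zero, map_zero]
  let ψ : Γ(H.left, ⊤) →ₐ[k] Γ(X.left, ⊤) := (Ideal.Quotient.liftₐ (RingHom.ker L) (InvRing21.appAlg f) hker).comp
    (Ideal.quotientKerAlgEquivOfSurjective hsurj).symm.toAlgHom
  have hψ : ψ.comp L = InvRing21.appAlg f := AlgHom.ext fun a => by
    show (Ideal.Quotient.liftₐ (RingHom.ker L) (InvRing21.appAlg f) hker)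
      ((Ideal.quotientKerAlgEquivOfSurjective hsurj).symm (L a)) = _
    rw [show L a = Ideal.quotientKerAlgEquivOfSurjective hsurj (Ideal.Quotient.mk _ a) from rfl,
      AlgEquiv.symm_apply_apply]
    rfl
  haveI : IsIso (InvRing21.uPt X).left := inferInstanceAs (IsIso X.left.isoSpec.inv)
  haveI : IsIso ((Over.forget _).map (InvRing21.uPt X)) := ‹_›
  haveI : IsIso (InvRing21.uPt X) := isIso_of_reflects_iso _ (Over.forget _)
  refine ⟨inv (InvRing21.uPt X) ≫ VecGrp.ptMap ψ ≫ InvRing21.uPt H, (cancel_epi (InvRing21.uPt X)).1 ?_⟩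
  rw [Category.assoc, IsIso.hom_inv_id_assoc, Category.assoc, ← InvRing21.ptMap_appAlg, ← InvRing21.ptMap_appAlg f,
    ← Category.assoc, show VecGrp.ptMap (R := k) ψ ≫ VecGrp.ptMap (InvRing21.appAlg iH) =
      VecGrp.ptMap (InvRing21.appAlg f) from ?_]
  refine Over.OverMorphism.ext ?_
  show Spec.map _ ≫ Spec.map _ = Spec.map _
  rw [← Spec.map_comp]
  exact congrArg (fun φ : Γ(G.left, ⊤) →ₐ[k] Γ(X.left, ⊤) => Spec.map (CommRingCat.ofHom φ.toRingHom)) hψ

variable [GrpObj G] [GrpObj H] [GrpObj X] (r : G ⟶ GLs k n) [IsMonHom r] [IsClosedImmersion r.left]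
  [IsAffine G.left]

/-- Subgroups are compared through their matrices. -/
theorem exists_lift_of_range_le [IsAffine X.left] [Smooth X.hom] (iX : X ⟶ G) [IsMonHom iX] (iH : H ⟶ G)
    [IsMonHom iH] [IsClosedImmersion iH.left] (h : (mtx (iX ≫ r)).range ≤ (mtx (iH ≫ r)).range) :
    ∃ f : X ⟶ H, f ≫ iH = iX ∧ IsMonHom f := by
  obtain ⟨f, hf⟩ := exists_lift_of_pts iH iX fun x => by
    obtain ⟨y, hy⟩ := h ⟨x, rfl⟩
    refine ⟨y, mtxFn_injective r ?_⟩
    rwa [mtx_comp, mtx_comp] at hy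
  haveI : Mono iH := Over.mono_of_mono_left iH
  exact ⟨f, hf, BorelFix21.isMonHom_of_comp iH f (hf.symm ▸ ‹IsMonHom iX›)⟩

theorem exists_iso_of_range_eq [IsAffine X.left] [Smooth X.hom] [IsAffine H.left] [Smooth H.hom] (iX : X ⟶ G)
    [IsMonHom iX] [IsClosedImmersion iX.left] (iH : H ⟶ G) [IsMonHom iH] [IsClosedImmersion iH.left]
    (h : (mtx (iX ≫ r)).range = (mtx (iH ≫ r)).range) : ∃ f : X ≅ H, f.hom ≫ iH = iX := by
  obtain ⟨f, hf, -⟩ := exists_lift_of_range_le r iX iH h.le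
  obtain ⟨g, hg, -⟩ := exists_lift_of_range_le r iH iX h.ge
  haveI : Mono iH := Over.mono_of_mono_left iH
  haveI : Mono iX := Over.mono_of_mono_left iX
  exact ⟨⟨f, g, (cancel_mono iX).1 (by rw [Category.assoc, hg, hf, Category.id_comp]),
    (cancel_mono iH).1 (by rw [Category.assoc, hf, hg, Category.id_comp])⟩, hf⟩

end Lift

section OfMatrix

variable [IsAlgClosed k]

omit [IsAlgClosed k] in
theorem mem_upper_of_isDiag {g : GL (Fin n) k} (h : (g : Matrix (Fin n) (Fin n) k).IsDiag) : g ∈ upper :=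
  mem_upper.2 fun a b hab => h (fun e => by subst e; omega)

omit [IsAlgClosed k] in
theorem saturated_of_irreducible {T : Subgroup (GL (Fin n) k)} (hirr : IsPreirreducible (T : Set (GL (Fin n) k)))
    (P : GL (Fin n) k) (e : T →* (Fin n → kˣ))
    (he : ∀ t : T, ∀ i, (e t i : k) = ((P * t.1 * P⁻¹ : GL (Fin n) k) : Matrix (Fin n) (Fin n) k) i i)
    (m : ℕ) (a : Fin n → ℤ) (hm : m ≠ 0) (hma : m • a ∈ rel e) : a ∈ rel e := by
  classical
  let e' : GL (Fin n) k → (Fin n → kˣ) := fun g => if h : g ∈ T then e ⟨g, h⟩ else 1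
  have heT : ∀ g : T, e' g.1 = e g := fun g => dif_pos g.2
  have hr : ∀ i, IsReg fun g : GL (Fin n) k =>
      ((P * g * P⁻¹ : GL (Fin n) k) : Matrix (Fin n) (Fin n) k) i i := fun i =>
    isReg_mul_entry (φ := fun g => P * g) (ψ := fun _ => P⁻¹)
      (isReg_mul_entry (φ := fun _ => P) (ψ := id) (fun _ _ => isReg_const _) isReg_id_entry)
      (fun _ _ => isReg_const _) i i
  have hr' : ∀ i, IsReg fun g : GL (Fin n) k =>
      ((P * g⁻¹ * P⁻¹ : GL (Fin n) k) : Matrix (Fin n) (Fin n) k) i i := fun i =>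
    isReg_mul_entry (φ := fun g => P * g⁻¹) (ψ := fun _ => P⁻¹)
      (isReg_mul_entry (φ := fun _ => P) (ψ := fun g => g⁻¹) (fun _ _ => isReg_const _) isReg_inv_entry)
      (fun _ _ => isReg_const _) i i
  obtain ⟨F, hF, hFv⟩ := isReg_monomial (e := e') (T : Set (GL (Fin n) k))
    (fun i => ⟨_, _, hr i, hr' i, fun g hg => by
      rw [heT ⟨g, hg⟩, he]
      refine ⟨rfl, ?_⟩
      rw [← Pi.inv_apply, ← map_inv, he]
      rfl⟩) a
  have hroot : ∀ g ∈ T, F g ^ m = 1 := fun g hg => by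
    rw [hFv g hg, heT ⟨g, hg⟩, ← Units.val_pow_eq_pow_val, ← toMul_nsmul, ← map_nsmul,
      (mem_rel e).1 hma ⟨g, hg⟩, toMul_zero, Units.val_one]
  have hcover : (T : Set (GL (Fin n) k)) ⊆ ⋃₀ (↑((Polynomial.nthRoots m (1 : k)).toFinset.image
      fun c : k => {g : GL (Fin n) k | F g = c}) : Set (Set (GL (Fin n) k))) := fun g hg => by
    refine Set.mem_sUnion.2 ⟨{x | F x = F g}, ?_, rfl⟩
    simp only [Finset.coe_image, Set.mem_image, Finset.mem_coe, Multiset.mem_toFinset]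
    exact ⟨F g, (Polynomial.mem_nthRoots (Nat.pos_of_ne_zero hm)).2 (hroot g hg), rfl⟩
  obtain ⟨Z, hZ, hTZ⟩ := isIrreducible_iff_sUnion_isClosed.1 ⟨⟨1, T.one_mem⟩, hirr⟩ _ (fun Z hZ => by
    obtain ⟨c, -, rfl⟩ := Finset.mem_image.1 hZ
    exact MatGrp21.isClosed_eq hF (isReg_const c)) hcover
  obtain ⟨c, -, rfl⟩ := Finset.mem_image.1 hZ
  refine (mem_rel _).2 fun g => ?_
  have h1 : F g.1 = F 1 := (hTZ g.2).trans (hTZ T.one_mem).symm
  rw [hFv g.1 g.2, hFv 1 T.one_mem, heT g, show e' 1 = e 1 from heT 1, map_one, pw_one] at h1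
  exact Additive.toMul.injective (Units.ext h1)

/-- A closed irreducible diagonalisable matrix group is the group of points of a split subtorus. -/
theorem exists_torus_subgroup {G : Over (Spec (CommRingCat.of k))} [GrpObj G] [IsAffine G.left] (r : G ⟶ GLs k n)
    [IsMonHom r] [IsClosedImmersion r.left] {T : Subgroup (GL (Fin n) k)} (hle : T ≤ (mtx r).range)
    (hcl : IsClosed (T : Set (GL (Fin n) k))) (hirr : IsPreirreducible (T : Set (GL (Fin n) k))) (P : GL (Fin n) k)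
    (hP : ∀ t ∈ T, ((P * t * P⁻¹ : GL (Fin n) k) : Matrix (Fin n) (Fin n) k).IsDiag) :
    ∃ (σ : Over (Spec (CommRingCat.of k))) (_ : GrpObj σ) (d : ℕ) (_ : Chars (Fin d → ℤ) σ) (s : σ ⟶ G)
      (_ : IsMonHom s), Mono s ∧ IsClosedImmersion s.left ∧ (mtx (s ≫ r)).range = T := by
  classical
  have hPu : ∀ t ∈ T, P * t * P⁻¹ ∈ upper := fun t ht => mem_upper_of_isDiag (hP t ht)
  let e : T →* (Fin n → kˣ) := MonoidHom.mk' (fun t => diagU ⟨_, hPu t.1 t.2⟩) fun a b => by
    rw [← map_mul]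
    congr 1
    refine Subtype.ext ?_
    show P * (a.1 * b.1) * P⁻¹ = (P * a.1 * P⁻¹) * (P * b.1 * P⁻¹)
    group
  have he : ∀ t : T, ∀ i, (e t i : k) = ((P * t.1 * P⁻¹ : GL (Fin n) k) : Matrix (Fin n) (Fin n) k) i i :=
    fun _ _ => rfl
  have hsat := saturated_of_irreducible hirr P e he
  haveI : IsAddTorsionFree ((Fin n → ℤ) ⧸ rel e) := ⟨fun m hm x y hxy => by
    obtain ⟨a, rfl⟩ := QuotientAddGroup.mk_surjective x
    obtain ⟨b, rfl⟩ := QuotientAddGroup.mk_surjective y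
    refine (QuotientAddGroup.eq).2 (hsat m _ hm ?_)
    rw [nsmul_add, smul_neg]
    exact QuotientAddGroup.eq.1 (by simpa only [← QuotientAddGroup.mk_nsmul] using hxy)⟩
  haveI : Module.Finite ℤ ((Fin n → ℤ) ⧸ rel e) :=
    Module.Finite.of_surjective (QuotientAddGroup.mk' (rel e)).toIntLinearMap (QuotientAddGroup.mk'_surjective _)
  let d := Module.finrank ℤ ((Fin n → ℤ) ⧸ rel e)
  let ε : ((Fin n → ℤ) ⧸ rel e) ≃+ (Fin d → ℤ) :=
    (Module.finBasis ℤ ((Fin n → ℤ) ⧸ rel e)).equivFun.toAddEquiv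
  let c : Fin n → (Fin d → ℤ) := fun j => ε (QuotientAddGroup.mk (Pi.single j 1))
  obtain ⟨σ, iσ, ⟨C⟩⟩ : ∃ (σ : Over (Spec (CommRingCat.of k))) (_ : GrpObj σ), Nonempty (Chars (Fin d → ℤ) σ) :=
    ⟨_, inferInstance, ⟨charsDiag k (Fin d → ℤ)⟩⟩
  haveI : Smooth σ.hom := smooth_of_chars C
  haveI : IsAffine σ.left := isAffine_of_chars C
  let Mt := matsGLn k n
  let F : ∀ {X : Over (Spec (CommRingCat.of k))}, (X ⟶ σ) → Matrix (Fin n) (Fin n) Γ(X.left, ⊤) := fun {X} x =>
    ((P⁻¹ : GL (Fin n) k) : Matrix (Fin n) (Fin n) k).map (alg X) *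
      Matrix.diagonal (fun j => C.ch x (Multiplicative.ofAdd (c j))) * (P : Matrix (Fin n) (Fin n) k).map (alg X)
  have hPP : ∀ X : Over (Spec (CommRingCat.of k)),
      ((P⁻¹ : GL (Fin n) k) : Matrix (Fin n) (Fin n) k).map (alg X) * (P : Matrix (Fin n) (Fin n) k).map (alg X) = 1 :=
    fun X => by rw [← Matrix.map_mul, Units.inv_mul, Matrix.map_one _ (map_zero _) (map_one _)]
  have hPP' : ∀ X : Over (Spec (CommRingCat.of k)),
      (P : Matrix (Fin n) (Fin n) k).map (alg X) * ((P⁻¹ : GL (Fin n) k) : Matrix (Fin n) (Fin n) k).map (alg X) = 1 :=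
    fun X => by rw [← Matrix.map_mul, Units.mul_inv, Matrix.map_one _ (map_zero _) (map_one _)]
  have Fmul : ∀ {X : Over (Spec (CommRingCat.of k))} (x y : X ⟶ σ), F (x * y) = F x * F y := fun {X} x y => by
    simp only [F, C.mul, ← Matrix.diagonal_mul_diagonal]
    simp only [Matrix.mul_assoc]
    rw [← Matrix.mul_assoc ((P : Matrix (Fin n) (Fin n) k).map (alg X)), hPP', Matrix.one_mul]
  have Fone : ∀ X : Over (Spec (CommRingCat.of k)), F (1 : X ⟶ σ) = 1 := fun X => by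
    simp only [F, C.one, Matrix.diagonal_one, Matrix.mul_one, hPP]
  obtain ⟨s₀, hs₀⟩ := Mt.surj (T := σ) (A := F (𝟙 σ))
    (IsUnit.of_mul_eq_one (F (𝟙 σ)⁻¹) (by rw [← Fmul, mul_inv_cancel, Fone]))
  have hnat : ∀ {X : Over (Spec (CommRingCat.of k))} (x : X ⟶ σ), Mt.mat (x ≫ s₀) = F x := fun {X} x => by
    rw [Mt.nat, hs₀]
    simp only [F, Matrix.map_mul, Matrix.map_map, Matrix.diagonal_map (map_zero _)]
    have ha : (x.left.appTop : _ → Γ(X.left, ⊤)) ∘ alg σ = alg X := funext fun c => alg_comp x c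
    rw [ha]
    congr 3
    funext j
    simp only [← C.nat, Category.comp_id]
  haveI : IsMonHom s₀ := TorsorSch25.isMonHom_of_points s₀ fun X x y => Mt.inj (by
    rw [Mt.mul, hnat, hnat, hnat, Fmul])
  -- the points
  have hpts : ∀ x : VecGrp.pt k k ⟶ σ, ((P * mtxFn s₀ x * P⁻¹ : GL (Fin n) k) : Matrix (Fin n) (Fin n) k) =
      Matrix.diagonal fun j => ptChr C x (Multiplicative.ofAdd (c j)) := fun x => by
    have hp : (InvRing21.ptHom (k := k) k : _ → k) ∘ alg (VecGrp.pt k k) = id := funext fun c =>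
      (InvRing21.ptHom k).commutes c
    rw [Units.val_mul, Units.val_mul, coe_mtxFn, mtxMat, show DiagGL.mat (x ≫ s₀) = _ from hnat x]
    simp only [F, Matrix.map_mul, Matrix.map_map, Matrix.diagonal_map (map_zero _), hp, Matrix.map_id]
    simp only [← Matrix.mul_assoc, Units.mul_inv, Matrix.one_mul]
    rw [Matrix.mul_assoc, Units.mul_inv, Matrix.mul_one]
    rfl
  have hrange : (mtx s₀).range = T := by
    refine le_antisymm ?_ fun t ht => ?_
    · rintro _ ⟨x, rfl⟩
      rw [mtx_apply]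
      let δ : Fin n → kˣ := fun j =>
        (ptChr C x).toHomUnits (Multiplicative.ofAdd (c j))
      have hδ : ∀ a ∈ rel e, pw δ a = 0 := fun a ha => by
        have h1 : pw δ = (MonoidHom.toAdditiveRight (ptChr C x).toHomUnits).comp
            (ε.toAddMonoidHom.comp (QuotientAddGroup.mk' (rel e))) :=
          pw_zsmul_eq δ _ fun i => rfl
        rw [h1]
        show MonoidHom.toAdditiveRight (ptChr C x).toHomUnits (ε (QuotientAddGroup.mk a)) = 0
        rw [(QuotientAddGroup.eq_zero_iff a).2 ha, map_zero, map_zero]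
      obtain ⟨S, hS⟩ := MatGrp21.isClosed_iff.1 hcl
      refine (hS _).2 fun p hp => ?_
      rw [← eval_backPoly P (mtxFn s₀ x) δ (hpts x)]
      refine eval_eq_zero_of_rel e _ (fun t => ?_) δ hδ
      rw [eval_backPoly P t.1 (e t) ?_]
      · exact (hS _).1 t.2 p hp
      · simp only [he]
        exact ((Matrix.isDiag_iff_diagonal_diag _).1 (hP t.1 t.2)).symm
    · have hδ : ∀ a ∈ rel e, pw (e ⟨t, ht⟩) a = 0 := fun a ha => (mem_rel e).1 ha _
      obtain ⟨x, hx⟩ := exists_ptChr C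
        ((chr e _ hδ).comp (AddMonoidHom.toMultiplicative ε.symm.toAddMonoidHom))
      refine ⟨x, ?_⟩
      rw [mtx_apply]
      have h2 : P * mtxFn s₀ x * P⁻¹ = P * t * P⁻¹ := by
        refine Units.ext ?_
        rw [hpts, ← ((Matrix.isDiag_iff_diagonal_diag _).1 (hP t ht))]
        congr 1
        funext j
        rw [hx]
        show chr e _ hδ (Multiplicative.ofAdd (ε.symm (ε (QuotientAddGroup.mk (Pi.single j 1))))) = _
        rw [AddEquiv.symm_apply_apply, chr_mk, pw_single]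
        rfl
      exact mul_left_cancel (mul_right_cancel h2)
  -- monomorphism
  haveI : Mono s₀ := ⟨fun {X} x y hxy => C.inj fun a => by
    have h1 : F x = F y := by rw [← hnat, ← hnat, hxy]
    have h2 : ∀ j, C.ch x (Multiplicative.ofAdd (c j)) = C.ch y (Multiplicative.ofAdd (c j)) := fun j => by
      have h3 := congrArg (fun A => (P : Matrix (Fin n) (Fin n) k).map (alg X) * A *
        ((P⁻¹ : GL (Fin n) k) : Matrix (Fin n) (Fin n) k).map (alg X)) h1
      simp only [F, ← Matrix.mul_assoc, hPP', Matrix.one_mul] at h3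
      simp only [Matrix.mul_assoc, hPP', Matrix.mul_one] at h3
      exact congrFun (Matrix.diagonal_injective h3) j
    let K : Subgroup (Multiplicative (Fin d → ℤ)) :=
      MonoidHom.eqLocus (C.ch x).toHomUnits (C.ch y).toHomUnits
    have hgen : ∀ a : Fin n → ℤ, Multiplicative.ofAdd (ε (QuotientAddGroup.mk a)) ∈ K := fun a => by
      rw [← Finset.univ_sum_single a]
      simp only [QuotientAddGroup.mk_sum, map_sum, ofAdd_sum]
      refine Subgroup.prod_mem K fun i _ => ?_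
      have e1 : (Pi.single i (a i) : Fin n → ℤ) = a i • Pi.single i 1 := by
        rw [← Pi.single_smul, smul_eq_mul, _root_.mul_one]
      rw [e1, QuotientAddGroup.mk_zsmul, map_zsmul, ofAdd_zsmul]
      exact K.zpow_mem (Units.ext (h2 i)) _
    obtain ⟨q, hq⟩ := ε.surjective (Multiplicative.toAdd a)
    obtain ⟨b, rfl⟩ := QuotientAddGroup.mk_surjective q
    have h4 := hgen b
    rw [hq] at h4
    exact congrArg Units.val h4⟩
  -- factor through `G`
  haveI : IsAffine (GLs k n).left := inferInstanceAs (IsAffine (Spec _))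
  obtain ⟨s, hs⟩ := exists_lift_of_pts r s₀ fun x => by
    obtain ⟨y, hy⟩ := hle (show mtx s₀ x ∈ T by rw [← hrange]; exact ⟨x, rfl⟩)
    refine ⟨y, mtxFn_injective (𝟙 (GLs k n)) ?_⟩
    rw [← mtxFn_comp, ← mtxFn_comp, Category.comp_id, Category.comp_id]
    exact hy
  haveI : Mono r := Over.mono_of_mono_left r
  haveI hsm : IsMonHom s := BorelFix21.isMonHom_of_comp r s (hs.symm ▸ ‹IsMonHom s₀›)
  haveI : Mono (s ≫ r) := hs.symm ▸ ‹Mono s₀›
  haveI : Mono s := mono_of_mono s r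
  haveI hci : IsClosedImmersion (s ≫ r).left := MTRigid29.isClosedImmersion_of_mono_split C (Iso.refl _) (s ≫ r)
  haveI : IsClosedImmersion (s.left ≫ r.left) := hci
  refine ⟨σ, inferInstance, d, C, s, hsm, ‹_›, IsClosedImmersion.of_comp s.left r.left, ?_⟩
  rw [← hrange]
  congr 1
  exact MonoidHom.ext fun x => by rw [mtx_apply, mtx_apply, hs]

end OfMatrix

end Groth.Agent.TorPts21
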