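import Groth.Agent.Lib.TorPts21.WeylFixed
import Groth.Agent.Lib.TorPts21.Structure
import Groth.Agent.Lib.TorPts21.UnipRadical
import Mathlib.GroupTheory.Abelianization.Defs

/-!
# The points of a reductive group are generated by those of its central torus and the commutators
-/

set_option autoImplicit false
set_option linter.style.haveILetI false
set_option backward.isDefEq.respectTransparency.types false
universe u

open CategoryTheory Limits MonoidalCategory CartesianMonoidalCategory MonObj AlgebraicGeometry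

noncomputable section

namespace Groth.Agent.TorPts21

open MatGrp21 InvRing21 DiagGL
open scoped Matrix

attribute [local instance] InvRing21.gamAlg BorelFix21.ptsTop

variable {k : Type u} [Field k]

section Chars

variable {σ : Over (Spec (CommRingCat.of k))} [GrpObj σ] {M : Type} [AddCommGroup M] (C : Chars M σ)

theorem ptChr_injective : Function.Injective (ptChr C) := fun _ _ h =>
  C.inj fun a => (BorelFix21.ptHom_bijective (k := k)).injective (DFunLike.congr_fun h a)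

theorem ptChr_mul (x y : VecGrp.pt k k ⟶ σ) (a : Multiplicative M) :
    ptChr C (x * y) a = ptChr C x a * ptChr C y a := by
  show InvRing21.ptHom k _ = InvRing21.ptHom k _ * InvRing21.ptHom k _
  rw [C.mul, map_mul]

theorem ptChr_pow (x : VecGrp.pt k k ⟶ σ) {n : ℕ} (hn : 0 < n) (a : Multiplicative M) :
    ptChr C (x ^ n) a = ptChr C x a ^ n := by
  induction n, hn using Nat.le_induction with
  | base => rw [pow_one, pow_one]
  | succ n _ ih => rw [pow_succ, ptChr_mul, ih, pow_succ]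

end Chars

theorem isMonHom_mul {S : Scheme.{u}} {A M : Over S} [GrpObj A] [GrpObj M] [IsCommMonObj M] (f g : A ⟶ M)
    [IsMonHom f] [IsMonHom g] : IsMonHom (f * g) where
  one_hom := by
    rw [MonObj.comp_mul, IsMonHom.one_hom, IsMonHom.one_hom, MonObj.one_eq_one, _root_.one_mul]
  mul_hom := by
    letI : CommMonoid ((A ⊗ A) ⟶ M) := Hom.commMonoid
    rw [MonObj.comp_mul, IsMonHom.mul_hom, IsMonHom.mul_hom, MonObj.mul_eq_mul, MonObj.comp_mul, MonObj.comp_mul,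
      MonObj.comp_mul]
    simp only [tensorHom_fst, tensorHom_snd, MonObj.comp_mul]
    exact mul_mul_mul_comm _ _ _ _

variable [IsAlgClosed k]

/-- The rational points of a torus form a divisible group. -/
theorem exists_pow_eq {T : Over (Spec (CommRingCat.of k))} [GrpObj T] (hT : Red.IsTorus T) {N : ℕ} (hN : 0 < N)
    (τ : VecGrp.pt k k ⟶ T) : ∃ τ' : VecGrp.pt k k ⟶ T, τ' ^ N = τ := by
  classical
  obtain ⟨d, ⟨C⟩⟩ := exists_chars hT
  let u : Multiplicative (Fin d → ℤ) →* kˣ := (ptChr C τ).toHomUnits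
  choose q hq using fun i : Fin d => IsAlgClosed.exists_pow_nat_eq ((u (Multiplicative.ofAdd (Pi.single i 1)) : kˣ) : k) hN
  have hq0 : ∀ i, q i ≠ 0 := fun i h => by
    have h1 := hq i
    rw [h, zero_pow (by omega)] at h1
    exact Units.ne_zero _ h1.symm
  let φ : Multiplicative (Fin d → ℤ) →* kˣ := MonoidHom.mk'
    (fun a => ∏ i, (Units.mk0 (q i) (hq0 i)) ^ (a.toAdd i)) fun a b => by
      simp only [toAdd_mul, Pi.add_apply, zpow_add, Finset.prod_mul_distrib]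
  obtain ⟨τ', hτ'⟩ := exists_ptChr C ((Units.coeHom k).comp φ)
  refine ⟨τ', ptChr_injective C (MonoidHom.ext fun a => ?_)⟩
  have key : φ a ^ N = u a := by
    have ha : a = ∏ i, (Multiplicative.ofAdd (Pi.single i (1 : ℤ) : Fin d → ℤ)) ^ (a.toAdd i) := by
      refine Multiplicative.toAdd.injective ?_
      simp only [toAdd_prod, toAdd_zpow, toAdd_ofAdd]
      funext j
      simp [Finset.sum_apply, Pi.single_apply]
    have hsingle : ∀ i, φ (Multiplicative.ofAdd (Pi.single i (1 : ℤ))) ^ N =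
        u (Multiplicative.ofAdd (Pi.single i 1)) := fun i => by
      refine Units.ext ?_
      simp [φ, Pi.single_apply, hq]
    rw [ha, map_prod, map_prod, ← Finset.prod_pow]
    refine Finset.prod_congr rfl fun i _ => ?_
    rw [map_zpow, map_zpow, ← hsingle i, ← zpow_natCast, ← zpow_natCast, ← zpow_mul, ← zpow_mul, mul_comm]
  rw [ptChr_pow C τ' hN, hτ']
  show ((φ a : kˣ) : k) ^ N = ptChr C τ a
  rw [← Units.val_pow_eq_pow_val, key]
  rfl

variable {G T : Over (Spec (CommRingCat.of k))} [GrpObj G] [GrpObj T] [IsAffine G.left] [Smooth G.hom]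
  [ConnectedSpace G.left]

set_option maxHeartbeats 4000000 in
/-- The product of all conjugates of a point of a maximal torus under its normaliser lies in a torus contained in a
normal solvable subgroup and is congruent to a power of the point modulo commutators. -/
theorem exists_radical_torus_norm {iT : T ⟶ G} (hT : AGF.IsMaxTorus iT) :
    ∃ (R : Over (Spec (CommRingCat.of k))) (_ : GrpObj R) (ρ : R ⟶ G) (S : Over (Spec (CommRingCat.of k)))
      (_ : GrpObj S) (iS : S ⟶ G) (N : ℕ), IsMonHom ρ ∧ IsClosedImmersion ρ.left ∧ Smooth R.hom ∧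
      ConnectedSpace R.left ∧ AlgGrp.IsNormalHom ρ ∧ Red.IsSolvableGrp R ∧ IsMonHom iS ∧
      IsClosedImmersion iS.left ∧ Red.IsTorus S ∧ 0 < N ∧ (∃ f : S ⟶ R, f ≫ ρ = iS) ∧
      ∀ τ : VecGrp.pt k k ⟶ T, ∃ (σ : VecGrp.pt k k ⟶ S) (τ₁ : VecGrp.pt k k ⟶ T), σ ≫ iS = τ₁ ≫ iT ∧
        ∀ (A : Type u) [CommGroup A] (ψ : (VecGrp.pt k k ⟶ T) →* A),
          (∀ n : VecGrp.pt k k ⟶ G,
            (∀ a : VecGrp.pt k k ⟶ T, ∃ a' : VecGrp.pt k k ⟶ T, n * (a ≫ iT) * n⁻¹ = a' ≫ iT) →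
            ∀ a a' : VecGrp.pt k k ⟶ T, n * (a ≫ iT) * n⁻¹ = a' ≫ iT → ψ a' = ψ a) →
          ψ τ₁ = ψ τ ^ N := by
  classical
  haveI := hT.1
  haveI := hT.2.1
  have htor := hT.2.2.1
  obtain ⟨hTa, hTs, hTc, -⟩ := props_of_isTorus htor
  haveI := hTa
  haveI := hTs
  haveI := hTc
  haveI := isClosedImmersion_of_torus htor iT
  obtain ⟨d, ⟨Ch⟩⟩ := exists_chars htor
  haveI : IsCommMonObj T := (isCommMonObj_iff_isMulCommutative T).2 fun X =>
    ⟨⟨fun x y => (commute_of_chars Ch x y).eq⟩⟩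
  letI : CommMonoid (T ⟶ T) := Hom.commMonoid
  letI : CommMonoid (VecGrp.pt k k ⟶ T) := Hom.commMonoid
  obtain ⟨m, r, hr, hrc⟩ := GrassAct21.exists_embedding_GL G
  haveI := hr
  haveI := hrc
  haveI : IsClosedImmersion (iT ≫ r).left := by rw [Over.comp_left]; infer_instance
  obtain ⟨P, wt, hP⟩ := exists_weights Ch (iT ≫ r)
  have hPinj : ∀ τ τ' : VecGrp.pt k k ⟶ T,
      (∀ j, ptChr Ch τ (Multiplicative.ofAdd (wt j)) = ptChr Ch τ' (Multiplicative.ofAdd (wt j))) → τ = τ' :=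
    fun τ τ' h => mtxFn_injective (iT ≫ r) (by
      have h1 : P * mtx (iT ≫ r) τ * P⁻¹ = P * mtx (iT ≫ r) τ' * P⁻¹ := Units.ext (by
        rw [hP, hP]; exact congrArg Matrix.diagonal (funext h))
      rw [← mtx_apply, ← mtx_apply]
      exact mul_left_cancel (mul_right_cancel h1))
  let Nm : Set (VecGrp.pt k k ⟶ G) :=
    {n | ∀ τ : VecGrp.pt k k ⟶ T, ∃ τ' : VecGrp.pt k k ⟶ T, n * (τ ≫ iT) * n⁻¹ = τ' ≫ iT}
  -- the action of a point of the normaliser through the weights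
  have hperm : ∀ n ∈ Nm, ∃ π : Fin m → Fin m, ∀ τ τ' : VecGrp.pt k k ⟶ T,
      n * (τ ≫ iT) * n⁻¹ = τ' ≫ iT → ∀ j, ptChr Ch τ' (Multiplicative.ofAdd (wt j)) =
        ptChr Ch τ (Multiplicative.ofAdd (wt (π j))) := by
    intro n _
    let Q : GL (Fin m) k := P * mtx r n * P⁻¹
    have hrow : ∀ j, ∃ j', (Q : Matrix (Fin m) (Fin m) k) j j' ≠ 0 := fun j => by
      by_contra! h
      have h1 : ((Q * Q⁻¹ : GL (Fin m) k) : Matrix (Fin m) (Fin m) k) j j = 0 := by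
        rw [Units.val_mul, Matrix.mul_apply]
        exact Finset.sum_eq_zero fun x _ => by rw [h x, zero_mul]
      rw [mul_inv_cancel, Units.val_one, Matrix.one_apply_eq] at h1
      exact one_ne_zero h1
    choose π hπ using hrow
    refine ⟨π, fun τ τ' h j => ?_⟩
    have h0 := congrArg (mtx r) h
    rw [map_mul, map_mul, map_inv, ← mtx_comp iT r, ← mtx_comp iT r] at h0
    have h1 : Q * (P * mtx (iT ≫ r) τ * P⁻¹) = (P * mtx (iT ≫ r) τ' * P⁻¹) * Q := by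
      rw [← h0]; simp only [Q]; group
    have h3 : Matrix.diagonal (fun j => ptChr Ch τ' (Multiplicative.ofAdd (wt j))) * (Q : Matrix (Fin m) (Fin m) k) =
        (Q : Matrix (Fin m) (Fin m) k) * Matrix.diagonal (fun j => ptChr Ch τ (Multiplicative.ofAdd (wt j))) := by
      rw [← hP τ', ← hP τ, ← Units.val_mul, ← Units.val_mul, h1]
    have h2 := congrFun (congrFun h3 j) (π j)
    rw [Matrix.diagonal_mul, Matrix.mul_diagonal,
      _root_.mul_comm _ (ptChr Ch τ (Multiplicative.ofAdd (wt (π j))))] at h2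
    exact mul_right_cancel₀ (hπ j) h2
  let Acts : (Fin m → Fin d → ℤ) → Prop := fun A => ∃ n ∈ Nm, ∀ τ τ' : VecGrp.pt k k ⟶ T,
      n * (τ ≫ iT) * n⁻¹ = τ' ≫ iT → ∀ j, ptChr Ch τ' (Multiplicative.ofAdd (wt j)) =
        ptChr Ch τ (Multiplicative.ofAdd (A j))
  have hfin : {A | Acts A}.Finite := by
    refine (Set.finite_range fun π : Fin m → Fin m => wt ∘ π).subset ?_
    rintro A ⟨n, hn, hA⟩
    obtain ⟨π, hπ⟩ := hperm n hn
    refine ⟨π, funext fun j => eq_of_forall_ptChr Ch fun τ => ?_⟩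
    obtain ⟨τ', hτ'⟩ := hn τ
    exact (hπ τ τ' hτ' j).symm.trans (hA τ τ' hτ' j)
  let Ω := {A // Acts A}
  haveI : Fintype Ω := hfin.fintype
  choose n hn hA using fun A : Ω => A.2
  choose n₀ hn₀ using fun A : Ω => exists_gpt (n A)
  replace hn₀ : ∀ A, toUnit (VecGrp.pt k k) ≫ n₀ A = n A := hn₀
  have hθex : ∀ A : Ω, ∃ θ : T ⟶ T, θ ≫ iT = AGF.conjBy (n₀ A) iT := fun A =>
    exists_lift_of_pts iT _ fun τ => by
      obtain ⟨τ', h⟩ := hn A τ
      exact ⟨τ', by rw [comp_conjBy, hn₀, h]⟩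
  choose θ hθ using hθex
  haveI : ∀ A, IsMonHom (θ A) := fun A => BorelFix21.isMonHom_of_comp iT _ (hθ A ▸ isMonHom_conjBy (n₀ A) iT)
  have hθτ : ∀ A τ, (τ ≫ θ A) ≫ iT = n A * (τ ≫ iT) * (n A)⁻¹ := fun A τ => by
    rw [Category.assoc, hθ, comp_conjBy, hn₀]
  let ν : T ⟶ T := ∏ A : Ω, θ A
  haveI : IsMonHom ν := by
    refine Finset.prod_induction _ IsMonHom (fun f g hf hg => ?_) ?_ fun A _ => inferInstance
    · haveI := hf
      haveI := hg
      exact isMonHom_mul f g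
    · exact inferInstanceAs (IsMonHom (1 : T ⟶ T))
  let pre : (τ : VecGrp.pt k k ⟶ T) → (T ⟶ T) →* (VecGrp.pt k k ⟶ T) := fun τ =>
    MonoidHom.mk' (fun f => τ ≫ f) fun f g => MonObj.comp_mul τ f g
  have hντ : ∀ τ : VecGrp.pt k k ⟶ T, τ ≫ ν = ∏ A : Ω, τ ≫ θ A := fun τ => map_prod (pre τ) _ _
  -- invariance
  have hinv : ∀ w ∈ Nm, ∀ τ, w * ((τ ≫ ν) ≫ iT) * w⁻¹ = (τ ≫ ν) ≫ iT := by
    intro w hw τ
    choose φ hφ using hw
    let φh : (VecGrp.pt k k ⟶ T) →* (VecGrp.pt k k ⟶ T) := MonoidHom.mk' φ fun a b => (cancel_mono iT).1 (by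
      rw [← hφ, MonObj.mul_comp, MonObj.mul_comp, ← hφ, ← hφ]; group)
    obtain ⟨π, hπ⟩ := hperm w fun τ => ⟨φ τ, hφ τ⟩
    have hact : ∀ A : Ω, Acts (A.1 ∘ π) := fun A => by
      refine ⟨w * n A, fun τ => ⟨φ (τ ≫ θ A), ?_⟩, fun τ τ' h j => ?_⟩
      · rw [← hφ, hθτ]; group
      · have h1 : w * ((τ ≫ θ A) ≫ iT) * w⁻¹ = τ' ≫ iT := by rw [← h, hθτ]; group
        rw [hπ _ _ h1 j, hA A τ (τ ≫ θ A) (hθτ A τ).symm]
        rfl
    let f : Ω → Ω := fun A => ⟨A.1 ∘ π, hact A⟩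
    have hfφ : ∀ A, τ ≫ θ (f A) = φ (τ ≫ θ A) := fun A => by
      refine hPinj _ _ fun j => ?_
      rw [hA (f A) τ _ (hθτ (f A) τ).symm, hπ _ _ (hφ (τ ≫ θ A)) j, hA A τ _ (hθτ A τ).symm]
      rfl
    have hfinj : Function.Injective f := fun A A' h => by
      refine Subtype.ext (funext fun j => eq_of_forall_ptChr Ch fun σ => ?_)
      have e1 : σ ≫ θ A = σ ≫ θ A' := by
        refine (cancel_mono iT).1 ?_
        have h1 : ∀ B : Ω, φ (σ ≫ θ B) = σ ≫ θ (f B) := fun B => hPinj _ _ fun j => by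
          rw [hA (f B) σ _ (hθτ (f B) σ).symm, hπ _ _ (hφ (σ ≫ θ B)) j, hA B σ _ (hθτ B σ).symm]
          rfl
        have h2 := congrArg (· ≫ iT) ((h1 A).trans ((congrArg (fun B => σ ≫ θ B) h).trans (h1 A').symm))
        simp only [← hφ] at h2
        exact mul_left_cancel (mul_right_cancel h2)
      rw [← hA A σ _ (hθτ A σ).symm, e1, hA A' σ _ (hθτ A' σ).symm]
    rw [hφ (τ ≫ ν)]
    congr 1
    show φh (τ ≫ ν) = τ ≫ ν
    rw [hντ, map_prod]
    exact Fintype.prod_bijective f (Finite.injective_iff_bijective.1 hfinj) _ _ fun A => (hfφ A).symm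
  -- the congruence
  have hcong : ∀ τ (A : Type u) [CommGroup A] (ψ : (VecGrp.pt k k ⟶ T) →* A),
      (∀ w ∈ Nm, ∀ a a' : VecGrp.pt k k ⟶ T, w * (a ≫ iT) * w⁻¹ = a' ≫ iT → ψ a' = ψ a) →
      ψ (τ ≫ ν) = ψ τ ^ Fintype.card Ω := fun τ A _ ψ hψ => by
    rw [hντ, map_prod, ← Finset.card_univ, ← Finset.prod_const]
    exact Finset.prod_congr rfl fun a _ => hψ (n a) (hn a) τ _ (hθτ a τ).symm
  -- the torus
  obtain ⟨W, _, w, p, hwm, hwc, hWr, hps, hpw⟩ := BorelFix21.exists_image (ν ≫ iT)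
  haveI := hwm
  haveI := hwc
  haveI := hWr
  haveI := hps
  haveI : IsAffine W.left := isAffine_of_isAffineHom w.left
  haveI : LocallyOfFiniteType W.hom := by rw [← Over.w w]; infer_instance
  haveI : Smooth W.hom := GrpSmooth19.smooth_of_isReduced W
  haveI : ConnectedSpace W.left := p.left.surjective.connectedSpace p.left.continuous
  haveI : IsClosedImmersion (w ≫ r).left := by rw [Over.comp_left]; infer_instance
  obtain ⟨Q, hQ⟩ := range_mtx_diag Ch (iT ≫ r)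
  have hWp : ∀ y : VecGrp.pt k k ⟶ W, ∃ τ, y ≫ w = (τ ≫ ν) ≫ iT := fun y => by
    obtain ⟨τ, rfl⟩ := BorelFix21.exists_pt_lift p y
    exact ⟨τ, by rw [Category.assoc, hpw, Category.assoc]⟩
  obtain ⟨S, _, d', C', iS, hSm, hSmono, hSc, hSr⟩ := exists_torus_subgroup r (range_le_range r w)
    (isClosed_range_mtx (w ≫ r)) (isPreirreducible_range_mtx' (w ≫ r)) Q (by
      rintro _ ⟨y, rfl⟩
      obtain ⟨τ, hτ⟩ := hWp y
      exact hQ _ ⟨τ ≫ ν, by rw [mtx_comp, mtx_comp, hτ]⟩)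
  haveI := hSm
  haveI := hSmono
  haveI := hSc
  have hS := isTorus_of_chars C'
  obtain ⟨hSa, hSs, hSn, hSsol⟩ := props_of_isTorus hS
  haveI := hSa
  haveI := hSs
  haveI := hSn
  have hSpts : ∀ σ : VecGrp.pt k k ⟶ S, ∃ τ, σ ≫ iS = (τ ≫ ν) ≫ iT := fun σ => by
    obtain ⟨y, hy⟩ := hSr.le ⟨σ, rfl⟩
    obtain ⟨τ, hτ⟩ := hWp y
    refine ⟨τ, ?_⟩
    rw [← hτ]
    refine mtxFn_injective r ?_
    rw [mtx_comp, mtx_comp, mtx_apply, mtx_apply] at hy
    exact hy.symm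
  have hptsS : ∀ τ, ∃ σ : VecGrp.pt k k ⟶ S, σ ≫ iS = (τ ≫ ν) ≫ iT := fun τ => by
    obtain ⟨σ, hσ⟩ := hSr.ge ⟨τ ≫ p, rfl⟩
    refine ⟨σ, mtxFn_injective r ?_⟩
    rw [mtx_comp, mtx_comp, Category.assoc τ p w, hpw, mtx_apply, mtx_apply, ← Category.assoc] at hσ
    exact hσ
  have hSfix : ∀ w ∈ Nm, ∀ σ : VecGrp.pt k k ⟶ S, w * (σ ≫ iS) = (σ ≫ iS) * w := fun w hw σ => by
    obtain ⟨τ, hτ⟩ := hSpts σ
    rw [hτ]
    exact mul_inv_eq_iff_eq_mul.1 (hinv w hw τ)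
  obtain ⟨s, hs⟩ := exists_lift_of_pts iT iS fun σ => by
    obtain ⟨τ, hτ⟩ := hSpts σ
    exact ⟨τ ≫ ν, hτ.symm⟩
  obtain ⟨B, _, iB, t, hB, ht⟩ := exists_borel_containing iT htor
  obtain ⟨hBm, hBc, hBs, hBn, hBsol, -⟩ := id hB
  haveI := hBm
  haveI := hBc
  haveI : Mono iB := Over.mono_of_mono_left iB
  haveI : IsAffine B.left := isAffine_of_isAffineHom iB.left
  haveI : IsClosedImmersion (iB ≫ r).left := by rw [Over.comp_left]; infer_instance
  have hmem := exists_pt_mem_borel_of_weyl_invariant hB hT t ht hS iS s hs hSfix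
  -- the normal solvable subgroup
  let Pc : Subgroup (VecGrp.pt k k ⟶ G) :=
    ⨅ g : VecGrp.pt k k ⟶ G, (mtx (iB ≫ r)).range.comap ((mtx r).comp (MulAut.conj g).toMonoidHom)
  have hPmem : ∀ x, x ∈ Pc ↔ ∀ g : VecGrp.pt k k ⟶ G, mtx r (g * x * g⁻¹) ∈ (mtx (iB ≫ r)).range := fun x => by
    simp [Pc, Subgroup.mem_iInf]
  have hPcl : IsClosed (Pc : Set (VecGrp.pt k k ⟶ G)) := by
    have he : (Pc : Set (VecGrp.pt k k ⟶ G)) =
        ⋂ g, (fun x => mtxFn r (g * x * g⁻¹)) ⁻¹' ((mtx (iB ≫ r)).range : Set (GL (Fin m) k)) := by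
      ext x
      simp only [SetLike.mem_coe, hPmem, mtx_apply, Set.mem_iInter, Set.mem_preimage]
    rw [he]
    refine isClosed_iInter fun g => (isClosed_range_mtx (iB ≫ r)).preimage ?_
    exact (continuous_mtxFn r).comp ((BorelFix21.continuous_mul_right g⁻¹).comp (BorelFix21.continuous_mul_left g))
  obtain ⟨R, _, ρ, hρm, hρc, hRs, hRn, hRP, hRuniv⟩ := exists_component_of_pts Pc hPcl
  haveI := hρm
  haveI := hρc
  haveI := hRs
  haveI := hRn
  haveI : IsAffine R.left := isAffine_of_isAffineHom ρ.left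
  haveI : Mono ρ := Over.mono_of_mono_left ρ
  have hnorm : AlgGrp.IsNormalHom ρ := isNormalHom_of_pts ρ fun g x => by
    obtain ⟨g₀, hg₀⟩ := exists_gpt g
    haveI := isMonHom_conjBy g₀ ρ
    obtain ⟨f, hf⟩ := hRuniv R (AGF.conjBy g₀ ρ) fun y => (hPmem _).2 fun h => by
      have hy := (hPmem _).1 (hRP y) (h * g)
      rwa [show h * (y ≫ AGF.conjBy g₀ ρ) * h⁻¹ = (h * g) * (y ≫ ρ) * (h * g)⁻¹ by
        rw [comp_conjBy, show toUnit (VecGrp.pt k k) ≫ g₀ = g from hg₀]; group]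
    exact ⟨x ≫ f, by rw [Category.assoc, hf, comp_conjBy, show toUnit (VecGrp.pt k k) ≫ g₀ = g from hg₀]⟩
  obtain ⟨ρB, hρB⟩ := exists_lift_of_pts iB ρ fun y => by
    have hy := (hPmem _).1 (hRP y) 1
    rw [_root_.one_mul, inv_one, _root_.mul_one] at hy
    obtain ⟨b, hb⟩ := hy
    refine ⟨b, mtxFn_injective r ?_⟩
    rwa [← mtx_apply, ← mtx_apply, ← mtx_comp]
  haveI : IsMonHom ρB := BorelFix21.isMonHom_of_comp iB ρB (hρB.symm ▸ hρm)
  haveI : Mono (ρB ≫ iB) := hρB.symm ▸ inferInstance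
  haveI : Mono ρB := mono_of_mono ρB iB
  obtain ⟨f, hf⟩ := hRuniv S iS fun σ => (hPmem _).2 fun g => by
    obtain ⟨b, hb⟩ := hmem g⁻¹ σ
    exact ⟨b, by rw [mtx_comp, hb, inv_inv]⟩
  refine ⟨R, inferInstance, ρ, S, inferInstance, iS, Fintype.card Ω, hρm, hρc, hRs, hRn, hnorm,
    isSolvableGrp_of_mono ρB hBsol, inferInstance, inferInstance, hS, ?_, ⟨f, hf⟩, fun τ => ?_⟩
  · refine Fintype.card_pos_iff.2 ⟨⟨wt, 1, fun τ => ⟨τ, by group⟩, fun τ τ' h j => ?_⟩⟩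
    rw [show τ' = τ from (cancel_mono iT).1 (by rw [← h]; group)]
  · obtain ⟨σ, hσ⟩ := hptsS τ
    exact ⟨σ, τ ≫ ν, hσ, hcong τ⟩

/-- The product of all conjugates of a point of a maximal torus under its normaliser lies in a central torus and is
congruent to a power of the point modulo commutators. -/
theorem exists_central_torus_norm (hG : Red.IsReductiveOver k G) {iT : T ⟶ G} (hT : AGF.IsMaxTorus iT) :
    ∃ (S : Over (Spec (CommRingCat.of k))) (_ : GrpObj S) (iS : S ⟶ G) (N : ℕ), IsMonHom iS ∧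
      IsClosedImmersion iS.left ∧ Red.IsTorus S ∧ 0 < N ∧
      (∀ (X : Over (Spec (CommRingCat.of k))) (g : X ⟶ G) (x : X ⟶ S), g * (x ≫ iS) = (x ≫ iS) * g) ∧
      ∀ τ : VecGrp.pt k k ⟶ T, ∃ (σ : VecGrp.pt k k ⟶ S) (τ₁ : VecGrp.pt k k ⟶ T), σ ≫ iS = τ₁ ≫ iT ∧
        ∀ (A : Type u) [CommGroup A] (ψ : (VecGrp.pt k k ⟶ T) →* A),
          (∀ n : VecGrp.pt k k ⟶ G,
            (∀ a : VecGrp.pt k k ⟶ T, ∃ a' : VecGrp.pt k k ⟶ T, n * (a ≫ iT) * n⁻¹ = a' ≫ iT) →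
            ∀ a a' : VecGrp.pt k k ⟶ T, n * (a ≫ iT) * n⁻¹ = a' ≫ iT → ψ a' = ψ a) →
          ψ τ₁ = ψ τ ^ N := by
  obtain ⟨R, _, ρ, S, _, iS, N, hρm, hρc, hRs, hRn, hnorm, hsol, hiSm, hiSc, hS, hN, ⟨f, hf⟩, h⟩ :=
    exists_radical_torus_norm hT
  haveI := hρm
  haveI := hρc
  haveI := hRs
  haveI := hRn
  obtain ⟨-, hcentral⟩ := torus_of_normal_solvable hG hnorm hsol
  refine ⟨S, inferInstance, iS, N, hiSm, hiSc, hS, hN, fun X g x => ?_, h⟩
  rw [← hf, ← Category.assoc x f ρ]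
  exact hcentral X g (x ≫ f)

/-- The points of a reductive group are generated by those of a central torus and the commutators. -/
theorem exists_central_torus_decomp (hG : Red.IsReductiveOver k G) :
    ∃ (S : Over (Spec (CommRingCat.of k))) (_ : GrpObj S) (iS : S ⟶ G), IsMonHom iS ∧
      IsClosedImmersion iS.left ∧ Red.IsTorus S ∧
      (∀ (X : Over (Spec (CommRingCat.of k))) (g : X ⟶ G) (x : X ⟶ S), g * (x ≫ iS) = (x ≫ iS) * g) ∧
      ∀ g : VecGrp.pt k k ⟶ G, ∃ σ : VecGrp.pt k k ⟶ S, g * (σ ≫ iS)⁻¹ ∈ commutator (VecGrp.pt k k ⟶ G) := by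
  obtain ⟨T, _, iT, hT⟩ := exists_maxTorus G
  haveI := hT.1
  obtain ⟨S, _, iS, N, hm, hc, hS, hN, hcen, hnorm⟩ := exists_central_torus_norm hG hT
  haveI := hm
  let ψ : (VecGrp.pt k k ⟶ G) →* Abelianization (VecGrp.pt k k ⟶ G) := Abelianization.of
  let iSh : (VecGrp.pt k k ⟶ S) →* (VecGrp.pt k k ⟶ G) :=
    MonoidHom.mk' (fun f => f ≫ iS) fun f g => MonObj.mul_comp f g iS
  let P : Subgroup (VecGrp.pt k k ⟶ G) := ((ψ.comp iSh).range).comap ψ
  haveI : P.Normal := Subgroup.Normal.comap inferInstance ψ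
  obtain ⟨U, _, u, hU, -⟩ := exists_unipotentRadical_connected G
  obtain ⟨hum, huc, hun, hus, -, hucon, huns, -⟩ := (isUnipotentRadical_iff u).1 hU
  haveI := hum
  have htriv := hG.2.2.2 U u huc hus hucon hun huns
  have hPtop : P = ⊤ := eq_top_of_cartan hU hT P (fun τ => by
    obtain ⟨τ', rfl⟩ := exists_pow_eq hT.2.2.1 hN τ
    obtain ⟨σ, τ₁, hσ, hτ₁⟩ := hnorm τ'
    refine ⟨σ, ?_⟩
    let iTh : (VecGrp.pt k k ⟶ T) →* (VecGrp.pt k k ⟶ G) :=
      MonoidHom.mk' (fun f => f ≫ iT) fun f g => MonObj.mul_comp f g iT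
    show ψ (σ ≫ iS) = (ψ.comp iTh) (τ' ^ N)
    rw [map_pow, ← hτ₁ _ (ψ.comp iTh) (fun w _ a a' h => by
      show ψ (a' ≫ iT) = ψ (a ≫ iT)
      rw [← h, map_mul, map_mul, map_inv, mul_inv_cancel_comm]), hσ]
    rfl)
    fun w => by rw [eq_one_of_isTrivialGrp htriv w, MonObj.one_comp]; exact P.one_mem
  refine ⟨S, inferInstance, iS, hm, hc, hS, hcen, fun g => ?_⟩
  obtain ⟨σ, hσ⟩ : g ∈ P := hPtop ▸ Subgroup.mem_top g
  refine ⟨σ, ?_⟩
  rw [← Abelianization.ker_of (G := (VecGrp.pt k k ⟶ G)), MonoidHom.mem_ker, map_mul, map_inv]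
  rw [mul_inv_eq_one]
  exact hσ.symm

/-- The points of a semisimple group form a perfect group. -/
theorem commutator_eq_top (hG : Red.IsSemisimpleOver k G) : commutator (VecGrp.pt k k ⟶ G) = ⊤ := by
  obtain ⟨S, _, iS, hm, hc, hS, hcen, hdec⟩ := exists_central_torus_decomp hG.1
  haveI := hm
  have hn : AlgGrp.IsNormalHom iS := fun X g x => ⟨x, by rw [hcen X g x, mul_inv_cancel_right]⟩
  have htriv := hG.2 S iS hc hn hS
  refine Subgroup.ext fun g => ⟨fun _ => trivial, fun _ => ?_⟩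
  obtain ⟨σ, hσ⟩ := hdec g
  rwa [eq_one_of_isTrivialGrp htriv σ, MonObj.one_comp, inv_one, _root_.mul_one] at hσ

end Groth.Agent.TorPts21
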