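import Groth.Agent.Lib.TorPts21.Isogeny

/-!
# Normal subgroups of reductive groups over a field
-/

set_option autoImplicit false
set_option linter.style.haveILetI false
set_option backward.isDefEq.respectTransparency.types false
universe u

open CategoryTheory Limits MonoidalCategory CartesianMonoidalCategory MonObj AlgebraicGeometry

noncomputable section

namespace Groth.Agent.TorPts21

/-- Semisimple groups are reductive. -/
theorem isReductive_of_isSemisimple {S : Scheme.{u}} {G : Over S} [GrpObj G] (hG : Red.IsSemisimple G) :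
    Red.IsReductive G := ⟨hG.1, hG.2.1, fun s => (hG.2.2 s).1⟩

/-- A commutative group is solvable. -/
theorem isSolvableGrp_of_comm {S : Scheme.{u}} (H : Over S) [GrpObj H]
    (h : ∀ (X : Over S) (a b : X ⟶ H), a * b = b * a) : Red.IsSolvableGrp H :=
  ⟨1, fun X => by
    rw [derivedSeries_one, commutator_def, Subgroup.commutator_eq_bot_iff_le_centralizer]
    intro a _
    rw [Subgroup.mem_centralizer_iff]
    exact fun b _ => h X b a⟩

variable {k : Type u} [Field k] {G : Over (Spec (CommRingCat.of k))} [GrpObj G]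
  {N : Over (Spec (CommRingCat.of k))} [GrpObj N] [Smooth N.hom] [ConnectedSpace N.left] {i : N ⟶ G} [IsMonHom i]
  [IsClosedImmersion i.left]

set_option maxHeartbeats 800000 in
/-- A connected solvable normal subgroup of a reductive group is a torus. -/
theorem isTorus_of_normal_solvable_field (hG : Red.IsReductive G) (hn : AlgGrp.IsNormalHom i)
    (hsol : Red.IsSolvableGrp N) :
    Red.IsTorus N ∧ ∀ (X : Over (Spec (CommRingCat.of k))) (g : X ⟶ G) (x : X ⟶ N), g * (x ≫ i) = (x ≫ i) * g := by
  obtain ⟨hGa, hGs, hGc⟩ := props_of_isReductive hG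
  haveI := hGa
  haveI := hGs
  haveI := hGc
  let s₀ : Spec (CommRingCat.of k) := IsLocalRing.closedPoint k
  let φ := Red.geomPt s₀
  haveI : IsAffine (Red.bc φ G).left := BorelFix21.isAffine_bc _ G
  haveI : Smooth (Red.bc φ G).hom := BorelFix21.smooth_bc _ G
  haveI : ConnectedSpace (Red.bc φ G).left := BorelFix21.connectedSpace_bc _ G
  haveI : Smooth (Red.bc φ N).hom := BorelFix21.smooth_bc _ N
  haveI : ConnectedSpace (Red.bc φ N).left := BorelFix21.connectedSpace_bc _ N
  haveI : IsClosedImmersion ((Over.pullback φ).map i).left := BorelFix21.isClosedImmersion_bc φ i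
  obtain ⟨hT, hc⟩ := torus_of_normal_solvable (hG.2.2 _) (isNormalHom_bc φ hn) (isSolvableGrp_bc φ hsol)
  refine ⟨isTorus_of_bc φ hT, fun X g x => eq_of_bc φ _ _ ?_⟩
  rw [Functor.map_mul, Functor.map_mul, Functor.map_comp]
  exact hc _ _ _

set_option maxHeartbeats 800000 in
/-- A connected solvable normal subgroup of a semisimple group is trivial. -/
theorem isTrivialGrp_of_normal_solvable_field (hG : Red.IsSemisimple G) (hn : AlgGrp.IsNormalHom i)
    (hsol : Red.IsSolvableGrp N) : Red.IsTrivialGrp N := by
  obtain ⟨hGa, hGs, hGc⟩ := props_of_isReductive (isReductive_of_isSemisimple hG)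
  haveI := hGa
  haveI := hGs
  haveI := hGc
  let s₀ : Spec (CommRingCat.of k) := IsLocalRing.closedPoint k
  let φ := Red.geomPt s₀
  haveI : IsAffine (Red.bc φ G).left := BorelFix21.isAffine_bc _ G
  haveI : Smooth (Red.bc φ G).hom := BorelFix21.smooth_bc _ G
  haveI : ConnectedSpace (Red.bc φ G).left := BorelFix21.connectedSpace_bc _ G
  haveI : Smooth (Red.bc φ N).hom := BorelFix21.smooth_bc _ N
  haveI : ConnectedSpace (Red.bc φ N).left := BorelFix21.connectedSpace_bc _ N
  haveI : IsClosedImmersion ((Over.pullback φ).map i).left := BorelFix21.isClosedImmersion_bc φ i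
  exact isTrivialGrp_of_bc φ
    (isTrivialGrp_of_normal_solvable (hG.2.2 _) (isNormalHom_bc φ hn) (isSolvableGrp_bc φ hsol))

end Groth.Agent.TorPts21
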