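import Groth.Agent.Lib.TorPts21.DetTrick
import Groth.Agent.Lib.TorPts21.StructureField
import Groth.Agent.Lib.TorPts21.RadicalImage
import Groth.Agent.Lib.AbRigid.FlatFibre
import Groth.Agent.Lib.FpqcDesc.Basic

/-!
# Semisimple groups have no commutative quotients; quotients of semisimple groups
-/

set_option autoImplicit false
set_option linter.style.haveILetI false
set_option backward.isDefEq.respectTransparency.types false
universe u

open CategoryTheory Limits MonoidalCategory CartesianMonoidalCategory MonObj AlgebraicGeometry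
open Groth.Agent.DiagGL Groth.Agent.AlgGrpBasic19 Groth.Agent.MultAct19

noncomputable section

namespace Groth.Agent.TorPts21

attribute [local instance] InvRing21.gamAlg BorelFix21.ptsTop

section Closed

variable {k : Type u} [Field k] [IsAlgClosed k]

/-- A homomorphism from a reduced group of finite type which kills the rational points is trivial. -/
theorem eq_one_of_forall_pts {G Q : Over (Spec (CommRingCat.of k))} [GrpObj Q] [IsReduced G.left]
    [LocallyOfFiniteType G.hom] (f : G ⟶ Q) (h : ∀ x : VecGrp.pt k k ⟶ G, x ≫ f = 1) : f = 1 := by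
  haveI : IsSeparated Q.hom := AbRigid.isSeparated_of_grpObj Q
  haveI : IsClosedImmersion η[Q].left := isClosedImmersion_of_comp_eq_id Q.hom η[Q].left (Over.w η[Q])
  let p := pullback.fst f.left η[Q].left
  haveI : IsClosedImmersion p := MorphismProperty.pullback_fst _ _ ‹IsClosedImmersion η[Q].left›
  haveI : Surjective p := ⟨fun z => by
    by_contra hz
    obtain ⟨x, hx⟩ := BorelFix21.exists_pt_mem (G := G) (Z := (Set.range p)ᶜ)
      p.isClosedEmbedding.isClosed_range.isOpen_compl.isLocallyClosed ⟨z, hz⟩
    refine hx ?_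
    rw [Scheme.Pullback.range_fst]
    show f.left (InvRing21.img x) ∈ Set.range η[Q].left
    exact ⟨_, (congrArg (fun q : VecGrp.pt k k ⟶ Q => InvRing21.img q) (h x)).symm⟩⟩
  haveI : IsIso p := isIso_of_isClosedImmersion_of_surjective p
  have hf : f.left = inv p ≫ pullback.snd f.left η[Q].left ≫ η[Q].left := by
    rw [← pullback.condition, IsIso.inv_hom_id_assoc]
  have he : inv p ≫ pullback.snd f.left η[Q].left = (toUnit G).left := by
    have h1 := congrArg (fun q : G.left ⟶ Q.left => q ≫ Q.hom) hf
    simp only [Category.assoc, Over.w] at h1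
    have h2 : inv p ≫ pullback.snd f.left η[Q].left ≫ 𝟙 _ = G.hom := h1.symm
    rw [Category.comp_id] at h2
    refine h2.trans ?_
    exact ((Category.comp_id _).symm.trans (Over.w (toUnit G))).symm
  refine Over.OverMorphism.ext ?_
  rw [hf, ← Category.assoc, he]
  rfl

variable {G H : Over (Spec (CommRingCat.of k))} [GrpObj G] [GrpObj H]

/-- The rational points of a semisimple group map trivially to commutative groups. -/
theorem comp_eq_one_of_comm [IsAffine G.left] [Smooth G.hom] [ConnectedSpace G.left] (hG : Red.IsSemisimpleOver k G)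
    (f : G ⟶ H) [IsMonHom f] (hH : ∀ a b : VecGrp.pt k k ⟶ H, a * b = b * a) (x : VecGrp.pt k k ⟶ G) :
    x ≫ f = 1 := by
  let F : (VecGrp.pt k k ⟶ G) →* (VecGrp.pt k k ⟶ H) :=
    MonoidHom.mk' (fun y => y ≫ f) fun a b => MonObj.mul_comp a b f
  have hle : commutator (VecGrp.pt k k ⟶ G) ≤ F.ker := by
    rw [commutator_def, Subgroup.commutator_le]
    intro a _ b _
    rw [MonoidHom.mem_ker, map_commutatorElement, commutatorElement_eq_one_iff_mul_comm]
    exact hH _ _
  exact hle (commutator_eq_top hG ▸ Subgroup.mem_top x)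

set_option maxHeartbeats 800000 in
/-- A reductive group whose points are products of commutators is semisimple. -/
theorem isSemisimpleOver_of_perfect [IsAffine G.left] [Smooth G.hom] [ConnectedSpace G.left]
    (hG : Red.IsReductiveOver k G) (h : commutator (VecGrp.pt k k ⟶ G) = ⊤) : Red.IsSemisimpleOver k G := by
  refine ⟨hG, fun T _ i _ hic hin hT => ?_⟩
  haveI := hic
  obtain ⟨hTa, hTs, hTc, hTsol⟩ := props_of_isTorus hT
  haveI := hTa
  haveI := hTs
  haveI := hTc
  haveI : Mono i := Over.mono_of_mono_left i
  obtain ⟨-, hcen⟩ := torus_of_normal_solvable hG hin hTsol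
  exact isTrivialGrp_of_pts fun σ =>
    eq_one_of_le_commutator hT i (fun g x => hcen _ g x) (fun x => h ▸ Subgroup.mem_top _) σ

set_option maxHeartbeats 800000 in
/-- A flat quotient of a reductive group which is perfect on points is semisimple. -/
theorem isSemisimpleOver_quotient [IsAffine G.left] [Smooth G.hom] [ConnectedSpace G.left] [LocallyOfFiniteType H.hom]
    [QuasiCompact H.hom] (π : G ⟶ H) [IsMonHom π] [Flat π.left] [Surjective π.left] (hG : Red.IsReductiveOver k G)
    (h : ∀ g : VecGrp.pt k k ⟶ G, ∃ g' ∈ commutator (VecGrp.pt k k ⟶ G), g ≫ π = g' ≫ π) :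
    Red.IsSemisimpleOver k H := by
  have hH := isReductiveOver_quotient π hG
  obtain ⟨hHa, hHs, hHc, -⟩ := id hH
  haveI := hHa
  haveI := hHs
  haveI := hHc
  refine isSemisimpleOver_of_perfect hH (eq_top_iff.2 fun y _ => ?_)
  obtain ⟨g, rfl⟩ := BorelFix21.exists_pt_lift π y
  obtain ⟨g', hg', he⟩ := h g
  rw [he]
  let F : (VecGrp.pt k k ⟶ G) →* (VecGrp.pt k k ⟶ H) :=
    MonoidHom.mk' (fun y => y ≫ π) fun a b => MonObj.mul_comp a b π
  have hm : (commutator (VecGrp.pt k k ⟶ G)).map F ≤ commutator (VecGrp.pt k k ⟶ H) := by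
    rw [commutator_def, commutator_def, Subgroup.map_commutator]
    exact Subgroup.commutator_mono le_top le_top
  exact hm ⟨g', hg', rfl⟩

end Closed

section Field

variable {k : Type u} [Field k] {G G' : Over (Spec (CommRingCat.of k))} [GrpObj G] [GrpObj G']

/-- Commutativity passes to base changes. -/
theorem mul_comm_bc {S S' : Scheme.{u}} (ψ : S' ⟶ S) {H : Over S} [GrpObj H] [IsCommMonObj H] {X : Over S'}
    (a b : X ⟶ Red.bc ψ H) : a * b = b * a := by
  refine fl_injective ψ H ?_
  rw [fl_mul, fl_mul]
  letI := Hom.commMonoid (M := H) (X := (Over.map ψ).obj X)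
  exact _root_.mul_comm _ _

set_option maxHeartbeats 800000 in
/-- A semisimple group has no nontrivial homomorphisms to commutative groups. -/
theorem hom_to_comm_eq_one (hG : Red.IsSemisimple G) {H : Over (Spec (CommRingCat.of k))} [GrpObj H]
    [IsCommMonObj H] (f : G ⟶ H) [IsMonHom f] : f = 1 := by
  obtain ⟨hGa, hGs, hGc⟩ := props_of_isReductive (isReductive_of_isSemisimple hG)
  haveI := hGa
  haveI := hGs
  haveI := hGc
  let s₀ : Spec (CommRingCat.of k) := IsLocalRing.closedPoint k
  let φ := Red.geomPt s₀
  haveI : IsAffine (Red.bc φ G).left := BorelFix21.isAffine_bc _ G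
  haveI : Smooth (Red.bc φ G).hom := BorelFix21.smooth_bc _ G
  haveI : ConnectedSpace (Red.bc φ G).left := BorelFix21.connectedSpace_bc _ G
  haveI : IsReduced (Red.bc φ G).left := OrbitTop19.isReduced_of_smooth (Red.bc φ G).hom
  refine eq_of_bc φ _ _ ?_
  have h1 : (Over.pullback φ).map f = 1 := eq_one_of_forall_pts _ fun x =>
    comp_eq_one_of_comm (hG.2.2 _) ((Over.pullback φ).map f) (fun a b => mul_comm_bc φ a b) x
  rw [h1, Functor.map_one]

set_option maxHeartbeats 1600000 in
/-- A quotient of a reductive group is semisimple as soon as its geometric points are images of commutators. -/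
theorem isSemisimple_of_surjective (hG : Red.IsReductive G) [Smooth G'.hom] (q : G ⟶ G') [IsMonHom q]
    [Surjective q.left]
    (h : ∀ (s : ↥(Spec (CommRingCat.of k)))
        (g : VecGrp.pt (AlgebraicClosure ((Spec (CommRingCat.of k)).residueField s))
          (AlgebraicClosure ((Spec (CommRingCat.of k)).residueField s)) ⟶ Red.geomFibre s G),
      ∃ g' ∈ commutator (VecGrp.pt (AlgebraicClosure ((Spec (CommRingCat.of k)).residueField s))
          (AlgebraicClosure ((Spec (CommRingCat.of k)).residueField s)) ⟶ Red.geomFibre s G),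
        g ≫ (Over.pullback (Red.geomPt s)).map q = g' ≫ (Over.pullback (Red.geomPt s)).map q) :
    Red.IsSemisimple G' := by
  obtain ⟨hGa, hGs, hGc⟩ := props_of_isReductive hG
  haveI := hGa
  haveI := hGs
  haveI := hGc
  haveI : IsReduced G'.left := OrbitTop19.isReduced_of_smooth G'.hom
  haveI : Flat q.left := AbRigid.flat_of_surjective_of_isReduced G G' q
  haveI : CompactSpace G'.left :=
    ⟨by rw [← q.left.surjective.range_eq]; exact isCompact_range q.left.continuous⟩
  haveI : QuasiCompact G'.hom := (quasiCompact_iff_compactSpace _).2 inferInstance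
  have key : ∀ s : ↥(Spec (CommRingCat.of k)),
      Red.IsSemisimpleOver (AlgebraicClosure ((Spec (CommRingCat.of k)).residueField s)) (Red.geomFibre s G') := by
    intro s
    haveI : IsAffine (Red.geomFibre s G).left := BorelFix21.isAffine_bc _ G
    haveI : Smooth (Red.geomFibre s G).hom := BorelFix21.smooth_bc _ G
    haveI : ConnectedSpace (Red.geomFibre s G).left := BorelFix21.connectedSpace_bc _ G
    haveI : Smooth (Red.geomFibre s G').hom := BorelFix21.smooth_bc _ G'
    haveI : QuasiCompact (Red.geomFibre s G').hom :=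
      inferInstanceAs (QuasiCompact (pullback.snd G'.hom (Red.geomPt s)))
    have sq : IsPullback ((Over.pullback (Red.geomPt s)).map q).left (pullback.fst G.hom (Red.geomPt s))
        (pullback.fst G'.hom (Red.geomPt s)) q.left := by
      refine (IsPullback.of_bot ?_ (pullback.lift_fst _ _ _).symm
        (IsPullback.of_hasPullback G'.hom (Red.geomPt s))).flip
      rw [pullback.lift_snd, Over.w q]
      exact IsPullback.of_hasPullback G.hom (Red.geomPt s)
    haveI : Flat ((Over.pullback (Red.geomPt s)).map q).left :=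
      MorphismProperty.of_isPullback (P := @Flat) sq.flip ‹_›
    haveI : Surjective ((Over.pullback (Red.geomPt s)).map q).left :=
      MorphismProperty.of_isPullback (P := @Surjective) sq.flip ‹_›
    exact isSemisimpleOver_quotient _ (hG.2.2 s) (h s)
  refine ⟨?_, inferInstance, key⟩
  let s₀ : Spec (CommRingCat.of k) := IsLocalRing.closedPoint k
  haveI := (key s₀).1.1
  haveI : IsAffineHom (Red.geomFibre s₀ G').hom := inferInstance
  haveI : Surjective (Red.geomPt s₀) := ⟨fun z => ⟨IsLocalRing.closedPoint _, Subsingleton.elim _ _⟩⟩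
  haveI := FpqcDesc.descendsAlong_isAffineHom
  exact MorphismProperty.of_pullback_snd_of_descendsAlong (P := @IsAffineHom)
    (Q := @Surjective ⊓ @Flat ⊓ @QuasiCompact) ⟨⟨inferInstance, inferInstance⟩, inferInstance⟩
    (f := G'.hom) (g := Red.geomPt s₀) (by exact ‹IsAffineHom (Red.geomFibre s₀ G').hom›)

end Field

end Groth.Agent.TorPts21
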