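import Groth.Agent.Lib.TorPts21.BorelCentre
import Groth.Agent.Lib.TorPts21.SemisimpleField
import Groth.Agent.Lib.TorPts21.GenPoints
import Groth.Agent.Lib.BorelFix21.LieKolchin
import Groth.Agent.Lib.TopDimLib.Basic

/-!
# Connected solvable groups of dimension one are commutative
-/

set_option autoImplicit false
set_option linter.style.haveILetI false
set_option backward.isDefEq.respectTransparency.types false
universe u

open CategoryTheory Limits MonoidalCategory CartesianMonoidalCategory MonObj AlgebraicGeometry
open TopologicalSpace Groth.Agent.TopDimLib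
open scoped commutatorElement

noncomputable section

namespace Groth.Agent.TorPts21

attribute [local instance] InvRing21.gamAlg BorelFix21.ptsTop

variable {k : Type u} [Field k] [IsAlgClosed k] {B : Over (Spec (CommRingCat.of k))} [GrpObj B] [IsAffine B.left]

omit [GrpObj B] in
/-- The points of an affine scheme have closed singletons. -/
theorem isClosed_singleton_pt (x : VecGrp.pt k k ⟶ B) : IsClosed ({x} : Set (VecGrp.pt k k ⟶ B)) := by
  have : ({x} : Set (VecGrp.pt k k ⟶ B)) = ⋂ F, {y | InvRing21.val y F = InvRing21.val x F} := by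
    refine Set.ext fun y => ⟨fun h => Set.mem_iInter.2 fun F => ?_, fun h => ?_⟩
    · rw [Set.mem_singleton_iff.1 h]; exact rfl
    · exact ext_of_val (AlgHom.ext fun F => Set.mem_iInter.1 h F)
  rw [this]
  exact isClosed_iInter fun F => BorelFix21.isClosed_val_eq F _

omit [GrpObj B] in
/-- A rational point is determined by its image. -/
theorem img_inj {x y : VecGrp.pt k k ⟶ B} (h : InvRing21.img x = InvRing21.img y) : x = y := by
  by_contra hne
  have hc := isClosed_singleton_pt x
  obtain ⟨C, hC, hCx⟩ := isClosed_induced_iff.1 hc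
  have h1 : InvRing21.img x ∈ C := by
    have : x ∈ InvRing21.img ⁻¹' C := hCx ▸ Set.mem_singleton x
    exact this
  have h2 : y ∈ InvRing21.img ⁻¹' C := show InvRing21.img y ∈ C from h ▸ h1
  exact hne (Set.mem_singleton_iff.1 (hCx ▸ h2)).symm

omit [IsAlgClosed k] in
/-- The closure of a group of points is a group. -/
theorem exists_subgroup_closure (H : Subgroup (VecGrp.pt k k ⟶ B)) :
    ∃ C : Subgroup (VecGrp.pt k k ⟶ B), (C : Set (VecGrp.pt k k ⟶ B)) = closure (H : Set _) := by
  have h1 : ∀ x ∈ H, ∀ y ∈ closure (H : Set (VecGrp.pt k k ⟶ B)), x * y ∈ closure (H : Set _) := fun x hx y hy =>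
    map_mem_closure (BorelFix21.continuous_mul_left x) hy fun z hz => H.mul_mem hx hz
  refine ⟨{ carrier := closure H, one_mem' := subset_closure H.one_mem, mul_mem' := fun {x y} hx hy => ?_,
            inv_mem' := fun {x} hx => map_mem_closure BorelFix21.continuous_inv hx fun z hz => H.inv_mem hz }, rfl⟩
  have h2 := map_mem_closure (BorelFix21.continuous_mul_right y) hx (fun z hz => h1 z hz y hy)
  rwa [closure_closure] at h2

omit [IsAlgClosed k] in
/-- If the commutators are dense, so are all derived subgroups. -/
theorem dense_derivedSeries (h : closure ((commutator (VecGrp.pt k k ⟶ B) : Subgroup (VecGrp.pt k k ⟶ B)) : Set (VecGrp.pt k k ⟶ B)) = Set.univ) (n : ℕ) :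
    closure ((derivedSeries (VecGrp.pt k k ⟶ B) n : Subgroup (VecGrp.pt k k ⟶ B)) : Set (VecGrp.pt k k ⟶ B)) = Set.univ := by
  induction n with
  | zero => rw [derivedSeries_zero, Subgroup.coe_top, closure_univ]
  | succ n ih =>
    obtain ⟨C, hC⟩ := exists_subgroup_closure (derivedSeries (VecGrp.pt k k ⟶ B) (n + 1))
    have hle : commutator (VecGrp.pt k k ⟶ B) ≤ C := by
      rw [commutator_def]
      refine Subgroup.commutator_le.2 fun a _ b _ => ?_
      have h1 : ∀ x ∈ derivedSeries (VecGrp.pt k k ⟶ B) n, ∀ y, ⁅x, y⁆ ∈ C := fun x hx y => by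
        have hy : y ∈ closure ((derivedSeries (VecGrp.pt k k ⟶ B) n : Subgroup (VecGrp.pt k k ⟶ B)) : Set (VecGrp.pt k k ⟶ B)) := ih ▸ Set.mem_univ y
        have h2 := map_mem_closure (BorelFix21.continuous_commutator x) hy (fun z hz =>
          show ⁅x, z⁆ ∈ (derivedSeries (VecGrp.pt k k ⟶ B) (n + 1) : Subgroup _) by
            rw [derivedSeries_succ]; exact Subgroup.commutator_mem_commutator hx hz)
        rwa [← hC] at h2
      have ha : a ∈ closure ((derivedSeries (VecGrp.pt k k ⟶ B) n : Subgroup (VecGrp.pt k k ⟶ B)) : Set (VecGrp.pt k k ⟶ B)) := ih ▸ Set.mem_univ a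
      have h3 := map_mem_closure (BorelFix21.continuous_commutator b) ha (fun z hz =>
        show ⁅b, z⁆ ∈ (C : Set _) by rw [← commutatorElement_inv]; exact C.inv_mem (h1 z hz b))
      rw [hC, closure_closure, ← hC] at h3
      rw [← commutatorElement_inv]
      exact C.inv_mem h3
    refine Set.eq_univ_of_univ_subset ?_
    rw [← h, ← hC]
    refine closure_minimal hle ?_
    rw [hC]
    exact isClosed_closure

variable [Smooth B.hom] [ConnectedSpace B.left]

set_option maxHeartbeats 800000 in
/-- A connected solvable group of dimension at most one is commutative. -/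
theorem commute_of_dim_le_one (hsol : Red.IsSolvableGrp B) (hdim : topologicalKrullDim ↥B.left ≤ 1)
    {X : Over (Spec (CommRingCat.of k))} (a b : X ⟶ B) : a * b = b * a := by
  haveI : IsReduced B.left := OrbitTop19.isReduced_of_smooth B.hom
  haveI : IrreducibleSpace B.left := AbRigid.irreducibleSpace_of_isAlgClosed B
  haveI : PreconnectedSpace (VecGrp.pt k k ⟶ B) := BorelFix21.preconnectedSpace_pts
  let P : Set (VecGrp.pt k k ⟶ B) := ((commutator (VecGrp.pt k k ⟶ B) : Subgroup _) : Set _)
  have hP : IsPreconnected P := BorelFix21.isPreconnected_commutator BorelFix21.continuous_mul_left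
    BorelFix21.continuous_commutator
  have hbot : ∀ z ∈ commutator (VecGrp.pt k k ⟶ B), z = 1 := by
    let W := closure (InvRing21.img '' P)
    by_cases hW : W = Set.univ
    · obtain ⟨n, hn⟩ := hsol
      have hd : closure P = Set.univ := Set.eq_univ_iff_forall.2 fun y => by
        rw [(Topology.IsInducing.induced InvRing21.img).closure_eq_preimage_closure_image]
        exact show InvRing21.img y ∈ W from hW ▸ Set.mem_univ _
      have h1 := dense_derivedSeries hd n
      rw [hn (VecGrp.pt k k), Subgroup.coe_bot, (isClosed_singleton_pt (1 : VecGrp.pt k k ⟶ B)).closure_eq] at h1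
      intro z _
      have h2 : z ∈ ({1} : Set (VecGrp.pt k k ⟶ B)) := h1 ▸ Set.mem_univ z
      exact h2
    · have hfin : topologicalKrullDim ↥B.left ≠ ⊤ := fun ht => by
        rw [ht, top_le_iff] at hdim
        exact absurd hdim (by decide)
      have hlt := (dim_lt_of_closed_ssubset hfin W isClosed_closure hW).trans_le hdim
      haveI : JacobsonSpace B.left := LocallyOfFiniteType.jacobsonSpace B.hom
      haveI : IsLocallyNoetherian B.left := LocallyOfFiniteType.isLocallyNoetherian B.hom
      haveI : CompactSpace B.left := inferInstance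
      haveI : IsNoetherian B.left := ⟨⟩
      obtain ⟨S, hSf, hSc, hSi, hWS⟩ := NoetherianSpace.exists_finite_set_isClosed_irreducible
        (isClosed_closure (s := InvRing21.img '' P))
      have hsub : ∀ Z ∈ S, Z.Subsingleton := by
        intro Z hZ u hu v hv
        have hZW : Z ⊆ W := fun w hw => (Set.ext_iff.1 hWS w).2 ⟨Z, hZ, hw⟩
        suffices key : ∀ w ∈ Z, closure ({w} : Set B.left) = Z from
          ((inseparable_iff_closure_eq).2 ((key u hu).trans (key v hv).symm)).eq
        intro w hw
        by_contra hne
        have hwW : closure ({w} : Set B.left) ⊆ W :=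
          closure_minimal (Set.singleton_subset_iff.2 (hZW hw)) isClosed_closure
        haveI : IrreducibleSpace ↥Z := Subtype.irreducibleSpace (hSi Z hZ)
        have hle : topologicalKrullDim ↥Z ≤ topologicalKrullDim ↥W :=
          (Topology.IsEmbedding.inclusion hZW).toIsInducing.topologicalKrullDim_le
        have hfinZ : topologicalKrullDim ↥Z ≠ ⊤ := fun ht => hfin (top_le_iff.1 (ht ▸ hle.trans
          (topologicalKrullDim_subspace_le _ W)))
        have hlt2 := (dim_lt_of_closed_ssubset hfinZ (Subtype.val ⁻¹' closure ({w} : Set B.left))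
          (isClosed_closure.preimage continuous_subtype_val) fun he => hne <| by
            refine (closure_minimal (Set.singleton_subset_iff.2 hw) (hSc Z hZ)).antisymm fun z hz => ?_
            exact (Set.eq_univ_iff_forall.1 he) ⟨z, hz⟩).trans_le hle
        haveI : Nonempty ↥(Subtype.val ⁻¹' closure ({w} : Set B.left) : Set ↥Z) :=
          ⟨⟨⟨w, hw⟩, subset_closure rfl⟩⟩
        have h00 : (0 : WithBot ℕ∞) < topologicalKrullDim ↥W := zero_le_dim.trans_lt hlt2
        generalize topologicalKrullDim ↥W = d at h00 hlt
        cases d with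
        | bot => exact not_lt_bot h00
        | coe d =>
          norm_cast at h00 hlt
          exact absurd (Order.lt_one_iff.1 hlt) h00.ne'

      have hPfin : P.Finite := by
        refine Set.Finite.of_finite_image ?_ (fun x _ y _ h => img_inj h)
        refine (Set.Finite.biUnion hSf fun Z hZ => (hsub Z hZ).finite).subset (subset_closure.trans ?_)
        intro w hw
        obtain ⟨Z, hZ, hwZ⟩ := (Set.ext_iff.1 hWS w).1 hw
        exact Set.mem_biUnion hZ hwZ
      intro z hz
      haveI : PreconnectedSpace ↥P := isPreconnected_iff_preconnectedSpace.1 hP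
      haveI : Finite ↥P := hPfin.to_subtype
      exact congrArg Subtype.val (BorelFix21.eq_of_finite_range (M := ↥P) id (Set.toFinite _)
        (fun c => by
          show IsClosed ({c} : Set ↥P)
          have : ({c} : Set ↥P) = Subtype.val ⁻¹' {c.1} := Set.ext fun q => ⟨fun h => congrArg Subtype.val h, fun h => Subtype.ext h⟩
          rw [this]
          exact (isClosed_singleton_pt c.1).preimage continuous_subtype_val)
        (⟨z, hz⟩ : ↥P) ⟨1, one_mem _⟩)
  haveI : IsAffine (B ⊗ B).left := isAffine_of_isAffineHom (pullback.fst B.hom B.hom)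
  haveI : Smooth (B ⊗ B).hom := inferInstanceAs (Smooth (pullback.fst B.hom B.hom ≫ B.hom))
  have h0 : fst B B * snd B B * (fst B B)⁻¹ * (snd B B)⁻¹ = (1 : B ⊗ B ⟶ B) := by
    haveI : IsReduced (B ⊗ B).left := OrbitTop19.isReduced_of_smooth (B ⊗ B).hom
    refine eq_one_of_forall_pts _ fun x => ?_
    refine hbot _ ?_
    rw [MonObj.comp_mul, MonObj.comp_mul, MonObj.comp_mul, GrpObj.comp_inv, GrpObj.comp_inv]
    exact Subgroup.commutator_mem_commutator (Subgroup.mem_top (x ≫ fst B B)) (Subgroup.mem_top (x ≫ snd B B))
  rw [mul_inv_eq_one, mul_inv_eq_iff_eq_mul] at h0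
  have h1 := congrArg (lift a b ≫ ·) h0
  simpa only [MonObj.comp_mul, lift_fst, lift_snd] using h1

end Groth.Agent.TorPts21
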