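import Groth.Agent.Lib.TorPts21.Structure
import Groth.Agent.Lib.TorPts21.FieldDescent

/-!
# Reductive groups and isogenies
-/

set_option autoImplicit false
set_option linter.style.haveILetI false
set_option backward.isDefEq.respectTransparency.types false
universe u

open CategoryTheory Limits MonoidalCategory CartesianMonoidalCategory MonObj AlgebraicGeometry

noncomputable section

namespace Groth.Agent.TorPts21

attribute [local instance] BorelFix21.ptsTop

/-- A scheme of finite type over a field with finitely many points is locally quasi-finite. -/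
theorem locallyQuasiFinite_of_finite {k : Type u} [Field k] {P : Scheme.{u}} (c : P ⟶ Spec (CommRingCat.of k))
    [LocallyOfFiniteType c] [Finite P] : LocallyQuasiFinite c := by
  haveI : JacobsonSpace P := LocallyOfFiniteType.jacobsonSpace c
  rw [locallyQuasiFinite_iff_isDiscrete_preimage_singleton]
  exact fun x => ⟨inferInstance⟩

variable {k : Type u} [Field k]

/-- The kernel of an isogeny stays finite after a field extension. -/
theorem finite_kernel_bc {K : Type u} [Field K] (φ : Spec (CommRingCat.of K) ⟶ Spec (CommRingCat.of k))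
    {G G' : Over (Spec (CommRingCat.of k))} [GrpObj G] [GrpObj G'] [IsAffine G'.left] [LocallyOfFiniteType G'.hom]
    [IsAffine G.left] (f : G' ⟶ G) [IsMonHom f]
    (hker : Finite ↥(Limits.pullback f.left (η[G] : 𝟙_ (Over (Spec (CommRingCat.of k))) ⟶ G).left)) :
    {x : (Red.bc φ G').left | ((Over.pullback φ).map f).left x ∈ Set.range (η[Red.bc φ G]).left}.Finite := by
  haveI := hker
  let P := Limits.pullback f.left (η[G] : 𝟙_ (Over (Spec (CommRingCat.of k))) ⟶ G).left
  haveI : IsClosedImmersion η[G].left := isClosedImmersion_of_comp_eq_id G.hom η[G].left (Over.w η[G])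
  let p : P ⟶ G'.left := pullback.fst _ _
  haveI : IsClosedImmersion p := MorphismProperty.pullback_fst _ _ ‹IsClosedImmersion η[G].left›
  let c : P ⟶ Spec (CommRingCat.of k) := p ≫ G'.hom
  haveI : LocallyQuasiFinite c := locallyQuasiFinite_of_finite c
  haveI : QuasiCompact c := inferInstance
  let P' := Limits.pullback c φ
  haveI : LocallyQuasiFinite (pullback.snd c φ) := inferInstance
  haveI : QuasiCompact (pullback.snd c φ) := inferInstance
  haveI : Finite P' := by
    have h := Scheme.Hom.finite_preimage_singleton (pullback.snd c φ) (IsLocalRing.closedPoint K)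
    have he : (pullback.snd c φ) ⁻¹' {IsLocalRing.closedPoint K} = Set.univ :=
      Set.eq_univ_of_forall fun z => Subsingleton.elim (α := Spec (CommRingCat.of K)) _ _
    exact Set.finite_univ_iff.1 (h.subset fun z _ => Subsingleton.elim (α := Spec (CommRingCat.of K)) _ _)
  let q : P' ⟶ (Red.bc φ G').left := pullback.map c φ G'.hom φ p (𝟙 _) (𝟙 _) (by simp [c]) (by simp)
  refine (Set.finite_range q).subset fun x hx => ?_
  have hq : Set.range q = (pullback.fst G'.hom φ) ⁻¹' Set.range p := by
    rw [Scheme.Pullback.range_map]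
    simp
  rw [hq]
  obtain ⟨y, hy⟩ := hx
  have h1 : f.left ((pullback.fst G'.hom φ) x) ∈ Set.range η[G].left := by
    refine ⟨(pullback.fst (𝟙_ (Over (Spec (CommRingCat.of k)))).hom φ) ((Functor.LaxMonoidal.ε (Over.pullback φ)).left y), ?_⟩
    have e1 : (η[Red.bc φ G]).left ≫ pullback.fst G.hom φ =
        (Functor.LaxMonoidal.ε (Over.pullback φ)).left ≫ pullback.fst (𝟙_ (Over (Spec (CommRingCat.of k)))).hom φ ≫ η[G].left := by
      rw [show η[Red.bc φ G] = Functor.LaxMonoidal.ε (Over.pullback φ) ≫ (Over.pullback φ).map η[G] from rfl,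
        Over.comp_left, Category.assoc]
      congr 1
      exact pullback.lift_fst _ _ _
    have e2 : ((Over.pullback φ).map f).left ≫ pullback.fst G.hom φ = pullback.fst G'.hom φ ≫ f.left :=
      pullback.lift_fst _ _ _
    rw [← Scheme.Hom.comp_apply (pullback.fst G'.hom φ) f.left, ← e2, Scheme.Hom.comp_apply, ← hy,
      ← Scheme.Hom.comp_apply (η[Red.bc φ G]).left, e1]
    rfl
  rw [Set.mem_preimage, show Set.range p = f.left ⁻¹' Set.range η[G].left from Scheme.Pullback.range_fst _ _]
  exact h1

variable [IsAlgClosed k] {G G' : Over (Spec (CommRingCat.of k))} [GrpObj G] [GrpObj G'] [IsAffine G.left]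
  [Smooth G.hom] [IsAffine G'.left] [Smooth G'.hom] [ConnectedSpace G'.left] (f : G' ⟶ G) [IsMonHom f]
  [Surjective f.left] {V : Over (Spec (CommRingCat.of k))} [GrpObj V] [IsAffine V.left] [Smooth V.hom]
  [ConnectedSpace V.left] {v : V ⟶ G'} [IsMonHom v] [IsClosedImmersion v.left]

omit [Smooth G.hom] [Smooth G'.hom] [ConnectedSpace G'.left] [Surjective f.left] [IsAffine G.left] in
/-- A connected smooth subgroup in a finite kernel is trivial. -/
theorem isTrivialGrp_of_finite_kernel [LocallyOfFiniteType G'.hom]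
    (hker : {x : G'.left | f.left x ∈ Set.range η[G].left}.Finite)
    (h : ∀ x : VecGrp.pt k k ⟶ V, x ≫ v ≫ f = 1) : Red.IsTrivialGrp V := by
  haveI : Mono v := Over.mono_of_mono_left v
  have hfin : (Set.univ : Set (VecGrp.pt k k ⟶ V)).Finite := by
    refine ((hker.preimage v.left.isClosedEmbedding.injective.injOn).preimage (Function.Injective.injOn
      (f := InvRing21.img) fun a b e => pt_ext e)).subset fun x _ => ?_
    show f.left (v.left (InvRing21.img x)) ∈ Set.range η[G].left
    rw [← Scheme.Hom.comp_apply]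
    exact ⟨_, (congrArg (fun m : VecGrp.pt k k ⟶ G => InvRing21.img m) ((h x).trans rfl)).symm⟩
  haveI : Finite (VecGrp.pt k k ⟶ V) := Set.finite_univ_iff.1 hfin
  haveI : T1Space (VecGrp.pt k k ⟶ V) := ⟨fun x => by
    have : ({x} : Set (VecGrp.pt k k ⟶ V)) = InvRing21.img ⁻¹' {InvRing21.img x} := Set.ext fun y =>
      ⟨fun e => congrArg _ e, fun e => pt_ext e⟩
    rw [this]
    exact (isClosed_singleton_img x).preimage continuous_induced_dom⟩
  haveI : DiscreteTopology (VecGrp.pt k k ⟶ V) := inferInstance
  haveI : PreconnectedSpace (VecGrp.pt k k ⟶ V) := BorelFix21.preconnectedSpace_pts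
  haveI : Subsingleton (VecGrp.pt k k ⟶ V) := PreconnectedSpace.trivial_of_discrete
  exact isTrivialGrp_of_pts fun x => Subsingleton.elim _ _

omit [ConnectedSpace G'.left] in
/-- The image of a connected normal subgroup under a surjection. -/
theorem exists_normal_image (hn : AlgGrp.IsNormalHom v) :
    ∃ (W : Over (Spec (CommRingCat.of k))) (_ : GrpObj W) (w : W ⟶ G) (p : V ⟶ W),
      IsMonHom w ∧ IsMonHom p ∧ IsClosedImmersion w.left ∧ Smooth W.hom ∧ ConnectedSpace W.left ∧ IsAffine W.left ∧
        Surjective p.left ∧ p ≫ w = v ≫ f ∧ AlgGrp.IsNormalHom w := by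
  obtain ⟨W, _, w, p, hw, hwc, hWr, hsurj, hpw⟩ := BorelFix21.exists_image (v ≫ f)
  haveI := hw
  haveI := hwc
  haveI := hsurj
  haveI := hWr
  haveI : IsAffine W.left := isAffine_of_isAffineHom w.left
  haveI : LocallyOfFiniteType W.hom := by rw [← Over.w w]; infer_instance
  haveI : Smooth W.hom := GrpSmooth19.smooth_of_isReduced W
  haveI : Mono w := Over.mono_of_mono_left w
  haveI : IsMonHom p := BorelFix21.isMonHom_of_comp w p (by rw [hpw]; infer_instance)
  haveI : ConnectedSpace W.left := p.left.surjective.connectedSpace p.left.continuous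
  refine ⟨W, inferInstance, w, p, inferInstance, inferInstance, inferInstance, inferInstance, inferInstance,
    inferInstance, inferInstance, hpw, isNormalHom_of_pts w fun g x => ?_⟩
  obtain ⟨g', rfl⟩ := BorelFix21.exists_pt_lift f g
  obtain ⟨x', rfl⟩ := BorelFix21.exists_pt_lift p x
  obtain ⟨n, hn'⟩ := hn _ g' x'
  refine ⟨n ≫ p, ?_⟩
  rw [Category.assoc, Category.assoc, hpw, ← Category.assoc, ← Category.assoc, ← hn', MonObj.mul_comp, MonObj.mul_comp,
    GrpObj.inv_comp]

/-- A group isogenous onto a reductive group is reductive. -/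
theorem isReductiveOver_of_isogeny (hker : {x : G'.left | f.left x ∈ Set.range η[G].left}.Finite)
    (hG : Red.IsReductiveOver k G) : Red.IsReductiveOver k G' := by
  refine ⟨inferInstance, inferInstance, inferInstance, fun U _ r _ hrc hrs hrcn hrn hR => ?_⟩
  haveI := hrc
  haveI := hrs
  haveI := hrcn
  haveI : IsAffine U.left := isAffine_of_isAffineHom r.left
  obtain ⟨W, _, w, p, hwm, hpm, hwc, hws, hwn, hwa, hps, hpw, hnorm⟩ := exists_normal_image (V := U) (v := r) f hrn
  haveI := hwm
  haveI := hpm
  haveI := hws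
  haveI := hwn
  haveI := hwa
  haveI := hps
  have htriv := hG.2.2.2 W w hwc hws hwn hnorm (hasNoSubtorus_image p hR)
  exact isTrivialGrp_of_finite_kernel f (v := r) hker fun x => by
    rw [← hpw, ← Category.assoc, eq_one_of_isTrivialGrp htriv (x ≫ p), MonObj.one_comp]

/-- A group isogenous onto a semisimple group is semisimple. -/
theorem isSemisimpleOver_of_isogeny [ConnectedSpace G.left]
    (hker : {x : G'.left | f.left x ∈ Set.range η[G].left}.Finite)
    (hG : Red.IsSemisimpleOver k G) : Red.IsSemisimpleOver k G' := by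
  refine ⟨isReductiveOver_of_isogeny f hker hG.1, fun T _ r _ hrc hrn hT => ?_⟩
  haveI := hrc
  obtain ⟨hTa, hTs, hTc, hTsol⟩ := props_of_isTorus hT
  haveI := hTa
  haveI := hTs
  haveI := hTc
  obtain ⟨W, _, w, p, hwm, hpm, hwc, hws, hwn, hwa, hps, hpw, hnorm⟩ := exists_normal_image (V := T) (v := r) f hrn
  haveI := hwm
  haveI := hpm
  haveI := hwc
  haveI := hws
  haveI := hwn
  haveI := hwa
  haveI := hps
  obtain ⟨d, ⟨Ch⟩⟩ := exists_chars hT
  have hsol : Red.IsSolvableGrp W := BorelFix21.isSolvableGrp_of_points (isSolvable_of_comm fun a b => by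
    obtain ⟨a', rfl⟩ := BorelFix21.exists_pt_lift p a
    obtain ⟨b', rfl⟩ := BorelFix21.exists_pt_lift p b
    rw [← MonObj.mul_comp, ← MonObj.mul_comp, (commute_of_chars Ch a' b').eq])
  have htriv := isTrivialGrp_of_normal_solvable hG hnorm hsol
  exact isTrivialGrp_of_finite_kernel f (v := r) hker fun x => by
    rw [← hpw, ← Category.assoc, eq_one_of_isTrivialGrp htriv (x ≫ p), MonObj.one_comp]

end Groth.Agent.TorPts21
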