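import Groth.Agent.Lib.TorPts21.MaxExist
import Groth.Agent.Lib.TorPts21.UnipChar
import Groth.Agent.Lib.BorelFix21.Image

/-!
# Images of maximal tori
-/

set_option autoImplicit false
set_option linter.style.haveILetI false
set_option backward.isDefEq.respectTransparency.types false
universe u

open CategoryTheory Limits MonoidalCategory CartesianMonoidalCategory MonObj AlgebraicGeometry

noncomputable section

namespace Groth.Agent.TorPts21

open MatGrp21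

attribute [local instance] InvRing21.gamAlg

variable {k : Type u} [Field k] [IsAlgClosed k]

set_option maxHeartbeats 1000000 in
/-- In the image of a Borel subgroup the diagonal values all come from the maximal torus. -/
theorem exists_range_mem_lay {G Q B B' T : Over (Spec (CommRingCat.of k))} [GrpObj G] [GrpObj Q] [GrpObj B]
    [GrpObj B'] [GrpObj T] [IsAffine G.left] [Smooth G.hom] (q : G ⟶ Q) [IsMonHom q] {iB : B ⟶ G} [IsMonHom iB]
    [IsClosedImmersion iB.left] [Smooth B.hom] [ConnectedSpace B.left] (hsol : Red.IsSolvableGrp B)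
    {iT : T ⟶ G} (hT : AGF.IsMaxTorus iT) (t : T ⟶ B) (ht : t ≫ iB = iT) {iB' : B' ⟶ Q} [IsMonHom iB']
    [LocallyOfFiniteType B'.hom] [LocallyOfFiniteType B.hom]
    (p : B ⟶ B') [Surjective p.left] (hp : p ≫ iB' = iB ≫ q) {n' : ℕ} (r' : Q ⟶ GLs k n') [IsMonHom r']
    (hu' : (mtx (iB' ≫ r')).range ≤ upper) :
    haveI := hT.1
    ∀ y ∈ (mtx (iB' ≫ r')).range, ∃ ρ ∈ (mtx ((iT ≫ q) ≫ r')).range, ρ⁻¹ * y ∈ lay 1 := by
  haveI := hT.1
  rintro _ ⟨y, rfl⟩
  obtain ⟨x, rfl⟩ := BorelFix21.exists_pt_lift p y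
  haveI : IsAffine B.left := isAffine_of_isAffineHom iB.left
  obtain ⟨n, r, hr, hrc, hu⟩ := exists_upper_embedding iB hsol
  haveI := hr
  haveI := hrc
  haveI : IsClosedImmersion (iB ≫ r).left := by rw [Over.comp_left]; infer_instance
  obtain ⟨D⟩ := nonempty_decomp hu (isClosed_range_mtx (iB ≫ r)) (isPreirreducible_range_mtx' (iB ≫ r))
  obtain ⟨u₀, hu₀, hu₀T⟩ := exists_conj_eq r iB hu D hT t ht
  obtain ⟨v, hv⟩ := hu₀.1
  obtain ⟨τ, hτ, hτx⟩ := D.exists_mem _ ⟨x, rfl⟩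
  rw [← hu₀T] at hτ
  obtain ⟨_, ⟨s, rfl⟩, hs⟩ := hτ
  simp only [MulEquiv.coe_toMonoidHom, MulAut.conj_apply] at hs
  have hts : mtx (iB ≫ r) (s ≫ t) = mtx (iT ≫ r) s := by
    rw [mtx_comp, mtx_comp, Category.assoc, ht]
  have hy : ∀ z : VecGrp.pt k k ⟶ B, mtx (iB' ≫ r') (z ≫ p) = mtx ((iB ≫ q) ≫ r') z := fun z => by
    rw [mtx_apply, mtx_apply, mtxFn_comp, mtxFn_comp, Category.assoc, hp]
  have hup : ∀ z : VecGrp.pt k k ⟶ B, mtx ((iB ≫ q) ≫ r') z ∈ (upper : Subgroup (GL (Fin n') k)) := fun z => by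
    rw [← hy]; exact hu' ⟨_, rfl⟩
  -- unipotent points map to unipotent points
  have hunip : ∀ z : VecGrp.pt k k ⟶ B, mtx (iB ≫ r) z ∈ lay 1 → mtx ((iB ≫ q) ≫ r') z ∈ lay 1 := by
    intro z hz
    refine mem_lay_one_iff.2 ⟨hup z, fun i => ?_⟩
    obtain ⟨a, ha⟩ := exists_eq_appTop (iB ≫ r) (((iB ≫ q) ≫ r').left.appTop
      ((Scheme.ΓSpecIso (CommRingCat.of (CoordGrp.GLn n' k))).inv (CoordGrp.GLn.X i i)))
    have hF : ∀ w : VecGrp.pt k k ⟶ B, evalGL (mtx (iB ≫ r) w) a =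
        ((mtx ((iB ≫ q) ≫ r') w : GL (Fin n') k) : Matrix (Fin n') (Fin n') k) i i := fun w => by
      rw [mtx_apply, ← val_eq_evalGL, ha, val_eq_evalGL, mtx_apply]
      simp [evalGL, CoordGrp.GLn.pt_X]
    rw [← hF]
    refine eq_one_of_isUnip (U := (mtx (iB ≫ r)).range ⊓ lay 1)
      (isClosed_inf (isClosed_range_mtx (iB ≫ r)) (isClosed_lay 1)) (isReg_evalGL a) ?_ ?_ ⟨⟨z, rfl⟩, hz⟩
      (isUnip_of_mem_lay hz)
    · rintro _ ⟨⟨w, rfl⟩, -⟩ _ ⟨⟨w', rfl⟩, -⟩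
      rw [← map_mul, hF, hF, hF, map_mul, diag_mul (hup w) (hup w')]
    · rintro _ ⟨⟨w, rfl⟩, -⟩
      show evalGL _ a ≠ 0
      rw [hF]
      exact diag_ne_zero (hup w) i
  set w := (v * (s ≫ t) * v⁻¹)⁻¹ * x with hw
  have hw1 : mtx (iB ≫ r) w ∈ lay 1 := by
    rw [hw, map_mul, map_inv, map_mul, map_mul, map_inv, hv, hts, hs]
    exact hτx
  have hw2 := hunip w hw1
  refine ⟨mtx ((iT ≫ q) ≫ r') s, ⟨s, rfl⟩, ?_⟩
  rw [hy]
  have hx : x = v * (s ≫ t) * v⁻¹ * w := by rw [hw, mul_inv_cancel_left]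
  have hsq : mtx ((iT ≫ q) ≫ r') s = mtx ((iB ≫ q) ≫ r') (s ≫ t) := by
    rw [mtx_comp, mtx_comp, ← Category.assoc, ← Category.assoc, Category.assoc s t iB, ht, Category.assoc]
  rw [hsq]
  conv => arg 2; arg 2; rw [hx, map_mul, map_mul, map_mul, map_inv]
  set V := mtx ((iB ≫ q) ≫ r') v
  set S := mtx ((iB ≫ q) ≫ r') (s ≫ t)
  set W := mtx ((iB ≫ q) ≫ r') w
  have hVu : V ∈ upper := hup v
  have hSu : S ∈ upper := hup (s ≫ t)
  have h := commutator_mem_lay hSu (Subgroup.inv_mem _ hVu)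
  rw [inv_inv] at h
  convert Subgroup.mul_mem _ h hw2 using 1
  group

variable {G Q T T' : Over (Spec (CommRingCat.of k))} [GrpObj G] [GrpObj Q] [GrpObj T] [GrpObj T']
  [IsAffine G.left] [Smooth G.hom] [ConnectedSpace G.left] [IsAffine Q.left] [Smooth Q.hom] [ConnectedSpace Q.left]

set_option maxHeartbeats 1000000 in
/-- The image of a maximal torus under a surjective homomorphism is a maximal torus. -/
theorem isMaxTorus_image (q : G ⟶ Q) [IsMonHom q] [Surjective q.left] {iT : T ⟶ G} (hT : AGF.IsMaxTorus iT)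
    {iT' : T' ⟶ Q} [IsMonHom iT'] [IsClosedImmersion iT'.left] [IsReduced T'.left] (p : T ⟶ T')
    [Surjective p.left] (hp : p ≫ iT' = iT ≫ q) : AGF.IsMaxTorus iT' := by
  haveI := hT.1
  haveI := hT.2.1
  obtain ⟨hTa, hTs, hTc, -⟩ := props_of_isTorus hT.2.2.1
  haveI := hTa
  haveI := hTs
  haveI := hTc
  haveI : IsAffine T'.left := isAffine_of_isAffineHom iT'.left
  haveI : LocallyOfFiniteType T'.hom := by rw [← Over.w iT']; infer_instance
  haveI : Smooth T'.hom := GrpSmooth19.smooth_of_isReduced T'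
  haveI : Mono iT' := Over.mono_of_mono_left iT'
  obtain ⟨d, ⟨Ch⟩⟩ := exists_chars hT.2.2.1
  obtain ⟨B, _, iB, t, hB, ht⟩ := exists_borel_containing iT hT.2.2.1
  obtain ⟨hm, hcl, hs, hn, hsol, -⟩ := id hB
  haveI := hm
  haveI := hcl
  haveI := hs
  haveI := hn
  haveI : IsAffine B.left := isAffine_of_isAffineHom iB.left
  obtain ⟨B', _, iB', pB, hB'm, hB'c, hB'r, hpBs, hpB⟩ := BorelFix21.exists_image (iB ≫ q)
  haveI := hB'm
  haveI := hB'c
  haveI := hB'r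
  haveI := hpBs
  have hB' := BorelFix21.isBorelOver_image q iB iB' pB hpB hB
  haveI : Smooth B'.hom := hB'.2.2.1
  haveI : ConnectedSpace B'.left := hB'.2.2.2.1
  haveI : IsAffine B'.left := isAffine_of_isAffineHom iB'.left
  obtain ⟨n', r', hr', hrc', hu'⟩ := exists_upper_embedding iB' hB'.2.2.2.2.1
  haveI := hr'
  haveI := hrc'
  haveI : IsClosedImmersion (iB' ≫ r').left := by rw [Over.comp_left]; infer_instance
  haveI : IsClosedImmersion (iT' ≫ r').left := by rw [Over.comp_left]; infer_instance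
  have hR : (mtx (iT' ≫ r')).range = (mtx ((iT ≫ q) ≫ r')).range := by
    refine le_antisymm ?_ ?_
    · rintro _ ⟨y, rfl⟩
      obtain ⟨x, rfl⟩ := BorelFix21.exists_pt_lift p y
      exact ⟨x, by simp only [mtx_comp, Category.assoc, hp]⟩
    · rintro _ ⟨x, rfl⟩
      exact ⟨x ≫ p, by simp only [mtx_comp, Category.assoc, hp]⟩
  have hirr : IsPreirreducible ((mtx (iT' ≫ r')).range : Set (GL (Fin n') k)) := by
    rw [hR]
    exact isPreirreducible_range_mtx' ((iT ≫ q) ≫ r')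
  obtain ⟨P, hP⟩ := range_mtx_diag Ch ((iT ≫ q) ≫ r')
  obtain ⟨σ, iσ, d', C', s, hsm, hsmono, hsc, hsr⟩ := exists_torus_subgroup r'
    (range_le_range r' iT') (isClosed_range_mtx (iT' ≫ r')) hirr P (by rw [hR]; exact hP)
  haveI := hsc
  haveI : Smooth σ.hom := smooth_of_chars C'
  haveI : IsAffine σ.left := isAffine_of_chars C'
  obtain ⟨e, he⟩ := exists_iso_of_range_eq r' iT' s hsr.symm
  haveI : IsMonHom e.hom := BorelFix21.isMonHom_of_comp s e.hom (he.symm ▸ ‹IsMonHom iT'›)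
  have hT'tor : Red.IsTorus T' := isTorus_of_chars (C'.transport (Grp.mkIso' e))
  refine ⟨inferInstance, inferInstance, hT'tor, fun T₂ _ j _ _ f hT₂ hf => ?_⟩
  haveI := isClosedImmersion_of_torus hT₂ j
  haveI : IsClosedImmersion (j ≫ r').left := by rw [Over.comp_left]; infer_instance
  obtain ⟨hT₂a, hT₂s, -, -⟩ := props_of_isTorus hT₂
  haveI := hT₂a
  haveI := hT₂s
  obtain ⟨D⟩ := nonempty_decomp hu' (isClosed_range_mtx (iB' ≫ r')) (isPreirreducible_range_mtx' (iB' ≫ r'))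
  -- the image is conjugate to the standard torus
  obtain ⟨tB', htB', -⟩ := exists_lift_of_range_le r' iT' iB' (by
      rw [hR]
      rintro _ ⟨x, rfl⟩
      refine ⟨(x ≫ t) ≫ pB, ?_⟩
      simp only [mtx_comp, Category.assoc, hpB]
      rw [← Category.assoc t, ht])
  obtain ⟨v, hv1, hv2⟩ := D.exists_conj hu' (isClosed_range_mtx (iB' ≫ r')) (S := (mtx (iT' ≫ r')).range)
    (range_le_of_lift r' iB' iT' tB' htB')
    (by rw [hR]; exact range_mtx_comm Ch ((iT ≫ q) ≫ r'))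
    (by rw [hR]; exact range_mtx_dense Ch ((iT ≫ q) ≫ r'))
  have hDT : D.T ≤ (mtx (iT' ≫ r')).range.map (MulAut.conj v).toMonoidHom := by
    intro τ hτ
    obtain ⟨ρ, hρ, hρτ⟩ := exists_range_mem_lay q hsol hT t ht pB hpB r' hu' τ (D.le hτ)
    rw [← hR] at hρ
    have hρ' := hv2 ρ hρ
    have hρu : ρ ∈ (upper : Subgroup (GL (Fin n') k)) := by
      have h3 := Subgroup.mul_mem _ (Subgroup.mul_mem _ (Subgroup.inv_mem _ hv1.2.1) (hu' (D.le hρ'))) hv1.2.1
      convert h3 using 1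
      group
    refine ⟨ρ, hρ, ?_⟩
    simp only [MulEquiv.coe_toMonoidHom, MulAut.conj_apply]
    have hdiff : (v * ρ * v⁻¹)⁻¹ * τ ∈ (lay 1 : Subgroup (GL (Fin n') k)) := by
      have hc := commutator_mem_lay hρu hv1.2.1
      have hcj : v * (ρ⁻¹ * v⁻¹ * ρ * v) * v⁻¹ ∈ (lay 1 : Subgroup (GL (Fin n') k)) := conj_mem_lay hv1.2.1 hc
      convert Subgroup.mul_mem _ hcj hρτ using 1
      group
    have h1 : (v * ρ * v⁻¹)⁻¹ * τ = 1 := by
      rw [← Subgroup.mem_bot, ← D.inf_eq]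
      exact ⟨Subgroup.mul_mem _ (Subgroup.inv_mem _ hρ') hτ, hdiff⟩
    exact inv_mul_eq_one.1 h1
  -- the bigger torus is conjugate into the image
  obtain ⟨B₂, _, iB₂, t₂, hB₂, ht₂⟩ := exists_borel_containing j hT₂
  obtain ⟨g, φ, hφ⟩ := BorelFix21.exists_conjBy iB₂ iB' hB₂ hB'
  haveI := isMonHom_conjBy g j
  obtain ⟨d₂, ⟨C₂⟩⟩ := exists_chars hT₂
  obtain ⟨u, -, hu2⟩ := D.exists_conj hu' (isClosed_range_mtx (iB' ≫ r'))
    (range_le_of_lift r' iB' (AGF.conjBy g j) (t₂ ≫ φ.hom) (by rw [Category.assoc, hφ, comp_conjBy, ht₂]))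
    (range_mtx_comm C₂ (AGF.conjBy g j ≫ r')) (range_mtx_dense C₂ (AGF.conjBy g j ≫ r'))
  rw [range_conjBy r' g j _ rfl] at hu2
  have h1 : (mtx (j ≫ r')).range.map (MulAut.conj (v⁻¹ * (u * mtxFn r' (gpt g)))).toMonoidHom ≤
      (mtx (iT' ≫ r')).range := by
    rintro _ ⟨x, hx, rfl⟩
    obtain ⟨ρ, hρ, hρe⟩ := hDT (hu2 _ ⟨x, hx, rfl⟩)
    simp only [MulEquiv.coe_toMonoidHom, MulAut.conj_apply] at hρe ⊢
    refine Eq.subst (motive := fun z => z ∈ (mtx (iT' ≫ r')).range) ?_ hρ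
    rw [show ρ = v⁻¹ * (v * ρ * v⁻¹) * v by group, hρe]
    group
  have h2 : (mtx (iT' ≫ r')).range ≤ (mtx (j ≫ r')).range := range_le_of_lift r' j iT' f hf
  have h3 := map_conj_eq_of_le (isClosed_range_mtx (j ≫ r')) _ (h1.trans h2)
  obtain ⟨e', he'⟩ := exists_iso_of_range_eq r' iT' j (le_antisymm h2 (h3 ▸ h1))
  rw [(cancel_mono j).1 (hf.trans he'.symm)]
  infer_instance

end Groth.Agent.TorPts21
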