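import Groth.Agent.Lib.TorPts21.Chevalley
import Groth.Agent.Lib.TorPts21.ReductiveCartanField
import Groth.Agent.Lib.MTRigid29.TransporterSmooth
import Groth.Agent.S5260

/-!
# Borel subgroups are their own normalisers
-/

set_option autoImplicit false
set_option linter.style.haveILetI false
set_option backward.isDefEq.respectTransparency.types false
set_option maxSynthPendingDepth 3
universe u

open CategoryTheory Limits MonoidalCategory CartesianMonoidalCategory MonObj AlgebraicGeometry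

noncomputable section

namespace Groth.Agent.TorPts21

/-- A point normalises a subgroup. -/
def NormalizesSub {S : Scheme.{u}} {G H : Over S} [GrpObj G] (i : H ⟶ G) {X : Over S} (g : X ⟶ G) : Prop :=
  ∀ (X' : Over S) (x : X' ⟶ X) (h : X' ⟶ H),
    (∃ h' : X' ⟶ H, (x ≫ g) * (h ≫ i) * (x ≫ g)⁻¹ = h' ≫ i) ∧
    (∃ h' : X' ⟶ H, (x ≫ g)⁻¹ * (h ≫ i) * (x ≫ g) = h' ≫ i)

section Grp

variable {S : Scheme.{u}} {G H : Over S} [GrpObj G] [GrpObj H] (i : H ⟶ G) [IsMonHom i]

theorem normalizesSub_lift {X : Over S} (z : X ⟶ H) : NormalizesSub i (z ≫ i) := fun X' x h =>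
  ⟨⟨(x ≫ z) * h * (x ≫ z)⁻¹, by simp only [MonObj.mul_comp, GrpObj.inv_comp, Category.assoc]⟩,
   ⟨(x ≫ z)⁻¹ * h * (x ≫ z), by simp only [MonObj.mul_comp, GrpObj.inv_comp, Category.assoc]⟩⟩

theorem normalizesSub_inv_mul {X : Over S} {g : X ⟶ G} (hg : NormalizesSub i g) (z : X ⟶ H) :
    NormalizesSub i ((z ≫ i)⁻¹ * g) := fun X' x h => by
  constructor
  · obtain ⟨h', hh'⟩ := (hg X' x h).1
    refine ⟨(x ≫ z)⁻¹ * h' * (x ≫ z), ?_⟩
    simp only [MonObj.comp_mul, GrpObj.comp_inv, MonObj.mul_comp, GrpObj.inv_comp, Category.assoc, ← hh']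
    group
  · obtain ⟨h', hh'⟩ := (hg X' x ((x ≫ z) * h * (x ≫ z)⁻¹)).2
    refine ⟨h', ?_⟩
    rw [← hh']
    simp only [MonObj.comp_mul, GrpObj.comp_inv, MonObj.mul_comp, GrpObj.inv_comp, Category.assoc]
    group

theorem isNormalizerOf_self_of [Mono i]
    (h : ∀ (X : Over S) (g : X ⟶ G), NormalizesSub i g → ∃ f : X ⟶ H, f ≫ i = g) : Red.IsNormalizerOf i i :=
  ⟨‹_›, ‹_›, fun X g => ⟨fun ⟨z, hz⟩ => hz ▸ normalizesSub_lift i z, h X g⟩⟩

omit [IsMonHom i] in
theorem normalizesSub_bc {S' : Scheme.{u}} (φ : S' ⟶ S) {X : Over S} {g : X ⟶ G} (hg : NormalizesSub i g) :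
    NormalizesSub ((Over.pullback φ).map i) ((Over.pullback φ).map g) := fun X' x h => by
  have e : DiagGL.fl φ G (x ≫ (Over.pullback φ).map g) = DiagGL.fl φ X x ≫ g :=
    (Over.mapPullbackAdj φ).homEquiv_naturality_right_symm x g
  have e' : ∀ h : X' ⟶ Red.bc φ H, DiagGL.fl φ G (h ≫ (Over.pullback φ).map i) = DiagGL.fl φ H h ≫ i := fun h =>
    (Over.mapPullbackAdj φ).homEquiv_naturality_right_symm h i
  constructor
  · obtain ⟨h', hh'⟩ := (hg _ (DiagGL.fl φ X x) (DiagGL.fl φ H h)).1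
    obtain ⟨z, rfl⟩ := DiagGL.fl_surjective φ H h'
    exact ⟨z, DiagGL.fl_injective φ G (by
      rw [DiagGL.fl_mul, DiagGL.fl_mul, MTRigid29.fl_inv φ G, e, e', e', hh'])⟩
  · obtain ⟨h', hh'⟩ := (hg _ (DiagGL.fl φ X x) (DiagGL.fl φ H h)).2
    obtain ⟨z, rfl⟩ := DiagGL.fl_surjective φ H h'
    exact ⟨z, DiagGL.fl_injective φ G (by
      rw [DiagGL.fl_mul, DiagGL.fl_mul, MTRigid29.fl_inv φ G, e, e', e', hh'])⟩

end Grp

section Affine

/-- Factoring through a closed immersion into an affine scheme. -/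
theorem exists_lift_iff_ker {Z B G : Scheme.{u}} [IsAffine Z] [IsAffine G] (i : B ⟶ G) [IsClosedImmersion i]
    (m : Z ⟶ G) : (∃ w : Z ⟶ B, w ≫ i = m) ↔ RingHom.ker i.appTop.hom ≤ RingHom.ker m.appTop.hom := by
  constructor
  · rintro ⟨w, rfl⟩ x hx
    rw [RingHom.mem_ker] at hx ⊢
    rw [Scheme.Hom.comp_appTop, CommRingCat.hom_comp, RingHom.comp_apply, hx, map_zero]
  · intro h
    refine ⟨IsClosedImmersion.lift i m (Scheme.IdealSheafData.le_of_isAffine ?_), IsClosedImmersion.lift_fac _ _ _⟩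
    rw [Scheme.Hom.ker_apply, Scheme.Hom.ker_apply]
    exact h

/-- The same for a point with values in a ring. -/
theorem exists_lift_iff_le {N B G : Scheme.{u}} [IsAffine N] [IsAffine G] (i : B ⟶ G) [IsClosedImmersion i]
    (j : N ⟶ G) {D : Type u} [CommRing D] (ψ : Γ(N, ⊤) →+* D) :
    (∃ w : Spec (CommRingCat.of D) ⟶ B, w ≫ i = Spec.map (CommRingCat.ofHom ψ) ≫ N.isoSpec.inv ≫ j) ↔
      (RingHom.ker i.appTop.hom).map j.appTop.hom ≤ RingHom.ker ψ := by
  rw [exists_lift_iff_ker, Ideal.map_le_iff_le_comap]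
  have e₀ : N.isoSpec.inv.appTop = (Scheme.ΓSpecIso Γ(N, ⊤)).inv := by
    refine (Iso.comp_hom_eq_id _).1 ?_
    rw [← Scheme.toSpecΓ_appTop, ← Scheme.isoSpec_hom, ← Scheme.Hom.comp_appTop, Iso.hom_inv_id, Scheme.Hom.id_appTop]
  have e : (Spec.map (CommRingCat.ofHom ψ) ≫ N.isoSpec.inv ≫ j).appTop =
      j.appTop ≫ CommRingCat.ofHom ψ ≫ (Scheme.ΓSpecIso (CommRingCat.of D)).inv := by
    rw [Scheme.Hom.comp_appTop, Scheme.Hom.comp_appTop, e₀, Category.assoc,
      ← Scheme.ΓSpecIso_inv_naturality]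
  have e' : RingHom.ker (Spec.map (CommRingCat.ofHom ψ) ≫ N.isoSpec.inv ≫ j).appTop.hom =
      (RingHom.ker ψ).comap j.appTop.hom := by
    ext x
    rw [e, RingHom.mem_ker, Ideal.mem_comap, RingHom.mem_ker, CommRingCat.hom_comp, CommRingCat.hom_comp,
      RingHom.comp_apply, RingHom.comp_apply]
    exact (Scheme.ΓSpecIso (CommRingCat.of D)).symm.commRingCatIsoToRingEquiv.map_eq_zero_iff
  rw [e']

variable {k : Type u} [Field k] [IsAlgClosed k]

/-- A morphism from an affine scheme of finite type factors through a closed subscheme as soon as its rational points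
do and it does so along square-zero extensions. -/
theorem exists_lift_of_points_of_squareZero {N B G : Over (Spec (CommRingCat.of k))} [IsAffine N.left]
    [IsAffine G.left] [LocallyOfFiniteType N.hom] (i : B ⟶ G) [IsClosedImmersion i.left] (j : N ⟶ G)
    (hpt : ∀ x : VecGrp.pt k k ⟶ N, ∃ b : VecGrp.pt k k ⟶ B, b ≫ i = x ≫ j)
    (hsq : ∀ (D : Type u) [CommRing D] (J : Ideal D), J ^ 2 = ⊥ → ∀ (b : Spec (CommRingCat.of D) ⟶ Spec (CommRingCat.of k))
      (g : Over.mk b ⟶ N), (∃ z : Spec (CommRingCat.of (D ⧸ J)) ⟶ B.left,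
        z ≫ i.left = Spec.map (CommRingCat.ofHom (Ideal.Quotient.mk J)) ≫ g.left ≫ j.left) →
      ∃ w : Over.mk b ⟶ B, w ≫ i = g ≫ j) :
    ∃ f : N ⟶ B, f ≫ i = j := by
  let A : Type u := Γ(N.left, ⊤)
  let e : Spec (CommRingCat.of A) ⟶ N.left := N.left.isoSpec.inv
  set I : Ideal A := (RingHom.ker i.left.appTop.hom).map j.left.appTop.hom with hI
  haveI : LocallyOfFiniteType (e ≫ N.hom) := inferInstance
  haveI : IsJacobsonRing A := by
    haveI : JacobsonSpace (Spec (CommRingCat.of A)) := LocallyOfFiniteType.jacobsonSpace (e ≫ N.hom)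
    exact PrimeSpectrum.isJacobsonRing_iff_jacobsonSpace.2 ‹JacobsonSpace (Spec (CommRingCat.of A))›
  haveI : IsNoetherianRing A := by
    haveI : IsLocallyNoetherian N.left := LocallyOfFiniteType.isLocallyNoetherian N.hom
    exact IsLocallyNoetherian.component_noetherian ⟨⊤, isAffineOpen_top _⟩
  -- the ideal is contained in every maximal ideal
  have hmax : ∀ 𝔪 : Ideal A, 𝔪.IsMaximal → I ≤ 𝔪 := fun 𝔪 h𝔪 => by
    let p : Spec (CommRingCat.of A) := (⟨𝔪, h𝔪.isPrime⟩ : PrimeSpectrum A)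
    have hp : IsClosed ({p} : Set (Spec (CommRingCat.of A))) :=
      (PrimeSpectrum.isClosed_singleton_iff_isMaximal (⟨𝔪, h𝔪.isPrime⟩ : PrimeSpectrum A)).2 h𝔪
    have hz : IsClosed ({e p} : Set N.left) := by
      rw [← Set.image_singleton]
      exact (Scheme.Hom.homeomorph e).isClosedMap _ hp
    obtain ⟨x, hx⟩ := BorelFix21.exists_pt_of_closed (G := N) (e p) hz
    obtain ⟨b, hb⟩ := hpt x
    let ψ : A →+* k := (Spec.preimage (x.left ≫ N.left.isoSpec.hom)).hom
    have hψ : Spec.map (CommRingCat.ofHom ψ) = x.left ≫ N.left.isoSpec.hom := by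
      rw [CommRingCat.ofHom_hom, Spec.map_preimage]
    have h1 : I ≤ RingHom.ker ψ := (exists_lift_iff_le i.left j.left ψ).1 ⟨b.left, by
      rw [hψ, Category.assoc, Iso.hom_inv_id_assoc]
      exact congrArg CommaMorphism.left hb⟩
    refine h1.trans ?_
    have h2 : Spec.map (CommRingCat.ofHom ψ) (IsLocalRing.closedPoint k) = p := by
      rw [hψ, Scheme.Hom.comp_apply]
      have : x.left (IsLocalRing.closedPoint k) = e p := hx
      rw [this]
      exact congrArg (fun m : Spec (CommRingCat.of A) ⟶ Spec (CommRingCat.of A) => m p) N.left.isoSpec.inv_hom_id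
    have h3 : Ideal.comap ψ (IsLocalRing.closedPoint k).asIdeal = 𝔪 := congrArg PrimeSpectrum.asIdeal h2
    rw [← h3]
    exact fun a ha => by rw [Ideal.mem_comap, RingHom.mem_ker.1 ha]; exact Ideal.zero_mem _
  have hnil : IsNilpotent I := by
    have hle : I ≤ Ideal.radical ⊥ := by
      rw [Ideal.radical_eq_jacobson]
      exact le_sInf fun 𝔪 h𝔪 => hmax 𝔪 h𝔪.2
    obtain ⟨n, hn⟩ := Ideal.exists_pow_le_of_le_radical_of_fg hle (IsNoetherian.noetherian I)
    exact ⟨n, le_bot_iff.1 hn⟩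
  -- the ideal equals its square
  have hII : I ≤ I ^ 2 := by
    let D : Type u := A ⧸ I ^ 2
    let J : Ideal D := I.map (Ideal.Quotient.mk (I ^ 2))
    have hJ : J ^ 2 = ⊥ := by
      exact (Ideal.map_pow _ _ _).symm.trans (Ideal.map_quotient_self _)
    let ψ : A →+* D := Ideal.Quotient.mk (I ^ 2)
    let b : Spec (CommRingCat.of D) ⟶ Spec (CommRingCat.of k) := Spec.map (CommRingCat.ofHom ψ) ≫ e ≫ N.hom
    let g : Over.mk b ⟶ N := Over.homMk (Spec.map (CommRingCat.ofHom ψ) ≫ e) (Category.assoc _ _ _)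
    obtain ⟨z, hz⟩ := (exists_lift_iff_le i.left j.left ((Ideal.Quotient.mk J).comp ψ)).2 fun a ha => by
      rw [RingHom.mem_ker, RingHom.comp_apply, Ideal.Quotient.eq_zero_iff_mem]
      exact Ideal.mem_map_of_mem _ ha
    obtain ⟨w, hw⟩ := hsq D J hJ b g ⟨z, by
      rw [hz, ← MTRigid29.specMap_comp, Category.assoc]
      show _ = _ ≫ (Spec.map (CommRingCat.ofHom ψ) ≫ e) ≫ j.left
      rw [Category.assoc]⟩
    have h1 : I ≤ RingHom.ker ψ := (exists_lift_iff_le i.left j.left ψ).1 ⟨w.left, by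
      rw [← Category.assoc]
      exact congrArg CommaMorphism.left hw⟩
    rwa [Ideal.mk_ker] at h1
  have hI0 : I = ⊥ := by
    obtain ⟨n, hn⟩ := hnil
    have : ∀ m : ℕ, I ≤ I ^ (m + 1) := fun m => by
      induction m with
      | zero => rw [zero_add, pow_one]
      | succ m ih => calc I ≤ I * I := by rw [← pow_two]; exact hII
          _ ≤ I ^ (m + 1) * I := Ideal.mul_mono_left ih
          _ = I ^ (m + 1 + 1) := (pow_succ I (m + 1)).symm
    exact le_bot_iff.1 (((this n).trans (Ideal.pow_le_pow_right n.le_succ)).trans hn.le)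
  obtain ⟨w, hw⟩ := (exists_lift_iff_ker i.left j.left).2
    ((Ideal.map_eq_bot_iff_le_ker _).1 hI0)
  exact ⟨Over.homMk w (by rw [← Over.w i, reassoc_of% hw, Over.w]), Over.OverMorphism.ext hw⟩

end Affine

section Borel

open DiagGL

variable {k : Type u} [Field k] [IsAlgClosed k] {G B : Over (Spec (CommRingCat.of k))} [GrpObj G] [GrpObj B]
  [IsAffine G.left] [Smooth G.hom] [ConnectedSpace G.left]

set_option maxHeartbeats 1600000 in
/-- A point normalising a smooth subgroup that contains a maximal torus and its centraliser lies in the subgroup as soon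
as its reduction does. -/
theorem exists_lift_squareZero {H T : Over (Spec (CommRingCat.of k))} [GrpObj H] [GrpObj T] {iH : H ⟶ G}
    [IsMonHom iH] [IsClosedImmersion iH.left] (hs : Smooth H.hom) {iT : T ⟶ G} (hT : AGF.IsMaxTorus iT) (t : T ⟶ H)
    (ht : t ≫ iH = iT)
    (hcart : ∀ (C : Over (Spec (CommRingCat.of k))) [GrpObj C] (c : C ⟶ G), Red.IsCentralizerOf iT c →
      ∃ f : C ⟶ H, f ≫ iH = c) (D : Type u) [CommRing D] (J : Ideal D)
    (hJ : J ^ 2 = ⊥) (b : Spec (CommRingCat.of D) ⟶ Spec (CommRingCat.of k)) (g : Over.mk b ⟶ G)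
    (hg : NormalizesSub iH g) (z : Spec (CommRingCat.of (D ⧸ J)) ⟶ H.left)
    (hz : z ≫ iH.left = Spec.map (CommRingCat.ofHom (Ideal.Quotient.mk J)) ≫ g.left) :
    ∃ w : Over.mk b ⟶ H, w ≫ iH = g := by
  haveI := hs
  haveI : Mono iH := Over.mono_of_mono_left iH
  obtain ⟨hTm, hTmono, hTtor, -⟩ := id hT
  haveI := hTm
  haveI := hTmono
  haveI : IsMonHom t := TorsorSch25.isMonHom_of_points _ fun X a c => (cancel_mono iH).1 (by
    rw [Category.assoc, ht, MonObj.mul_comp, MonObj.mul_comp, Category.assoc, Category.assoc, ht])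
  let q := Spec.map (CommRingCat.ofHom (Ideal.Quotient.mk J))
  let r : Over.mk (q ≫ b) ⟶ Over.mk b := Over.homMk q rfl
  -- lift the reduction
  obtain ⟨w, hw1, hw2⟩ := MTRigid29.exists_lift_of_surjective (SmoothLift15.isFormallySmoothHom_of_smooth H.hom)
    (Ideal.Quotient.mk J) Ideal.Quotient.mk_surjective (by rw [Ideal.mk_ker]; exact hJ) z b (by
      rw [← Over.w iH, reassoc_of% hz]
      exact congrArg (q ≫ ·) (Over.w g).symm)
  let z₁ : Over.mk b ⟶ H := Over.homMk w hw2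
  set g' : Over.mk b ⟶ G := (z₁ ≫ iH)⁻¹ * g with hg'def
  have hg' : NormalizesSub iH g' := normalizesSub_inv_mul iH hg z₁
  have hr : r ≫ g' = 1 := by
    have h0 : r ≫ g = r ≫ z₁ ≫ iH := Over.OverMorphism.ext (by
      show q ≫ g.left = q ≫ w ≫ iH.left
      rw [← Category.assoc, hw1]
      exact hz.symm)
    rw [hg'def, MonObj.comp_mul, GrpObj.comp_inv, h0, inv_mul_cancel]
  -- the conjugated torus
  let str : ∀ Y : Over (Spec (CommRingCat.of D)), (Over.map b).obj Y ⟶ Over.mk b := fun Y => Over.homMk Y.hom rfl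
  let e0 : Over.mk b ⟶ (Over.map b).obj (𝟙_ (Over (Spec (CommRingCat.of D)))) := Over.homMk (𝟙 _) (by simp)
  have hstr : ∀ (Y : Over (Spec (CommRingCat.of D))), str Y ≫ e0 = (Over.map b).map (toUnit Y) :=
    fun Y => Over.OverMorphism.ext (by
      show Y.hom ≫ 𝟙 _ = (toUnit Y).left
      rw [Category.comp_id]
      simpa using (Over.w (toUnit Y)).symm)
  let e1 : (Over.map b).obj (𝟙_ (Over (Spec (CommRingCat.of D)))) ⟶ Over.mk b := Over.homMk (𝟙 _) (by simp)
  obtain ⟨s', hs'⟩ := fl_surjective b G (e1 ≫ g')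
  have hsec : ∀ Y : Over (Spec (CommRingCat.of D)), fl b G (toUnit Y ≫ s') = str Y ≫ g' := fun Y => by
    rw [fl_comp, hs', ← Category.assoc]
    congr 1
  haveI : IsMonHom ((Over.pullback b).map iH) := inferInstance
  haveI : Mono ((Over.pullback b).map iH) := inferInstance
  obtain ⟨h', hh'⟩ := (hg' _ (str (Red.bc b T)) (fl b T (𝟙 (Red.bc b T)) ≫ t)).1
  obtain ⟨v, hv⟩ := fl_surjective b H h'
  have hvY : ∀ (Y : Over (Spec (CommRingCat.of D))) (y : Y ⟶ Red.bc b T),
      (y ≫ v) ≫ (Over.pullback b).map iH = (toUnit Y ≫ s') * (y ≫ (Over.pullback b).map iT) * (toUnit Y ≫ s')⁻¹ := by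
    have h0 : v ≫ (Over.pullback b).map iH =
        (toUnit _ ≫ s') * (Over.pullback b).map iT * (toUnit _ ≫ s')⁻¹ := fl_injective b G (by
      rw [fl_mul, fl_mul, fl_comp_map, MTRigid29.fl_inv b G, hsec, hv]
      rw [show fl b G ((Over.pullback b).map iT) = fl b T (𝟙 (Red.bc b T)) ≫ iT by rw [← fl_comp_map, Category.id_comp]]
      rw [← hh', Category.assoc (fl b T _) t iH, ht])
    intro Y y
    rw [Category.assoc, h0, MonObj.comp_mul, MonObj.comp_mul, GrpObj.comp_inv, ← Category.assoc, comp_toUnit]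
  haveI : IsMonHom v := TorsorSch25.isMonHom_of_points _ fun Y a c =>
    (cancel_mono ((Over.pullback b).map iH)).1 (by
      rw [hvY, MonObj.mul_comp, MonObj.mul_comp _ _ ((Over.pullback b).map iH), hvY, hvY]
      group)
  obtain ⟨A, _, _, jj, hjj, ⟨e⟩⟩ := MTRigid29.exists_model_affine
    (MTRigid29.isMT_of_ft (MTRigid29.isMultTypeFT_bc (isMultTypeFT_of_isTorus hTtor) b))
  obtain ⟨gb, -, hgb⟩ := MTRigid29.exists_conj_nilpotent e hjj ⟨2, hJ⟩ (MorphismProperty.pullback_snd H.hom b hs)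
    ((Over.pullback b).map t) v (1 : (Over.mk q : Over (Spec (CommRingCat.of D))) ⟶ Red.bc b H) fun Y p y => by
      rw [MonObj.comp_one, inv_one, _root_.one_mul, _root_.mul_one, ← cancel_mono ((Over.pullback b).map iH), hvY]
      have h1 : toUnit Y ≫ s' = 1 := fl_injective b G (by
        have hp : str Y = (Over.homMk p.left (by
            show p.left ≫ q ≫ b = Y.hom ≫ b
            rw [← Category.assoc]
            exact congrArg (· ≫ b) (Over.w p)) : (Over.map b).obj Y ⟶ Over.mk (q ≫ b)) ≫ r :=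
          Over.OverMorphism.ext (Over.w p).symm
        rw [hsec, hp, Category.assoc, hr, MonObj.comp_one, MTRigid29.fl_one])
      rw [h1, inv_one, _root_.one_mul, _root_.mul_one, Category.assoc, ← Functor.map_comp, ht]
  -- the corrected point centralises the torus
  let zb : Over.mk b ⟶ H := e0 ≫ fl b H gb
  have hzb : ∀ Y : Over (Spec (CommRingCat.of D)), fl b H (toUnit Y ≫ gb) = str Y ≫ zb := fun Y => by
    rw [fl_comp, ← hstr, Category.assoc]
  obtain ⟨C, _, c, hC, -, -⟩ := MTRigid29.exists_centralizer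
    (MTRigid29.isMT_of_ft (isMultTypeFT_of_isTorus hTtor)) inferInstance inferInstance iT
  obtain ⟨fC, hfC⟩ := hcart C c hC
  obtain ⟨zc, hzc⟩ := (hC.2.2 _ ((zb ≫ iH)⁻¹ * g')).2 fun X' x a => by
    let Y : Over (Spec (CommRingCat.of D)) := Over.mk x.left
    let i : X' ≅ (Over.map b).obj Y := Over.isoMk (Iso.refl _) ((Category.id_comp _).trans (Over.w x))
    have hix : i.hom ≫ str Y = x := Over.OverMorphism.ext (Category.id_comp _)
    obtain ⟨y, hy⟩ := fl_surjective b T (i.inv ≫ a)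
    have h2 := congrArg (fun m => fl b G (m ≫ (Over.pullback b).map iH)) (hgb Y y)
    simp only [hvY, MonObj.mul_comp, GrpObj.inv_comp, Category.assoc y, ← Functor.map_comp, ht, fl_mul,
      MTRigid29.fl_inv b G, hsec, fl_comp_map, hy, hzb] at h2
    have h3 := congrArg (i.hom ≫ ·) h2
    simp only [MonObj.comp_mul, GrpObj.comp_inv, ← Category.assoc, hix, Iso.hom_inv_id, Category.id_comp] at h3
    simp only [MonObj.comp_mul, GrpObj.comp_inv, ← Category.assoc]
    calc ((x ≫ zb) ≫ iH)⁻¹ * (x ≫ g') * (a ≫ iT)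
        = ((x ≫ zb) ≫ iH)⁻¹ * ((x ≫ g') * (a ≫ iT) * (x ≫ g')⁻¹) * (x ≫ g') := by group
      _ = (a ≫ iT) * (((x ≫ zb) ≫ iH)⁻¹ * (x ≫ g')) := by rw [h3]; group
  refine ⟨z₁ * zb * (zc ≫ fC), ?_⟩
  rw [MonObj.mul_comp, MonObj.mul_comp, Category.assoc zc fC iH, hfC, hzc, hg'def]
  group

omit [IsAlgClosed k] in
theorem normalizesSub_comp {iB : B ⟶ G} {X Y : Over (Spec (CommRingCat.of k))} (f : Y ⟶ X) {g : X ⟶ G}
    (hg : NormalizesSub iB g) : NormalizesSub iB (f ≫ g) := fun X' x a => by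
  have := hg X' (x ≫ f) a
  rwa [Category.assoc] at this

set_option maxHeartbeats 800000 in
/-- Over an algebraically closed field a smooth connected subgroup containing a maximal torus and its centraliser is its
own normaliser as soon as this holds on rational points. -/
theorem exists_lift_of_normalizesSub_of_pts {H T : Over (Spec (CommRingCat.of k))} [GrpObj H] [GrpObj T] {iH : H ⟶ G}
    [IsMonHom iH] [IsClosedImmersion iH.left] (hs : Smooth H.hom) [ConnectedSpace H.left] {iT : T ⟶ G}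
    (hT : AGF.IsMaxTorus iT) (t : T ⟶ H) (ht : t ≫ iH = iT)
    (hcart : ∀ (C : Over (Spec (CommRingCat.of k))) [GrpObj C] (c : C ⟶ G), Red.IsCentralizerOf iT c →
      ∃ f : C ⟶ H, f ≫ iH = c)
    (hpts : ∀ n : VecGrp.pt k k ⟶ G, (∀ y : VecGrp.pt k k ⟶ H, ∃ y', n * (y ≫ iH) * n⁻¹ = y' ≫ iH) →
      ∃ y : VecGrp.pt k k ⟶ H, y ≫ iH = n)
    {X : Over (Spec (CommRingCat.of k))} (g : X ⟶ G) (hg : NormalizesSub iH g) : ∃ f : X ⟶ H, f ≫ iH = g := by
  haveI := hs
  haveI : IsAffine H.left := isAffine_of_isAffineHom iH.left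
  haveI : Mono iH := Over.mono_of_mono_left iH
  obtain ⟨N, _, j, hj, hjc, -⟩ := S5260.result G H (fun s => by
    have hU : (H.hom ⁻¹' {s} : Set H.left) = Set.univ :=
      Set.eq_univ_of_forall fun b => Subsingleton.elim _ _
    have h1 : ConnectedSpace ↥(H.hom ⁻¹' {s} : Set H.left) := by
      rw [hU]
      exact Subtype.connectedSpace isConnected_univ
    exact (H.hom.fiberHomeo s).symm.surjective.connectedSpace (H.hom.fiberHomeo s).symm.continuous) iH
  haveI := hjc
  haveI : IsAffine N.left := isAffine_of_isAffineHom j.left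
  haveI : LocallyOfFiniteType N.hom := by rw [← Over.w j]; infer_instance
  have hnorm : NormalizesSub iH j := (hj.2.2 N j).1 ⟨𝟙 N, Category.id_comp j⟩
  obtain ⟨fN, hfN⟩ := exists_lift_of_points_of_squareZero iH j
    (fun x => hpts (x ≫ j) fun y => (hnorm _ x y).1)
    fun D _ J hJ b h ⟨z, hz⟩ => exists_lift_squareZero hs hT t ht hcart D J hJ b (h ≫ j)
      (normalizesSub_comp h hnorm) z hz
  obtain ⟨zN, hzN⟩ := (hj.2.2 X g).2 hg
  exact ⟨zN ≫ fN, by rw [Category.assoc, hfN, hzN]⟩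

/-- Over an algebraically closed field a Borel subgroup is its own normaliser. -/
theorem exists_lift_of_normalizesSub_closed {iB : B ⟶ G} (hB : Red.IsBorelOver k iB)
    {X : Over (Spec (CommRingCat.of k))} (g : X ⟶ G) (hg : NormalizesSub iB g) : ∃ f : X ⟶ B, f ≫ iB = g := by
  obtain ⟨hm, hcl, hs, hbn, -, -⟩ := id hB
  haveI := hm
  haveI := hcl
  haveI := hbn
  obtain ⟨T, _, iT, t, hT, ht⟩ := exists_maxTorus_le hB
  exact exists_lift_of_normalizesSub_of_pts hs hT t ht (fun C _ c hc => exists_lift_cartan_closed hT hc hB t ht)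
    (exists_pt_borel_of_normalize hB) g hg

end Borel

section Field

variable {k : Type u} [Field k] {G B : Over (Spec (CommRingCat.of k))} [GrpObj G] [GrpObj B]
  [IsAffine G.left] [Smooth G.hom] [ConnectedSpace G.left]

/-- A Borel subgroup is its own normaliser: over any extension by an algebraically closed field. -/
theorem exists_lift_of_normalizesSub_bc {K : Type u} [Field K] [IsAlgClosed K]
    (φ : Spec (CommRingCat.of K) ⟶ Spec (CommRingCat.of k)) {iB : B ⟶ G} [IsClosedImmersion iB.left]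
    (hB : Red.IsBorelOver K ((Over.pullback φ).map iB)) {X : Over (Spec (CommRingCat.of k))} (g : X ⟶ G)
    (hg : NormalizesSub iB g) : ∃ f : X ⟶ B, f ≫ iB = g := by
  haveI : IsAffine (Red.bc φ G).left := BorelFix21.isAffine_bc φ G
  haveI : Smooth (Red.bc φ G).hom := BorelFix21.smooth_bc φ G
  haveI : ConnectedSpace (Red.bc φ G).left := BorelFix21.connectedSpace_bc φ G
  obtain ⟨f, hf⟩ := exists_lift_of_normalizesSub_closed hB _ (normalizesSub_bc iB φ hg)
  exact exists_lift_of_bc φ iB g f hf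

/-- A Borel subgroup is its own normaliser. -/
theorem isNormalizerOf_borel {iB : B ⟶ G} (hB : Red.IsBorel iB) : Red.IsNormalizerOf iB iB := by
  haveI := hB.1
  haveI := hB.2.1
  haveI : Mono iB := Over.mono_of_mono_left iB
  exact isNormalizerOf_self_of iB fun X g hg =>
    exists_lift_of_normalizesSub_bc (Red.geomPt (IsLocalRing.closedPoint k)) (hB.2.2.2 _) g hg

end Field

end Groth.Agent.TorPts21
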