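import Groth.Agent.Lib.TorPts21.CartanBorel
import Mathlib.CategoryTheory.Subobject.Basic

/-!
# Finitely many Borel subgroups contain a given maximal torus
-/

set_option autoImplicit false
set_option linter.style.haveILetI false
set_option backward.isDefEq.respectTransparency.types false
universe u

open CategoryTheory Limits MonoidalCategory CartesianMonoidalCategory MonObj AlgebraicGeometry

noncomputable section

namespace Groth.Agent.TorPts21

attribute [local instance] InvRing21.gamAlg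

variable {k : Type u} [Field k] [IsAlgClosed k] {G T : Over (Spec (CommRingCat.of k))} [GrpObj G] [GrpObj T]
  [IsAffine G.left] [Smooth G.hom] [ConnectedSpace G.left]

set_option maxHeartbeats 1000000 in
/-- Only finitely many Borel subgroups contain a given maximal torus. -/
theorem finite_borels {iT : T ⟶ G} (hT : AGF.IsMaxTorus iT) :
    Set.Finite {P : Subobject G | ∃ (B : Over (Spec (CommRingCat.of k))) (_ : GrpObj B) (iB : B ⟶ G) (_ : Mono iB),
      Red.IsBorelOver k iB ∧ (∃ t : T ⟶ B, t ≫ iB = iT) ∧ P = Subobject.mk iB} := by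
  classical
  by_cases hex : ∃ (B : Over (Spec (CommRingCat.of k))) (_ : GrpObj B) (iB : B ⟶ G),
      Red.IsBorelOver k iB ∧ ∃ t : T ⟶ B, t ≫ iB = iT
  swap
  · refine Set.Finite.subset Set.finite_empty ?_
    rintro _ ⟨B, hBg, iB, _, hB, ht, -⟩
    exact (hex ⟨B, hBg, iB, hB, ht⟩).elim
  obtain ⟨B₀, _, iB₀, hB₀, t₀, ht₀⟩ := hex
  haveI := hT.1
  haveI := hB₀.1
  haveI := hB₀.2.1
  haveI : Mono iB₀ := Over.mono_of_mono_left iB₀
  obtain ⟨C, _, c, hC, -, -⟩ := MTRigid29.exists_centralizer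
    (MTRigid29.isMT_of_ft (isMultTypeFT_of_isTorus hT.2.2.1)) ‹_› inferInstance iT
  obtain ⟨fC, hfC⟩ := exists_lift_cartan_closed hT hC hB₀ t₀ ht₀
  obtain ⟨s, hs⟩ := exists_pt_centralizer iT hT.2.2.1
  obtain ⟨d, ⟨Ch⟩⟩ := exists_chars hT.2.2.1
  obtain ⟨n, r, hr, hrc⟩ := GrassAct21.exists_embedding_GL G
  haveI := hr
  haveI := hrc
  obtain ⟨Q, hQ⟩ := range_mtx_diag Ch (iT ≫ r)
  set a₀ := mtx r (gpt (s ≫ iT)) with ha₀
  let F : Set (GL (Fin n) k) := {g | ((Q * g * Q⁻¹ : GL (Fin n) k) : Matrix (Fin n) (Fin n) k).IsDiag ∧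
    (g : Matrix (Fin n) (Fin n) k).charpoly = (a₀ : Matrix (Fin n) (Fin n) k).charpoly}
  have hF : F.Finite := finite_of_isDiag_charpoly Q _
    (Matrix.charpoly_monic (a₀ : Matrix (Fin n) (Fin n) k)).ne_zero
  let R : GL (Fin n) k → Set (Subobject G) := fun τ =>
    {P | ∃ (x : 𝟙_ (Over (Spec (CommRingCat.of k))) ⟶ G),
      P = @Subobject.mk _ _ _ _ (AGF.conjBy x iB₀) (mono_conjBy x iB₀) ∧
      mtx r (gpt x) * a₀ * (mtx r (gpt x))⁻¹ = τ}
  refine Set.Finite.subset (hF.biUnion fun τ _ => (Set.Subsingleton.finite (s := R τ) ?_)) ?_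
  · rintro _ ⟨x, rfl, hx⟩ _ ⟨y, rfl, hy⟩
    let w := y⁻¹ * x
    have hw : w * (s ≫ iT) = (s ≫ iT) * w := by
      have h1 : mtx r (gpt (w * (s ≫ iT))) = mtx r (gpt ((s ≫ iT) * w)) := by
        simp only [w, gpt, MonObj.comp_mul, GrpObj.comp_inv, map_mul, map_inv] at hx hy ⊢
        rw [← hy] at hx
        rw [ha₀] at hx
        simp only [gpt] at hx
        calc _ = (mtx r (toUnit _ ≫ y))⁻¹ * (mtx r (toUnit _ ≫ x) * mtx r (toUnit _ ≫ s ≫ iT) *
              (mtx r (toUnit _ ≫ x))⁻¹) * mtx r (toUnit _ ≫ x) := by group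
          _ = _ := by rw [hx]; group
      have h2 := congrArg (InvRing21.toPt (𝟙_ (Over (Spec (CommRingCat.of k)))) ≫ ·) (mtxFn_injective r h1)
      simp only [gpt, ← Category.assoc] at h2
      rwa [toUnit_unique (InvRing21.toPt (𝟙_ (Over (Spec (CommRingCat.of k)))) ≫ toUnit (VecGrp.pt k k)) (𝟙 _),
        Category.id_comp, Category.id_comp] at h2
    obtain ⟨z, hz⟩ := (hC.2.2 _ w).2 ((hs _ w).1 (by
      rwa [toUnit_unique (toUnit (𝟙_ (Over (Spec (CommRingCat.of k))))) (𝟙 _), Category.id_comp]))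
    let b := z ≫ fC
    have hb : b ≫ iB₀ = w := by rw [Category.assoc, hfC, hz]
    have hinv : ∀ β : 𝟙_ (Over (Spec (CommRingCat.of k))) ⟶ B₀,
        AGF.conjBy β (𝟙 B₀) ≫ AGF.conjBy β⁻¹ (𝟙 B₀) = 𝟙 B₀ := fun β => by
      rw [comp_conjBy, Category.comp_id, AGF.conjBy, GrpObj.comp_inv]
      group
    let ρ : B₀ ≅ B₀ := ⟨AGF.conjBy b (𝟙 B₀), AGF.conjBy b⁻¹ (𝟙 B₀), hinv b,
      by simpa only [inv_inv] using hinv b⁻¹⟩
    haveI := mono_conjBy x iB₀
    haveI := mono_conjBy y iB₀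
    refine Subobject.mk_eq_mk_of_comm _ _ ρ ?_
    show AGF.conjBy b (𝟙 B₀) ≫ AGF.conjBy y iB₀ = AGF.conjBy x iB₀
    rw [comp_conjBy, show AGF.conjBy b (𝟙 B₀) ≫ iB₀ = AGF.conjBy w iB₀ by
      rw [AGF.conjBy, AGF.conjBy, MonObj.mul_comp, MonObj.mul_comp, GrpObj.inv_comp, Category.assoc, hb,
        Category.id_comp]]
    simp only [AGF.conjBy, w, MonObj.comp_mul, GrpObj.comp_inv]
    group
  · rintro P ⟨B, hBg, iB, hmono, hB, ⟨t, ht⟩, rfl⟩
    haveI := hB.1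
    obtain ⟨x, φ, f', hφ, hf'⟩ := exists_conj_pair iB₀ iB hB₀ hB hT hT t₀ ht₀ t ht
    simp only [Set.mem_iUnion]
    refine ⟨mtx r (gpt x) * a₀ * (mtx r (gpt x))⁻¹, ⟨?_, ?_⟩, x, ?_, rfl⟩
    · refine hQ _ ⟨gpt s ≫ f'.hom, ?_⟩
      rw [mtx_comp, Category.assoc, hf', comp_conjBy, map_mul, map_mul, map_inv, ha₀,
        toUnit_unique (toUnit (VecGrp.pt k k)) (toUnit _)]
      rfl
    · rw [Units.val_mul, Units.val_mul, Matrix.coe_units_inv, Matrix.charpoly_units_conj]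
    · haveI := mono_conjBy x iB₀
      exact (Subobject.mk_eq_mk_of_comm _ _ φ hφ).symm

end Groth.Agent.TorPts21
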