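import Groth.Agent.Lib.TorPts21.BorelChart
import Groth.Agent.Lib.BorelFix21.BorelConj

/-!
# Extremality of the fixed points of a maximal torus and the covering by charts
-/

set_option autoImplicit false
set_option linter.style.haveILetI false
set_option backward.isDefEq.respectTransparency.types false
universe u

open CategoryTheory Limits MonoidalCategory CartesianMonoidalCategory MonObj AlgebraicGeometry

noncomputable section

namespace Groth.Agent.TorPts21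

open MatGrp21 InvRing21 DiagGL
open scoped Matrix

attribute [local instance] InvRing21.gamAlg BorelFix21.ptsTop

variable {k : Type u} [Field k] [IsAlgClosed k]

/-- Rational points separate the characters of a split torus. -/
theorem eq_of_forall_ptChr {σ : Over (Spec (CommRingCat.of k))} [GrpObj σ] {d : ℕ} (C : Chars (Fin d → ℤ) σ)
    {a a' : Fin d → ℤ}
    (h : ∀ x, ptChr C x (Multiplicative.ofAdd a) = ptChr C x (Multiplicative.ofAdd a')) : a = a' := by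
  classical
  funext i
  by_contra hne
  obtain ⟨s₀, hs₀⟩ := Infinite.exists_notMem_finset
    (insert 0 (Polynomial.nthRoots (a i - a' i).natAbs (1 : k)).toFinset)
  simp only [Finset.mem_insert, Multiset.mem_toFinset, not_or] at hs₀
  obtain ⟨hs0, hs1⟩ := hs₀
  obtain ⟨x, hx⟩ := exists_cochar_pt C (Pi.single i 1) (Units.mk0 s₀ hs0)
  have h1 := h x
  rw [hx, hx] at h1
  simp only [pairing, Pi.single_apply, mul_ite, _root_.mul_one, mul_zero, Finset.sum_ite_eq', Finset.mem_univ,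
    if_true] at h1
  have h2 : (Units.mk0 s₀ hs0) ^ (a i - a' i) = 1 := by rw [zpow_sub, Units.ext h1, mul_inv_cancel]
  refine hs1 ((Polynomial.mem_nthRoots (Int.natAbs_pos.2 (sub_ne_zero.2 hne))).2 ?_)
  rcases Int.natAbs_eq (a i - a' i) with e | e
  · rw [e, zpow_natCast] at h2
    simpa using congrArg Units.val h2
  · rw [e, zpow_neg, zpow_natCast, inv_eq_one] at h2
    simpa using congrArg Units.val h2

section Top

variable {G H X : Over (Spec (CommRingCat.of k))} [GrpObj G] [GrpObj H] [IsAffine G.left] [Smooth G.hom]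
  {i : H ⟶ G} [IsClosedImmersion i.left] {a : AlgGrp.Action G X} {o : 𝟙_ (Over (Spec (CommRingCat.of k))) ⟶ X}

/-- The leading part of a linear combination along a family of parameters lies in the cone. -/
theorem exists_top (hX : AGF.IsQuotient i X a o) [IsProper X.hom] {m : ℕ} {c : Fin m → Γ(G.left, ⊤)}
    {l : (VecGrp.pt k k ⟶ H) → k} (hc : ∀ α, Semi i l (c α)) (hne : ∀ x : VecGrp.pt k k ⟶ G, ∃ α, val x (c α) ≠ 0)
    {J : Type} [Fintype J] (K : Fin m → J → k) (n : J → ℤ) (N : ℤ) (hN : ∀ α j, K α j ≠ 0 → n j ≤ N)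
    (hcurve : ∀ s : kˣ, ∃ (g : VecGrp.pt k k ⟶ G),
      ∀ α, val g (c α) = ∑ j, K α j * ((s ^ (-n j) : kˣ) : k)) :
    ∃ (g : VecGrp.pt k k ⟶ G) (lam : k), ∀ α, (∑ j, if n j = N then K α j else 0) = lam * val g (c α) := by
  classical
  obtain ⟨g, lam, hg⟩ := exists_limit hX c hc hne
    (fun α => ∑ j, Polynomial.C (K α j) * Polynomial.X ^ (N - n j).toNat) fun s hs => by
      obtain ⟨g, hg⟩ := hcurve (Units.mk0 s hs)
      refine ⟨g, ((Units.mk0 s hs ^ N : kˣ) : k), fun α => ?_⟩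
      rw [hg, Finset.mul_sum, Polynomial.eval_finsetSum]
      refine Finset.sum_congr rfl fun j _ => ?_
      rw [Polynomial.eval_mul, Polynomial.eval_C, Polynomial.eval_pow, Polynomial.eval_X]
      by_cases hK : K α j = 0
      · rw [hK, zero_mul, zero_mul, mul_zero]
      · rw [mul_left_comm, ← Units.val_mul, ← zpow_add]
        congr 1
        rw [show N + -n j = ((N - n j).toNat : ℤ) by rw [Int.toNat_of_nonneg (by linarith [hN α j hK])]; ring,
          zpow_natCast, Units.val_pow_eq_pow_val, Units.val_mk0]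
  refine ⟨g, lam, fun α => ?_⟩
  rw [← hg, Polynomial.eval_finsetSum]
  refine Finset.sum_congr rfl fun j _ => ?_
  rw [Polynomial.eval_mul, Polynomial.eval_C, Polynomial.eval_pow, Polynomial.eval_X]
  by_cases hK : K α j = 0
  · simp [hK]
  · have := hN α j hK
    by_cases hj : n j = N
    · rw [if_pos hj, hj, sub_self, Int.toNat_zero, pow_zero, _root_.mul_one]
    · rw [if_neg hj, zero_pow (by omega), mul_zero]

end Top

variable {G B T : Over (Spec (CommRingCat.of k))} [GrpObj G] [GrpObj B] [GrpObj T] [IsAffine G.left] [Smooth G.hom]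
  [ConnectedSpace G.left]

set_option maxHeartbeats 4000000 in
/-- The variety of Borel subgroups is proper, embedded by semi-invariant functions, and covered by charts attached to
the Borel subgroups containing a given maximal torus. -/
theorem exists_borel_charts {iB : B ⟶ G} (hB : Red.IsBorelOver k iB) {iT : T ⟶ G} (hT : AGF.IsMaxTorus iT) :
    ∃ (X : Over (Spec (CommRingCat.of k))) (a : AlgGrp.Action G X) (o : 𝟙_ (Over (Spec (CommRingCat.of k))) ⟶ X)
      (m : ℕ) (c : Fin m → Γ(G.left, ⊤)) (l : (VecGrp.pt k k ⟶ B) → k),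
      AGF.IsQuotient iB X a o ∧ IsProper X.hom ∧
      (∃ (r : G ⟶ GLs k m) (_ : IsMonHom r), ∀ g x, vec c (g * x) = (mtx r g : Matrix (Fin m) (Fin m) k) *ᵥ vec c x) ∧
      (∀ α, Semi iB l (c α)) ∧
      (∀ x : VecGrp.pt k k ⟶ G, ∃ α, val x (c α) ≠ 0) ∧
      (∀ (x y : VecGrp.pt k k ⟶ G) (lam : k), vec c y = lam • vec c x →
        ∃ b : VecGrp.pt k k ⟶ B, y = x * (b ≫ iB)) ∧
      ∀ x : VecGrp.pt k k ⟶ G, ∃ (B'' : Over (Spec (CommRingCat.of k))) (_ : GrpObj B'') (iB'' : B'' ⟶ G) (t : T ⟶ B'')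
        (φ : Fin m → k), Red.IsBorelOver k iB'' ∧ t ≫ iB'' = iT ∧ φ ⬝ᵥ vec c x ≠ 0 ∧
        ∀ b : VecGrp.pt k k ⟶ B'', ∃ δ : k, ∀ z, φ ⬝ᵥ vec c ((b ≫ iB'') * z) = δ * (φ ⬝ᵥ vec c z) := by
  classical
  obtain ⟨hm, hcl, hs, hn, hsol, -⟩ := id hB
  haveI := hm
  haveI := hcl
  haveI := hs
  haveI := hn
  haveI := hT.1
  haveI := hT.2.1
  obtain ⟨hTa, hTs, hTc, hTsol⟩ := props_of_isTorus hT.2.2.1
  haveI := hTa
  haveI := hTs
  haveI := hTc
  haveI := isClosedImmersion_of_torus hT.2.2.1 iT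
  haveI : IsAffine B.left := isAffine_of_isAffineHom iB.left
  haveI : IsClosedImmersion (𝟙 B ≫ iB).left := by rw [Category.id_comp]; infer_instance
  obtain ⟨X, a, o, hX, hXs, -⟩ := GrassAct21.exists_quotient_affine iB
  haveI := hXs
  haveI : IsProper X.hom := BorelFix21.isProper_of_borel_le hX (𝟙 B) (by rw [Category.id_comp]; exact hB)
  obtain ⟨m, r, hr, c, χ, hχ, hsemi, hρ', hne, hsep'⟩ := exists_lineRep iB
  haveI := hr
  set l : (VecGrp.pt k k ⟶ B) → k := fun h => val h (Red.gmFn χ) with hl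
  have hρ : ∀ g x, vec c (g * x) = (mtx r g : Matrix (Fin m) (Fin m) k) *ᵥ vec c x := fun g x => funext fun α =>
    hρ' g x α
  have hright : ∀ x (b : VecGrp.pt k k ⟶ B), vec c (x * (b ≫ iB)) = l b • vec c x := fun x b => funext fun α =>
    hsemi α x b
  have hvne : ∀ x, vec c x ≠ 0 := fun x h => by
    obtain ⟨α, hα⟩ := hne x
    exact hα (congrFun h α)
  have hlne : ∀ b, l b ≠ 0 := fun b h => hvne (1 * (b ≫ iB)) (by rw [hright, h, zero_smul])
  have hsep : ∀ (x y : VecGrp.pt k k ⟶ G) (lam : k), vec c y = lam • vec c x →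
      ∃ b : VecGrp.pt k k ⟶ B, y = x * (b ≫ iB) := fun x y lam h => by
    obtain ⟨b, hb⟩ := hsep' (x⁻¹ * y) fun α β => by
      have h1 : vec c (x⁻¹ * y) = lam • vec c 1 := by
        rw [hρ, h, Matrix.mulVec_smul, ← hρ, inv_mul_cancel]
      show vec c (x⁻¹ * y) α * vec c 1 β = vec c (x⁻¹ * y) β * vec c 1 α
      rw [h1, Pi.smul_apply, Pi.smul_apply, smul_eq_mul, smul_eq_mul]
      ring
    exact ⟨b, by rw [hb, mul_inv_cancel_left]⟩
  refine ⟨X, a, o, m, c, l, hX, inferInstance, ⟨r, hr, hρ⟩, hsemi, hne, hsep, ?_⟩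
  -- weights
  obtain ⟨d, ⟨C⟩⟩ := exists_chars hT.2.2.1
  obtain ⟨P, wt, hP⟩ := exists_weights C (iT ≫ r)
  let e : (VecGrp.pt k k ⟶ T) → Fin m → k := fun τ j => ptChr C τ (Multiplicative.ofAdd (wt j))
  let w : (VecGrp.pt k k ⟶ G) → Fin m → k := fun x => (P : Matrix (Fin m) (Fin m) k) *ᵥ vec c x
  have hPP : ∀ u : Fin m → k, ((P⁻¹ : GL (Fin m) k) : Matrix (Fin m) (Fin m) k) *ᵥ
      ((P : Matrix (Fin m) (Fin m) k) *ᵥ u) = u := fun u => by
    rw [Matrix.mulVec_mulVec, Units.inv_mul, Matrix.one_mulVec]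
  have hvw : ∀ x, vec c x = ((P⁻¹ : GL (Fin m) k) : Matrix (Fin m) (Fin m) k) *ᵥ w x := fun x => (hPP _).symm
  have hwτ : ∀ τ x j, w ((τ ≫ iT) * x) j = e τ j * w x j := fun τ x j => by
    have h1 : (P : Matrix (Fin m) (Fin m) k) * (mtx r (τ ≫ iT) : Matrix (Fin m) (Fin m) k) =
        Matrix.diagonal (e τ) * (P : Matrix (Fin m) (Fin m) k) := by
      rw [← hP τ, ← Units.val_mul, ← Units.val_mul, mtx_comp, inv_mul_cancel_right]
    show ((P : Matrix (Fin m) (Fin m) k) *ᵥ vec c ((τ ≫ iT) * x)) j = _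
    rw [hρ, Matrix.mulVec_mulVec, h1, ← Matrix.mulVec_mulVec, Matrix.mulVec_diagonal]
  let Occ : Finset (Fin m) := Finset.univ.filter fun j => ∃ x, w x j ≠ 0
  have hOcc : ∀ x j, w x j ≠ 0 → j ∈ Occ := fun x j h => Finset.mem_filter.2 ⟨Finset.mem_univ _, x, h⟩
  have hwne : ∀ x, ∃ j, w x j ≠ 0 := fun x => by
    by_contra! h
    exact hvne x (by rw [hvw, show w x = 0 from funext h, Matrix.mulVec_zero])
  obtain ⟨b₀, hb₀⟩ := exists_pairing_ne_zero
    (((Occ ×ˢ Occ).image fun p => wt p.1 - wt p.2).filter (· ≠ 0)) fun v hv => (Finset.mem_filter.1 hv).2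
  let n₀ : Fin m → ℤ := fun j => pairing (wt j) b₀
  have hsepn : ∀ j j', j ∈ Occ → j' ∈ Occ → n₀ j = n₀ j' → wt j = wt j' := fun j j' hj hj' h => by
    by_contra hne'
    refine hb₀ (wt j - wt j') (Finset.mem_filter.2 ⟨Finset.mem_image.2 ⟨(j, j'),
      Finset.mem_product.2 ⟨hj, hj'⟩, rfl⟩, sub_ne_zero.2 hne'⟩) ?_
    simp only [pairing, Pi.sub_apply, sub_mul, Finset.sum_sub_distrib]
    exact sub_eq_zero.2 h
  -- limits of points
  have hlimit : ∀ x, ∃ (g : VecGrp.pt k k ⟶ G) (A : Fin d → ℤ) (lam : k) (j₀ : Fin m), lam ≠ 0 ∧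
      w x j₀ ≠ 0 ∧ wt j₀ = A ∧ (∀ j, w x j ≠ 0 → n₀ j ≤ n₀ j₀) ∧
      (∀ j, w g j ≠ 0 → wt j = A) ∧ ∀ j, wt j = A → w x j = lam * w g j := by
    intro x
    obtain ⟨j₁, hj₁⟩ := hwne x
    obtain ⟨j₀, hj₀, hmax⟩ := (Finset.univ.filter fun j => w x j ≠ 0).exists_max_image n₀
      ⟨j₁, Finset.mem_filter.2 ⟨Finset.mem_univ _, hj₁⟩⟩
    replace hj₀ := (Finset.mem_filter.1 hj₀).2
    replace hmax : ∀ j, w x j ≠ 0 → n₀ j ≤ n₀ j₀ := fun j hj => hmax j (Finset.mem_filter.2 ⟨Finset.mem_univ _, hj⟩)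
    obtain ⟨g, lam, hg⟩ := exists_top hX hsemi hne
      (fun α j => ((P⁻¹ : GL (Fin m) k) : Matrix (Fin m) (Fin m) k) α j * w x j) n₀ (n₀ j₀)
      (fun α j hK => hmax j (right_ne_zero_of_mul hK)) fun s => by
        obtain ⟨τ, hτ⟩ := exists_cochar_pt C b₀ s⁻¹
        refine ⟨(τ ≫ iT) * x, fun α => ?_⟩
        rw [show val ((τ ≫ iT) * x) (c α) = vec c ((τ ≫ iT) * x) α from rfl, hvw]
        simp only [Matrix.mulVec, dotProduct]
        refine Finset.sum_congr rfl fun j _ => ?_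
        rw [hwτ, show e τ j = _ from hτ (wt j), inv_zpow, ← zpow_neg]
        ring
    have htop : (fun j => if n₀ j = n₀ j₀ then w x j else 0) = lam • w g := by
      have h1 : ((P⁻¹ : GL (Fin m) k) : Matrix (Fin m) (Fin m) k) *ᵥ (fun j => if n₀ j = n₀ j₀ then w x j else 0) =
          lam • vec c g := funext fun α => by
        simp only [Matrix.mulVec, dotProduct]
        refine Eq.trans (Finset.sum_congr rfl fun j _ => ?_) (hg α)
        split_ifs <;> simp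
      have h2 := congrArg (fun u => (P : Matrix (Fin m) (Fin m) k) *ᵥ u) h1
      simpa [Matrix.mulVec_mulVec, Matrix.mulVec_smul, w] using h2
    have hlam : lam ≠ 0 := fun h0 => hj₀ (by simpa [h0] using congrFun htop j₀)
    refine ⟨g, wt j₀, lam, j₀, hlam, hj₀, rfl, hmax, fun j hj => ?_, fun j hj => ?_⟩
    · have h := congrFun htop j
      simp only [Pi.smul_apply, smul_eq_mul] at h
      split_ifs at h with hn
      · exact hsepn j j₀ (hOcc g j hj) (hOcc x j₀ hj₀) hn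
      · exact absurd h.symm (mul_ne_zero hlam hj)
    · have h := congrFun htop j
      simp only [Pi.smul_apply, smul_eq_mul] at h
      rwa [if_pos (by simp only [n₀, hj])] at h
  -- fixed points: their conjugate tori lie in the Borel subgroup
  have hfix : ∀ g A, (∀ j, w g j ≠ 0 → wt j = A) → ∀ τ : VecGrp.pt k k ⟶ T,
      vec c ((τ ≫ iT) * g) = ptChr C τ (Multiplicative.ofAdd A) • vec c g := fun g A hA τ => by
    rw [hvw, hvw g, ← Matrix.mulVec_smul]
    congr 1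
    funext j
    rw [Pi.smul_apply, hwτ, smul_eq_mul]
    by_cases hj : w g j = 0
    · rw [hj, mul_zero, mul_zero]
    · show ptChr C τ (Multiplicative.ofAdd (wt j)) * _ = _
      rw [hA j hj]
  have hinB : ∀ g A, (∀ j, w g j ≠ 0 → wt j = A) → ∀ g₀, gpt g₀ = g →
      ∃ t : T ⟶ B, t ≫ iB = AGF.conjBy g₀⁻¹ iT := fun g A hA g₀ hg₀ => by
    haveI := isMonHom_conjBy g₀⁻¹ iT
    refine exists_lift_of_pts iB (AGF.conjBy g₀⁻¹ iT) fun τ => ?_
    obtain ⟨b, hb⟩ := hsep g _ _ (hfix g A hA τ)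
    refine ⟨b, ?_⟩
    rw [comp_conjBy, GrpObj.comp_inv, inv_inv, show toUnit (VecGrp.pt k k) ≫ g₀ = g from hg₀, _root_.mul_assoc, hb,
      inv_mul_cancel_left]
  obtain ⟨ξ, ⟨x₁, hx₁⟩, hξ⟩ := exists_eigen_functional iB hsol r c hρ ⟨1, hvne 1⟩
  obtain ⟨S, hSsub, hSspan, hSli⟩ := exists_linearIndependent k (Set.range (vec c))
  haveI : Fintype S := (hSli.setFinite).fintype
  obtain ⟨sN, eS⟩ : ∃ sN, Nonempty (S ≃ Fin sN) := ⟨_, ⟨Fintype.equivFin S⟩⟩
  obtain ⟨eS⟩ := eS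
  choose xs hxs using fun i : Fin sN => hSsub (eS.symm i).2
  have hspan : ∀ Λ : Fin m → k, (∀ i, Λ ⬝ᵥ vec c (xs i) = 0) → ∀ z, Λ ⬝ᵥ vec c z = 0 := fun Λ h z => by
    have hz : vec c z ∈ Submodule.span k S := hSspan ▸ Submodule.subset_span ⟨z, rfl⟩
    refine Submodule.span_induction (p := fun u _ => Λ ⬝ᵥ u = 0) (fun u hu => ?_) (dotProduct_zero _)
      (fun u u' _ _ hu hu' => by rw [dotProduct_add, hu, hu', add_zero])
      (fun q u _ hu => by rw [dotProduct_smul, hu, smul_zero]) hz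
    have := h (eS ⟨u, hu⟩)
    rwa [hxs, Equiv.symm_apply_apply] at this
  -- the extremality: reference point
  obtain ⟨jmax, hjmax, hjtop⟩ := Occ.exists_max_image n₀ (by
    obtain ⟨j, hj⟩ := hwne 1
    exact ⟨j, hOcc 1 j hj⟩)
  obtain ⟨xstar, hxstar⟩ := (Finset.mem_filter.1 hjmax).2
  obtain ⟨gstar, Astar, lams, js, hlams, hjs, hjsA, hjsmax, hgstarA, -⟩ := hlimit xstar
  have hAmax : ∀ j ∈ Occ, wt j ≠ Astar → n₀ j < n₀ js := fun j hj hne' => by
    have h1 : n₀ js = n₀ jmax := le_antisymm (hjtop js (hOcc xstar js hjs)) (hjsmax jmax hxstar)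
    refine lt_of_le_of_ne ((hjtop j hj).trans h1.ge) fun h => hne' ?_
    rw [← hjsA]
    exact hsepn j js hj (hOcc xstar js hjs) h
  obtain ⟨gstar₀, hgstar₀⟩ := exists_gpt gstar
  obtain ⟨tstar, htstar⟩ := hinB gstar Astar hgstarA gstar₀ hgstar₀
  have hext : ∀ g A, (∀ j, w g j ≠ 0 → wt j = A) → ∃ (n : Fin m → ℤ) (N : ℤ),
      (∀ j ∈ Occ, wt j = A → n j = N) ∧ (∀ j ∈ Occ, wt j ≠ A → n j < N) ∧
      ∀ s : kˣ, ∃ τ : VecGrp.pt k k ⟶ T, ∀ j ∈ Occ, e τ j = ((s ^ n j : kˣ) : k) := by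
    intro g A hA
    obtain ⟨g₀, hg₀⟩ := exists_gpt g
    obtain ⟨tg, htg⟩ := hinB g A hA g₀ hg₀
    obtain ⟨y, f, -, hf, -⟩ := exists_conj_of_solvable iB hsol (isMaxTorus_conjBy hT g₀⁻¹)
      (isMaxTorus_conjBy hT gstar₀⁻¹) tg htg tstar htstar
    let nn : VecGrp.pt k k ⟶ G := gstar * (gpt y ≫ iB) * g⁻¹
    have hconj : ∀ τ : VecGrp.pt k k ⟶ T, nn * (τ ≫ iT) = ((τ ≫ f.hom) ≫ iT) * nn := fun τ => by
      have h1 := congrArg (fun q => τ ≫ q) hf
      simp only [← Category.assoc] at h1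
      rw [comp_conjBy, comp_conjBy, comp_conjBy, GrpObj.comp_inv, GrpObj.comp_inv, inv_inv, inv_inv,
        show toUnit (VecGrp.pt k k) ≫ g₀ = g from hg₀, show toUnit (VecGrp.pt k k) ≫ gstar₀ = gstar from hgstar₀,
        show toUnit (VecGrp.pt k k) ≫ y ≫ iB = gpt y ≫ iB from (Category.assoc _ _ _).symm] at h1
      show gstar * (gpt y ≫ iB) * g⁻¹ * (τ ≫ iT) = _ * (gstar * (gpt y ≫ iB) * g⁻¹)
      calc gstar * (gpt y ≫ iB) * g⁻¹ * (τ ≫ iT)
          = gstar * ((gpt y ≫ iB) * (g⁻¹ * (τ ≫ iT) * g) * (gpt y ≫ iB)⁻¹) * (gpt y ≫ iB) * g⁻¹ := by group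
        _ = _ := by rw [← h1]; group
    have hnn : nn * g = gstar * (gpt y ≫ iB) := by simp only [nn]; group
    clear_value nn
    let Q : GL (Fin m) k := P * (mtx r nn)⁻¹ * P⁻¹
    have hQw : ∀ x, w x = (Q : Matrix (Fin m) (Fin m) k) *ᵥ w (nn * x) := fun x => by
      show _ = (Q : Matrix (Fin m) (Fin m) k) *ᵥ ((P : Matrix (Fin m) (Fin m) k) *ᵥ vec c (nn * x))
      rw [hρ, Matrix.mulVec_mulVec, Matrix.mulVec_mulVec]
      simp only [← Units.val_mul]
      rw [show Q * P * mtx r nn = P by simp only [Q]; group]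
    have hQcomm : ∀ τ j j', (Q : Matrix (Fin m) (Fin m) k) j j' ≠ 0 → e τ j = e (τ ≫ f.hom) j' := by
      intro τ j j' hjj
      have h1 : Matrix.diagonal (e τ) * (Q : Matrix (Fin m) (Fin m) k) =
          (Q : Matrix (Fin m) (Fin m) k) * Matrix.diagonal (e (τ ≫ f.hom)) := by
        have h := congrArg (mtx r) (hconj τ)
        rw [map_mul, map_mul] at h
        rw [← hP τ, ← hP (τ ≫ f.hom), mtx_comp, mtx_comp, ← Units.val_mul, ← Units.val_mul]
        congr 1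
        simp only [Q]
        calc P * mtx r (τ ≫ iT) * P⁻¹ * (P * (mtx r nn)⁻¹ * P⁻¹)
            = P * (mtx r nn)⁻¹ * (mtx r nn * mtx r (τ ≫ iT)) * (mtx r nn)⁻¹ * P⁻¹ := by group
          _ = _ := by rw [h]; group
      have h2 := congrFun (congrFun h1 j) j'
      rw [Matrix.diagonal_mul, Matrix.mul_diagonal, _root_.mul_comm ((Q : Matrix (Fin m) (Fin m) k) j j')] at h2
      exact mul_right_cancel₀ hjj h2
    have hσ : ∀ j ∈ Occ, ∃ j' ∈ Occ, ∀ τ, e τ j = e (τ ≫ f.hom) j' := fun j hj => by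
      obtain ⟨x, hx⟩ := (Finset.mem_filter.1 hj).2
      rw [hQw] at hx
      simp only [Matrix.mulVec, dotProduct] at hx
      obtain ⟨j', -, hj'⟩ := Finset.exists_ne_zero_of_sum_ne_zero hx
      exact ⟨j', hOcc _ j' (right_ne_zero_of_mul hj'), fun τ => hQcomm τ j j' (left_ne_zero_of_mul hj')⟩
    choose! σ hσO hσe using hσ
    obtain ⟨jA, hjA⟩ := hwne g
    have hAchar : ∀ τ, ptChr C τ (Multiplicative.ofAdd A) = ptChr C (τ ≫ f.hom) (Multiplicative.ofAdd Astar) := by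
      intro τ
      have hx := hjA
      rw [hQw] at hx
      simp only [Matrix.mulVec, dotProduct] at hx
      obtain ⟨j', -, hj'⟩ := Finset.exists_ne_zero_of_sum_ne_zero hx
      have h1 : w gstar j' ≠ 0 := by
        intro h0
        refine right_ne_zero_of_mul hj' ?_
        show ((P : Matrix (Fin m) (Fin m) k) *ᵥ vec c (nn * g)) j' = 0
        rw [hnn, hright, Matrix.mulVec_smul, Pi.smul_apply,
          show ((P : Matrix (Fin m) (Fin m) k) *ᵥ vec c gstar) j' = 0 from h0, smul_zero]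
      rw [← hA jA hjA, ← hgstarA j' h1]
      exact hQcomm τ jA j' (left_ne_zero_of_mul hj')
    refine ⟨fun j => n₀ (σ j), n₀ js, fun j hj hjA' => ?_, fun j hj hjA' => hAmax _ (hσO j hj) fun h => hjA' ?_,
      fun s => ?_⟩
    · show pairing (wt (σ j)) b₀ = pairing (wt js) b₀
      rw [hjsA]
      congr 1
      refine eq_of_forall_ptChr C fun x => ?_
      have h1 := hσe j hj (x ≫ f.inv)
      simp only [e, Category.assoc, Iso.inv_hom_id, Category.comp_id] at h1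
      rw [← h1, hjA', hAchar, Category.assoc, Iso.inv_hom_id, Category.comp_id]
    · refine eq_of_forall_ptChr C fun x => ?_
      show e x j = _
      rw [hσe j hj x, hAchar]
      simp only [e, h]
    · obtain ⟨x, hx⟩ := exists_cochar_pt C b₀ s
      refine ⟨x ≫ f.inv, fun j hj => ?_⟩
      rw [hσe j hj, Category.assoc, Iso.inv_hom_id, Category.comp_id]
      exact hx _
  -- the charts
  intro x
  obtain ⟨g, A, lam, j₀, hlam, -, -, -, hgA, hxg⟩ := hlimit x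
  obtain ⟨n, N, hnA, hnlt, hfam⟩ := hext g A hgA
  let y₀ : VecGrp.pt k k ⟶ G := g * x₁⁻¹
  let ζ : Fin m → k := ξ ᵥ* ((mtx r y₀⁻¹ : Matrix (Fin m) (Fin m) k) * ((P⁻¹ : GL (Fin m) k) : Matrix (Fin m) (Fin m) k))
  have hψ : ∀ z, ξ ⬝ᵥ vec c (y₀⁻¹ * z) = ζ ⬝ᵥ w z := fun z => by
    rw [hρ, hvw z, Matrix.mulVec_mulVec, Matrix.dotProduct_mulVec]
  let ζA : Fin m → k := fun j => if wt j = A then ζ j else 0
  let φ : Fin m → k := ζA ᵥ* (P : Matrix (Fin m) (Fin m) k)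
  have hφw : ∀ z, φ ⬝ᵥ vec c z = ζA ⬝ᵥ w z := fun z => (Matrix.dotProduct_mulVec _ _ _).symm
  have hφg : φ ⬝ᵥ vec c g ≠ 0 := by
    rw [hφw, show ζA ⬝ᵥ w g = ζ ⬝ᵥ w g from Finset.sum_congr rfl fun j _ => by
      by_cases hj : w g j = 0
      · rw [hj, mul_zero, mul_zero]
      · simp only [ζA, if_pos (hgA j hj)], ← hψ]
    rwa [show y₀⁻¹ * g = x₁ by simp only [y₀]; group]
  have hφx : φ ⬝ᵥ vec c x ≠ 0 := by
    rw [hφw, show ζA ⬝ᵥ w x = lam * (ζA ⬝ᵥ w g) by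
      rw [dotProduct, dotProduct, Finset.mul_sum]
      refine Finset.sum_congr rfl fun j _ => ?_
      by_cases hj : wt j = A
      · rw [hxg j hj]; ring
      · simp only [ζA, if_neg hj, zero_mul, mul_zero], ← hφw]
    exact mul_ne_zero hlam hφg
  -- the limit of the functionals
  let d : Fin sN → Γ(G.left, ⊤) := fun i =>
    ((𝟙 G)⁻¹ * (toPt G ≫ xs i)).left.appTop (∑ α, ξ α • c α)
  have hd : ∀ (y : VecGrp.pt k k ⟶ G) i, val y (d i) = ξ ⬝ᵥ vec c (y⁻¹ * xs i) := fun y i => by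
    rw [appTop_val, MonObj.comp_mul, GrpObj.comp_inv, Category.comp_id, ← Category.assoc, comp_toPt, toPt_pt,
      Category.id_comp, map_sum]
    simp [dotProduct, vec]
  choose δ hδ using hξ
  have hdsemi : ∀ i, Semi iB (fun b => δ b⁻¹) (d i) := fun i y b => by
    rw [hd, hd, mul_inv_rev, ← GrpObj.inv_comp, _root_.mul_assoc, hδ]
  have hdne : ∀ y : VecGrp.pt k k ⟶ G, ∃ i, val y (d i) ≠ 0 := fun y => by
    by_contra! h
    have h1 := hspan (ξ ᵥ* (mtx r y⁻¹ : Matrix (Fin m) (Fin m) k)) (fun i => by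
      rw [← Matrix.dotProduct_mulVec, ← hρ, ← hd]; exact h i) (y * x₁)
    rw [← Matrix.dotProduct_mulVec, ← hρ, inv_mul_cancel_left] at h1
    exact hx₁ h1
  obtain ⟨y₁, lam₁, hy₁⟩ := exists_top hX hdsemi hdne
    (fun i j => if j ∈ Occ then ζ j * w (xs i) j else 0) n N (fun i j hK => by
      by_cases hj : j ∈ Occ
      · by_cases hA : wt j = A
        · exact (hnA j hj hA).le
        · exact (hnlt j hj hA).le
      · simp [hj] at hK) fun s => by
    obtain ⟨τ, hτ⟩ := hfam s⁻¹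
    refine ⟨(τ ≫ iT)⁻¹ * y₀, fun i => ?_⟩
    rw [hd, mul_inv_rev, inv_inv, _root_.mul_assoc, hψ]
    refine Finset.sum_congr rfl fun j _ => ?_
    rw [hwτ]
    by_cases hj : j ∈ Occ
    · rw [if_pos hj, hτ j hj, inv_zpow, ← zpow_neg]
      ring
    · rw [if_neg hj, zero_mul, show w (xs i) j = 0 from by_contra fun h => hj (hOcc _ _ h), mul_zero, mul_zero]
  have hφy : ∀ z, φ ⬝ᵥ vec c z = lam₁ * (ξ ⬝ᵥ vec c (y₁⁻¹ * z)) := by
    have h0 : ∀ i, (φ - lam₁ • (ξ ᵥ* (mtx r y₁⁻¹ : Matrix (Fin m) (Fin m) k))) ⬝ᵥ vec c (xs i) = 0 := fun i => by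
      rw [sub_dotProduct, smul_dotProduct, ← Matrix.dotProduct_mulVec ξ, ← hρ, ← hd, hφw, smul_eq_mul, ← hy₁ i,
        sub_eq_zero]
      refine Finset.sum_congr rfl fun j _ => ?_
      by_cases hj : j ∈ Occ
      · by_cases hA : wt j = A
        · simp [ζA, hA, hj, hnA j hj hA]
        · simp [ζA, hA, (hnlt j hj hA).ne]
      · rw [show w (xs i) j = 0 from by_contra fun h => hj (hOcc _ _ h)]
        simp [hj]
    intro z
    have := hspan _ h0 z
    rwa [sub_dotProduct, smul_dotProduct, ← Matrix.dotProduct_mulVec ξ, ← hρ, smul_eq_mul, sub_eq_zero] at this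
  -- the stabiliser of the functional
  let H : Subgroup (VecGrp.pt k k ⟶ G) :=
    { carrier := {q | ∃ δ : k, δ ≠ 0 ∧ ∀ z, φ ⬝ᵥ vec c (q * z) = δ * (φ ⬝ᵥ vec c z)}
      one_mem' := ⟨1, one_ne_zero, fun z => by rw [_root_.one_mul, _root_.one_mul]⟩
      mul_mem' := by
        rintro q q' ⟨u, hu, h⟩ ⟨u', hu', h'⟩
        exact ⟨u * u', mul_ne_zero hu hu', fun z => by rw [_root_.mul_assoc, h, h']; ring⟩
      inv_mem' := by
        rintro q ⟨u, hu, h⟩
        refine ⟨u⁻¹, inv_ne_zero hu, fun z => ?_⟩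
        have := h (q⁻¹ * z)
        rw [mul_inv_cancel_left] at this
        rw [this, inv_mul_cancel_left₀ hu] }
  have hHiff : ∀ q, q ∈ H ↔ ∀ z, (φ ⬝ᵥ vec c (q * z)) * (φ ⬝ᵥ vec c g) = (φ ⬝ᵥ vec c (q * g)) * (φ ⬝ᵥ vec c z) := by
    intro q
    constructor
    · rintro ⟨u, -, h⟩ z
      rw [h, h]; ring
    · intro h
      refine ⟨(φ ⬝ᵥ vec c (q * g)) / (φ ⬝ᵥ vec c g), ?_, fun z => by
        rw [div_mul_eq_mul_div, eq_div_iff hφg]; exact h z⟩
      refine div_ne_zero (fun h0 => hφg ?_) hφg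
      have h1 := h (q⁻¹ * g)
      rw [mul_inv_cancel_left, h0, zero_mul] at h1
      exact mul_self_eq_zero.1 h1
  have hH : IsClosed (H : Set (VecGrp.pt k k ⟶ G)) := by
    have hval : ∀ z, ∃ F : Γ(G.left, ⊤), ∀ q, val q F = φ ⬝ᵥ vec c (q * z) := fun z =>
      ⟨(rTr z).left.appTop (∑ α, φ α • c α), fun q => by rw [val_rTr, map_sum]; simp [dotProduct, vec]⟩
    choose F hF using hval
    have heq : (H : Set (VecGrp.pt k k ⟶ G)) = ⋂ z, {q | val q ((φ ⬝ᵥ vec c g) • F z - (φ ⬝ᵥ vec c z) • F g) = 0} := by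
      ext q
      simp only [SetLike.mem_coe, hHiff, Set.mem_iInter, Set.mem_setOf_eq, map_sub, map_smul, hF, smul_eq_mul,
        sub_eq_zero]
      exact forall_congr' fun z => by rw [_root_.mul_comm (φ ⬝ᵥ vec c z), _root_.mul_comm (φ ⬝ᵥ vec c g)]
    rw [heq]
    exact isClosed_iInter fun z => BorelFix21.isClosed_val_eq _ 0
  obtain ⟨Z, _, jZ, hjZ, hjZc, hZs, hZn, hZH, hZall⟩ := exists_component_of_pts H hH
  haveI := hjZ
  haveI := hjZc
  haveI := hZs
  haveI := hZn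
  haveI : IsAffine Z.left := isAffine_of_isAffineHom jZ.left
  haveI : Mono jZ := Over.mono_of_mono_left jZ
  obtain ⟨y₁', hy₁'⟩ := exists_gpt y₁
  haveI := isMonHom_conjBy y₁' iB
  haveI := isClosedImmersion_conjBy y₁' iB
  have hB₁ : Red.IsBorelOver k (AGF.conjBy y₁' iB) := by
    have h := BorelFix21.isBorelOver_conj iB hB y₁'⁻¹
    rwa [show (toUnit B ≫ y₁'⁻¹)⁻¹ * iB * (toUnit B ≫ y₁'⁻¹) = AGF.conjBy y₁' iB by
      rw [GrpObj.comp_inv, inv_inv]] at h
  obtain ⟨jB, hjB⟩ := hZall B (AGF.conjBy y₁' iB) fun b => by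
    rw [hHiff]
    intro z
    rw [comp_conjBy, show toUnit (VecGrp.pt k k) ≫ y₁' = y₁ from hy₁', hφy, hφy z, hφy g,
      hφy (y₁ * (b ≫ iB) * y₁⁻¹ * g), show y₁⁻¹ * (y₁ * (b ≫ iB) * y₁⁻¹ * z) = (b ≫ iB) * (y₁⁻¹ * z) by group,
      show y₁⁻¹ * (y₁ * (b ≫ iB) * y₁⁻¹ * g) = (b ≫ iB) * (y₁⁻¹ * g) by group, hδ, hδ]
    ring
  obtain ⟨jT, hjT⟩ := hZall T iT fun τ => by
    rw [hHiff]
    intro z
    have h : ∀ z, φ ⬝ᵥ vec c ((τ ≫ iT) * z) = ptChr C τ (Multiplicative.ofAdd A) * (φ ⬝ᵥ vec c z) := fun z => by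
      rw [hφw, hφw, dotProduct, dotProduct, Finset.mul_sum]
      refine Finset.sum_congr rfl fun j _ => ?_
      rw [hwτ]
      by_cases hj : wt j = A
      · simp only [e, hj]; ring
      · simp only [ζA, if_neg hj, zero_mul, mul_zero]
    rw [h, h]; ring
  haveI : IsMonHom jB := BorelFix21.isMonHom_of_comp jZ jB (hjB ▸ inferInstance)
  haveI : IsMonHom jT := BorelFix21.isMonHom_of_comp jZ jT (hjT ▸ hT.1)
  haveI : IsClosedImmersion (jB ≫ jZ).left := hjB ▸ inferInstance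
  haveI : IsClosedImmersion jB.left := IsClosedImmersion.of_comp jB.left jZ.left
  haveI : Mono (jT ≫ jZ) := hjT.symm ▸ hT.2.1
  haveI : Mono jT := mono_of_mono jT jZ
  have hBZ : Red.IsBorelOver k jB := by
    refine ⟨inferInstance, inferInstance, hs, hn, hsol, fun B' _ i' _ f' h1 h2 h3 h4 hf' => ?_⟩
    haveI := h1
    exact hB₁.2.2.2.2.2 B' (i' ≫ jZ) f' (by rw [Over.comp_left]; infer_instance) h2 h3 h4
      (by rw [← Category.assoc, hf', hjB])
  obtain ⟨B₂, _, iB₂, t₂, hB₂, ht₂⟩ := exists_borel_containing jT hT.2.2.1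
  obtain ⟨z₀, ψ, hψ'⟩ := BorelFix21.exists_conjBy iB₂ jB hB₂ hBZ
  let gm : 𝟙_ (Over (Spec (CommRingCat.of k))) ⟶ G := (z₀⁻¹ ≫ jZ) * y₁'
  haveI := isMonHom_conjBy gm iB
  have hB₃ : Red.IsBorelOver k (AGF.conjBy gm iB) := by
    have h := BorelFix21.isBorelOver_conj iB hB gm⁻¹
    rwa [show (toUnit B ≫ gm⁻¹)⁻¹ * iB * (toUnit B ≫ gm⁻¹) = AGF.conjBy gm iB by
      rw [GrpObj.comp_inv, inv_inv]] at h
  refine ⟨B, inferInstance, AGF.conjBy gm iB, t₂ ≫ ψ.hom, φ, hB₃, ?_, hφx, fun b => ?_⟩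
  · have h1 := congrArg (fun q => t₂ ≫ q ≫ jZ) hψ'
    simp only [Category.assoc] at h1
    rw [hjB, ← Category.assoc t₂ ψ.hom, comp_conjBy, ← Category.assoc t₂ (AGF.conjBy z₀ iB₂), comp_conjBy, ht₂,
      MonObj.mul_comp, MonObj.mul_comp, GrpObj.inv_comp, Category.assoc _ z₀, hjT] at h1
    rw [comp_conjBy]
    simp only [gm, MonObj.comp_mul, GrpObj.inv_comp, GrpObj.comp_inv]
    calc _ = (toUnit T ≫ z₀ ≫ jZ)⁻¹ *
          ((toUnit T ≫ y₁') * ((t₂ ≫ ψ.hom) ≫ iB) * (toUnit T ≫ y₁')⁻¹) * (toUnit T ≫ z₀ ≫ jZ) := by group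
      _ = iT := by rw [h1]; group
  · have hq : b ≫ AGF.conjBy gm iB ∈ H := by
      have h1 : b ≫ AGF.conjBy gm iB = ((gpt z₀)⁻¹ * (b ≫ jB) * gpt z₀) ≫ jZ := by
        rw [comp_conjBy, MonObj.mul_comp, MonObj.mul_comp, GrpObj.inv_comp, Category.assoc b, hjB, comp_conjBy]
        simp only [gm, gpt, MonObj.comp_mul, GrpObj.inv_comp, GrpObj.comp_inv, Category.assoc]
        group
      rw [h1]
      exact hZH _
    obtain ⟨u, -, hu⟩ := hq
    exact ⟨u, hu⟩

end Groth.Agent.TorPts21
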