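import Groth.Agent.Lib.TorPts21.Max
import Groth.Agent.Lib.TorPts21.BaseChangeTorus
import Groth.Agent.Lib.TorPts21.ReductiveCartanField
import Groth.Agent.Lib.MTRigid29.TransporterSmooth
import Groth.Agent.Lib.SymPt15.Point
import Groth.Agent.Lib.SmoothSection.Scheme

/-!
# Maximal tori are conjugate over a finite separable extension
-/

set_option autoImplicit false
set_option linter.style.haveILetI false
set_option backward.isDefEq.respectTransparency.types false
set_option maxSynthPendingDepth 3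
universe u

open CategoryTheory Limits MonoidalCategory CartesianMonoidalCategory MonObj AlgebraicGeometry

noncomputable section

namespace Groth.Agent.TorPts21

set_option maxHeartbeats 800000 in
/-- Over an algebraically closed field maximal tori are conjugate, connected or not. -/
theorem exists_conj_maxTorus' {k : Type u} [Field k] [IsAlgClosed k] {G T T' : Over (Spec (CommRingCat.of k))}
    [GrpObj G] [GrpObj T] [GrpObj T'] [IsAffine G.left] [Smooth G.hom] {iT : T ⟶ G} {iT' : T' ⟶ G}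
    (hT : AGF.IsMaxTorus iT) (hT' : AGF.IsMaxTorus iT') :
    ∃ (g : 𝟙_ (Over (Spec (CommRingCat.of k))) ⟶ G) (f : T ≅ T'), f.hom ≫ iT' = AGF.conjBy g iT := by
  obtain ⟨G₀, _, j, hjm, hjo, hjn⟩ := BorelFix21.exists_identity_component G
  haveI := hjm
  haveI := hjo
  haveI := hjn
  haveI : IsClosedImmersion j.left := InvRing21.isClosedImmersion_of_open_subgroup j
  haveI : Smooth G₀.hom := InvRing21.smooth_of_openImmersion j
  haveI : IsAffine G₀.left := isAffine_of_isAffineHom j.left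
  haveI : Mono j := Over.mono_of_mono_left j
  have hlift : ∀ {S : Over (Spec (CommRingCat.of k))} [GrpObj S] {iS : S ⟶ G}, AGF.IsMaxTorus iS →
      ∃ s : S ⟶ G₀, AGF.IsMaxTorus s ∧ s ≫ j = iS := fun {S} _ {iS} hS => by
    haveI := hS.1
    haveI := hS.2.1
    haveI := (props_of_isTorus hS.2.2.1).2.2.1
    obtain ⟨s, hs⟩ := BorelFix21.exists_lift_component j j.left.isClosedEmbedding.isClosed_range iS
    haveI : IsMonHom s := BorelFix21.isMonHom_of_comp j s (hs.symm ▸ hS.1)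
    haveI : Mono (s ≫ j) := hs.symm ▸ hS.2.1
    haveI : Mono s := mono_of_mono s j
    exact ⟨s, ⟨inferInstance, inferInstance, hS.2.2.1, fun S' _ l _ _ f hS' hf =>
      hS.2.2.2 S' (l ≫ j) f hS' (by rw [← Category.assoc, hf, hs])⟩, hs⟩
  obtain ⟨s, hs, hsj⟩ := hlift hT
  obtain ⟨s', hs', hsj'⟩ := hlift hT'
  obtain ⟨g, f, hf⟩ := exists_conj_maxTorus hs hs'
  refine ⟨g ≫ j, f, ?_⟩
  rw [← hsj', ← Category.assoc, hf, ← hsj]
  simp only [AGF.conjBy, MonObj.mul_comp, GrpObj.inv_comp, Category.assoc]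

set_option maxHeartbeats 800000 in
/-- A conjugation over some field extension gives one over a finite separable extension. -/
theorem exists_conj_separable {k : Type u} [Field k] {G T₁ T₂ : Over (Spec (CommRingCat.of k))} [GrpObj G]
    [GrpObj T₁] [GrpObj T₂] [IsAffine G.left] [Smooth G.hom] (i₁ : T₁ ⟶ G) [IsMonHom i₁] [Mono i₁] (i₂ : T₂ ⟶ G)
    [IsMonHom i₂] [Mono i₂] (h₁ : Red.IsTorus T₁) (h₂ : Red.IsTorus T₂) {K : Type u} [Field K]
    (φ : Spec (CommRingCat.of K) ⟶ Spec (CommRingCat.of k))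
    (g₀ : 𝟙_ (Over (Spec (CommRingCat.of K))) ⟶ Red.bc φ G) (f : Red.bc φ T₁ ≅ Red.bc φ T₂)
    (hf : f.hom ≫ (Over.pullback φ).map i₂ = AGF.conjBy g₀ ((Over.pullback φ).map i₁)) :
    ∃ (k' : Type u) (_ : Field k') (_ : Algebra k k') (_ : FiniteDimensional k k') (_ : Algebra.IsSeparable k k')
      (g : 𝟙_ (Over (Spec (CommRingCat.of k'))) ⟶ Red.bc (Spec.map (CommRingCat.ofHom (algebraMap k k'))) G)
      (f : Red.bc (Spec.map (CommRingCat.ofHom (algebraMap k k'))) T₁ ≅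
        Red.bc (Spec.map (CommRingCat.ofHom (algebraMap k k'))) T₂),
      f.hom ≫ (Over.pullback (Spec.map (CommRingCat.ofHom (algebraMap k k')))).map i₂ =
        AGF.conjBy g ((Over.pullback (Spec.map (CommRingCat.ofHom (algebraMap k k')))).map i₁) := by
  obtain ⟨C, j, hjc, hCs, hC⟩ := MTRigid29.exists_transporter_conj_smooth (isMultTypeFT_of_isTorus h₁)
    (isMultTypeFT_of_isTorus h₂) ‹Smooth G.hom› inferInstance i₁ i₂
  haveI := hCs
  -- the transporter has a point over `K`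
  obtain ⟨z₀, -⟩ := (hC _ (MTRigid29.secOf φ g₀)).2 fun X' x => by
    constructor
    · intro a
      obtain ⟨Y, i, y, hy, hg⟩ := MTRigid29.exists_bc_point (G := G) φ x a
      refine ⟨i.hom ≫ DiagGL.fl φ T₂ (y ≫ f.hom), ?_⟩
      have h2 : (y ≫ f.hom) ≫ (Over.pullback φ).map i₂ =
          (toUnit Y ≫ g₀) * (y ≫ (Over.pullback φ).map i₁) * (toUnit Y ≫ g₀)⁻¹ := by
        rw [Category.assoc, hf, comp_conjBy]
      have h3 := congrArg (fun z => i.hom ≫ DiagGL.fl φ G z) h2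
      simp only [DiagGL.fl_mul, DiagGL.fl_comp_map, MTRigid29.fl_inv φ G, MonObj.comp_mul, GrpObj.comp_inv, hg] at h3
      rw [← Category.assoc i.hom (DiagGL.fl φ T₁ y), hy, ← Category.assoc i.hom] at h3
      exact h3.symm
    · intro a
      obtain ⟨Y, i, y, hy, hg⟩ := MTRigid29.exists_bc_point (G := G) φ x a
      refine ⟨i.hom ≫ DiagGL.fl φ T₁ (y ≫ f.inv), ?_⟩
      have h2 : y ≫ (Over.pullback φ).map i₂ =
          (toUnit Y ≫ g₀) * ((y ≫ f.inv) ≫ (Over.pullback φ).map i₁) * (toUnit Y ≫ g₀)⁻¹ := by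
        rw [← comp_conjBy, ← hf, Category.assoc, Iso.inv_hom_id_assoc]
      have h3 := congrArg (fun z => i.hom ≫ DiagGL.fl φ G z) h2
      simp only [DiagGL.fl_mul, DiagGL.fl_comp_map, MTRigid29.fl_inv φ G, MonObj.comp_mul, GrpObj.comp_inv, hg] at h3
      rw [← Category.assoc i.hom, hy, ← Category.assoc i.hom] at h3
      rw [h3]
      group
  obtain ⟨Z, ε, zp, hε, -, h, hh⟩ := SmoothSection.exists_etale_section C.hom (z₀.left (IsLocalRing.closedPoint K))
  haveI := hε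
  haveI : Nonempty Z := ⟨zp⟩
  obtain ⟨k', _, _, hfin, hsep, e, he, -⟩ := SymPt15.exists_separable_point ε
  refine ⟨k', inferInstance, inferInstance, hfin, hsep, ?_⟩
  set ψ := Spec.map (CommRingCat.ofHom (algebraMap k k')) with hψ
  let z : Over.mk ψ ⟶ C := Over.homMk (e ≫ h) (by rw [Category.assoc, hh, he]; rfl)
  have hcond := (hC _ (z ≫ j)).1 ⟨z, rfl⟩
  let e1 : (Over.map ψ).obj (𝟙_ (Over (Spec (CommRingCat.of k')))) ⟶ Over.mk ψ := Over.homMk (𝟙 _) (by simp)
  obtain ⟨g, hg⟩ := DiagGL.fl_surjective ψ G (e1 ≫ z ≫ j)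
  let str : ∀ Y : Over (Spec (CommRingCat.of k')), (Over.map ψ).obj Y ⟶ Over.mk ψ := fun Y => Over.homMk Y.hom rfl
  have hsec : ∀ Y, DiagGL.fl ψ G (toUnit Y ≫ g) = str Y ≫ z ≫ j := fun Y => by
    rw [DiagGL.fl_comp, hg, ← Category.assoc]
    congr 1
  haveI : Mono ((Over.pullback ψ).map i₁) := inferInstance
  haveI : Mono ((Over.pullback ψ).map i₂) := inferInstance
  obtain ⟨a', ha'⟩ := (hcond _ (str (Red.bc ψ T₁))).1 (DiagGL.fl ψ T₁ (𝟙 _))
  obtain ⟨v, hv⟩ := DiagGL.fl_surjective ψ T₂ a'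
  obtain ⟨b', hb'⟩ := (hcond _ (str (Red.bc ψ T₂))).2 (DiagGL.fl ψ T₂ (𝟙 _))
  obtain ⟨w, hw⟩ := DiagGL.fl_surjective ψ T₁ b'
  have hv' : v ≫ (Over.pullback ψ).map i₂ = AGF.conjBy g ((Over.pullback ψ).map i₁) := DiagGL.fl_injective ψ G (by
    rw [DiagGL.fl_comp_map, hv, ← ha', ← DiagGL.fl_comp_map, Category.id_comp, ← hsec, ← MTRigid29.fl_inv ψ G,
      ← DiagGL.fl_mul, ← DiagGL.fl_mul])
  have hw' : w ≫ (Over.pullback ψ).map i₁ =
      (toUnit _ ≫ g)⁻¹ * (Over.pullback ψ).map i₂ * (toUnit _ ≫ g) := DiagGL.fl_injective ψ G (by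
    rw [DiagGL.fl_comp_map, hw, ← hb', ← DiagGL.fl_comp_map, Category.id_comp, ← hsec, ← MTRigid29.fl_inv ψ G,
      ← DiagGL.fl_mul, ← DiagGL.fl_mul])
  refine ⟨g, ⟨v, w, (cancel_mono ((Over.pullback ψ).map i₁)).1 ?_, (cancel_mono ((Over.pullback ψ).map i₂)).1 ?_⟩, hv'⟩
  · rw [Category.assoc, hw', Category.id_comp, MonObj.comp_mul, MonObj.comp_mul, GrpObj.comp_inv, hv', ← Category.assoc,
      comp_toUnit]
    group
  · rw [Category.assoc, hv', Category.id_comp, comp_conjBy, hw']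
    group

end Groth.Agent.TorPts21
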