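import Groth.Agent.Lib.TorPts21.BorelTorusPt
import Groth.Agent.Lib.TorPts21.BaseChangeTorus
import Groth.Agent.Lib.BorelFix21.BaseChange

/-!
# Centralisers of tori in connected groups are connected
-/

set_option autoImplicit false
set_option linter.style.haveILetI false
set_option backward.isDefEq.respectTransparency.types false
universe u

open CategoryTheory Limits MonoidalCategory CartesianMonoidalCategory MonObj AlgebraicGeometry

noncomputable section

namespace Groth.Agent.TorPts21

open MatGrp21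

attribute [local instance] InvRing21.gamAlg BorelFix21.ptsTop

variable {k : Type u} [Field k]

section Closed

variable [IsAlgClosed k] {G T C : Over (Spec (CommRingCat.of k))} [GrpObj G] [GrpObj T] [GrpObj C]
  [IsAffine G.left] [Smooth G.hom]

set_option maxHeartbeats 800000 in
/-- A rational point commuting with all rational points of a torus lies in its centraliser. -/
theorem exists_lift_centralizer_pt {iT : T ⟶ G} (hT : Red.IsTorus T) {c : C ⟶ G}
    (hc : Red.IsCentralizerOf iT c) (g : 𝟙_ (Over (Spec (CommRingCat.of k))) ⟶ G)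
    (hg : ∀ t : VecGrp.pt k k ⟶ T, gpt g * (t ≫ iT) = (t ≫ iT) * gpt g) :
    ∃ z : 𝟙_ (Over (Spec (CommRingCat.of k))) ⟶ C, z ≫ c = g := by
  obtain ⟨hTa, hTs, -, -⟩ := props_of_isTorus hT
  haveI := hTa
  haveI := hTs
  haveI : IsSeparated G.hom := inferInstance
  refine (hc.2.2 _ g).2 fun X' x h => ?_
  obtain ⟨Z, em, hem, heme, hemu⟩ := exists_agree ((toUnit T ≫ g) * iT) (iT * (toUnit T ≫ g))
  haveI := hem
  obtain ⟨f, hf⟩ := exists_lift_of_pts em (𝟙 T) fun t => hemu _ (by
    rw [Category.comp_id, MonObj.comp_mul, MonObj.comp_mul, ← Category.assoc, comp_toUnit]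
    exact hg t)
  have h1 := congrArg (f ≫ ·) heme
  simp only [← Category.assoc, hf, Category.id_comp] at h1
  have h2 := congrArg (h ≫ ·) h1
  simp only [MonObj.comp_mul, ← Category.assoc, comp_toUnit] at h2
  rwa [toUnit_unique x (toUnit X')]

set_option maxHeartbeats 800000 in
/-- The centraliser of a torus in a connected group is connected. -/
theorem connectedSpace_centralizer_closed [ConnectedSpace G.left] {iT : T ⟶ G} [IsMonHom iT]
    (hT : Red.IsTorus T) {c : C ⟶ G} (hc : Red.IsCentralizerOf iT c) : ConnectedSpace C.left := by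
  obtain ⟨hcm, hci, hcs, hca⟩ := centralizer_props hT hc
  haveI := hcm
  haveI := hci
  haveI := hcs
  haveI := hca
  obtain ⟨d, ⟨Ch⟩⟩ := exists_chars hT
  have key : ∀ W : Set C.left, IsClopen W → InvRing21.img (1 : VecGrp.pt k k ⟶ C) ∈ W →
      ∀ y : VecGrp.pt k k ⟶ C, InvRing21.img y ∈ W := by
    intro W hW h1 y
    obtain ⟨z, rfl⟩ := exists_gpt y
    obtain ⟨B, _, iB, hB, t, b, ht, hb⟩ := exists_borel_torus_pt iT hT (z ≫ c) fun X s => by
      rw [← Category.assoc]
      exact centralizer_comm hc (toUnit X ≫ z) s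
    obtain ⟨hm, hcl, hs, hn, hsol, -⟩ := id hB
    haveI := hm
    haveI := hcl
    haveI := hs
    haveI := hn
    haveI : IsAffine B.left := isAffine_of_isAffineHom iB.left
    obtain ⟨n, r, hr, hrc, hu⟩ := exists_upper_embedding iB hsol
    haveI := hr
    haveI := hrc
    haveI : IsClosedImmersion (iB ≫ r).left := by rw [Over.comp_left]; infer_instance
    haveI : IsClosedImmersion (c ≫ r).left := by rw [Over.comp_left]; infer_instance
    have hcl' := isClosed_range_mtx (iB ≫ r)
    have hirr := isPreirreducible_range_mtx' (iB ≫ r)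
    obtain ⟨D⟩ := nonempty_decomp hu hcl' hirr
    obtain ⟨u, hu1, hu2⟩ := D.exists_conj hu hcl' (range_le_of_lift r iB iT t ht) (range_mtx_comm Ch (iT ≫ r))
      (range_mtx_dense Ch (iT ≫ r))
    let S : Set (GL (Fin n) k) := ((mtx (iT ≫ r)).range : Set (GL (Fin n) k))
    let S' : Set (GL (Fin n) k) := (fun g => u * g * u⁻¹) '' S
    have hS' : S' ⊆ closure (tors S') := by
      rintro _ ⟨g, hg, rfl⟩
      refine closure_mono ?_ (image_closure_subset_closure_image (continuous_conj u)
        ⟨g, range_mtx_dense Ch (iT ≫ r) hg, rfl⟩)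
      rintro _ ⟨h, ⟨hh, L, hL, hhL⟩, rfl⟩
      exact ⟨⟨h, hh, rfl⟩, L, hL, by rw [conj_pow, hhL, _root_.mul_one, mul_inv_cancel]⟩
    have hK' := D.isPreirreducible_centralizer hu hcl' hirr (S := S') (by
      rintro _ ⟨g, hg, rfl⟩; exact hu2 g hg) hS'
    let K : Set (GL (Fin n) k) := {g | g ∈ (mtx (iB ≫ r)).range ∧ ∀ s ∈ S, g * s = s * g}
    have hK : IsPreirreducible K := by
      have hKe : K = (fun g => u⁻¹ * g * u⁻¹⁻¹) ''
          (((mtx (iB ≫ r)).range ⊓ Subgroup.centralizer S' : Subgroup (GL (Fin n) k)) : Set (GL (Fin n) k)) := by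
        ext g
        constructor
        · rintro ⟨hgM, hgs⟩
          refine ⟨u * g * u⁻¹, ⟨mul_mem (mul_mem hu1.1 hgM) (Subgroup.inv_mem _ hu1.1), Subgroup.mem_centralizer_iff.2 ?_⟩,
            by group⟩
          rintro _ ⟨s, hs, rfl⟩
          exact ((show Commute g s from hgs s hs).map (MulAut.conj u).toMonoidHom).symm.eq
        · rintro ⟨x, ⟨hxM, hxc⟩, rfl⟩
          refine ⟨mul_mem (mul_mem (Subgroup.inv_mem _ hu1.1) hxM) (Subgroup.inv_mem _ (Subgroup.inv_mem _ hu1.1)), fun s hs => ?_⟩
          have h := Subgroup.mem_centralizer_iff.1 hxc _ ⟨s, hs, rfl⟩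
          have h' := ((show Commute (u * s * u⁻¹) x from h).map (MulAut.conj u⁻¹).toMonoidHom).symm.eq
          simp only [MulEquiv.coe_toMonoidHom, MulAut.conj_apply] at h'
          convert h' using 2 <;> group
      rw [hKe]
      exact hK'.image _ (continuous_conj u⁻¹).continuousOn
    have hKsub : K ⊆ Set.range (mtxFn (c ≫ r)) := by
      rintro g ⟨⟨x, rfl⟩, hgs⟩
      obtain ⟨x', hx'⟩ := exists_gpt (x ≫ iB)
      obtain ⟨z', hz'⟩ := exists_lift_centralizer_pt hT hc x' fun s => mtxFn_injective r (by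
        have := hgs _ ⟨s, rfl⟩
        rw [mtx_comp, mtx_comp, ← map_mul, ← map_mul, mtx_apply, mtx_apply, ← hx'] at this
        exact this)
      refine ⟨gpt z', ?_⟩
      rw [mtxFn_comp, mtx_comp, mtx_apply, ← hx', gpt, gpt, Category.assoc, hz']
    let P : Set (VecGrp.pt k k ⟶ C) := mtxFn (c ≫ r) ⁻¹' K
    have hP : IsPreconnected P := by
      rw [← (isClosedEmbedding_mtxFn (c ≫ r)).isInducing.isPreconnected_image,
        Set.image_preimage_eq_inter_range, Set.inter_eq_left.2 hKsub]
      exact hK.isPreconnected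
    have hone : (1 : VecGrp.pt k k ⟶ C) ∈ P := by
      show mtxFn (c ≫ r) 1 ∈ K
      rw [show mtxFn (c ≫ r) 1 = 1 from map_one (mtx (c ≫ r))]
      exact ⟨one_mem _, fun s _ => by rw [_root_.one_mul, _root_.mul_one]⟩
    have hz : gpt z ∈ P := by
      refine ⟨⟨gpt b, ?_⟩, fun s hs => ?_⟩
      · rw [mtx_apply, mtxFn_comp, mtxFn_comp, gpt, gpt, Category.assoc, Category.assoc, hb]
      · obtain ⟨w, rfl⟩ := hs
        rw [mtx_comp, mtxFn_comp, ← mtx_apply r, ← map_mul, ← map_mul, centralizer_comm hc (gpt z) w]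
    exact hP.subset_isClopen (hW.preimage continuous_induced_dom) ⟨1, hone, h1⟩ hz
  rw [connectedSpace_iff_clopen]
  refine ⟨⟨InvRing21.img (1 : VecGrp.pt k k ⟶ C)⟩, fun W hW => ?_⟩
  have aux : ∀ W : Set C.left, IsClopen W → InvRing21.img (1 : VecGrp.pt k k ⟶ C) ∈ W → W = Set.univ := by
    intro W hW h1
    by_contra hne
    obtain ⟨y, hy⟩ := BorelFix21.exists_pt_mem hW.compl.isOpen.isLocallyClosed
      (Set.nonempty_compl.2 hne)
    exact hy (key W hW h1 y)
  by_cases h1 : InvRing21.img (1 : VecGrp.pt k k ⟶ C) ∈ W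
  · exact Or.inr (aux W hW h1)
  · exact Or.inl (Set.compl_univ_iff.1 (aux Wᶜ hW.compl h1))

end Closed

/-- The centraliser of a torus in a connected group is connected, over any field. -/
theorem connectedSpace_centralizer {G T C : Over (Spec (CommRingCat.of k))} [GrpObj G] [GrpObj T] [GrpObj C]
    [IsAffine G.left] [Smooth G.hom] [ConnectedSpace G.left] {iT : T ⟶ G} [IsMonHom iT]
    (hT : Red.IsTorus T) {c : C ⟶ G} (hc : Red.IsCentralizerOf iT c) : ConnectedSpace C.left := by
  let K := AlgebraicClosure k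
  let φ : Spec (CommRingCat.of K) ⟶ Spec (CommRingCat.of k) := Spec.map (CommRingCat.ofHom (algebraMap k K))
  haveI : IsAffine (Red.bc φ G).left := BorelFix21.isAffine_bc φ G
  haveI : Smooth (Red.bc φ G).hom := BorelFix21.smooth_bc φ G
  haveI : ConnectedSpace (Red.bc φ G).left := BorelFix21.connectedSpace_bc φ G
  haveI := connectedSpace_centralizer_closed (isTorus_bc φ hT) (isCentralizerOf_bc φ hc)
  haveI : Surjective φ := ⟨fun z => ⟨IsLocalRing.closedPoint K, Subsingleton.elim _ _⟩⟩
  haveI : Surjective (pullback.fst C.hom φ) := inferInstance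
  exact ((pullback.fst C.hom φ).surjective.connectedSpace (α := (Red.bc φ C).left)
    (pullback.fst C.hom φ).continuous)

end Groth.Agent.TorPts21
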