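import Groth.Agent.Lib.TorPts21.CentralizerRadical
import Groth.Agent.Lib.TorPts21.Connected
import Groth.Agent.Lib.TorPts21.ConjSep
import Groth.Agent.Lib.TorPts21.BorelCover
import Groth.Agent.Lib.TorPts21.Cartan

/-!
# A subtorus fixed by the Weyl group lies in every Borel subgroup
-/

set_option autoImplicit false
set_option linter.style.haveILetI false
set_option backward.isDefEq.respectTransparency.types false
universe u

open CategoryTheory Limits MonoidalCategory CartesianMonoidalCategory MonObj AlgebraicGeometry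

noncomputable section

namespace Groth.Agent.TorPts21

open MatGrp21 InvRing21
open scoped Matrix

attribute [local instance] InvRing21.gamAlg BorelFix21.ptsTop

variable {k : Type u} [Field k] [IsAlgClosed k] {G B T S : Over (Spec (CommRingCat.of k))} [GrpObj G] [GrpObj B]
  [GrpObj T] [GrpObj S] [IsAffine G.left] [Smooth G.hom] [ConnectedSpace G.left]

omit [ConnectedSpace G.left] in
/-- A maximal torus factoring through a closed subgroup is maximal in it. -/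
theorem isMaxTorus_of_comp {H : Over (Spec (CommRingCat.of k))} [GrpObj H] {iT : T ⟶ G} (hT : AGF.IsMaxTorus iT)
    (iH : H ⟶ G) [IsMonHom iH] [Mono iH] (t : T ⟶ H) (ht : t ≫ iH = iT) : AGF.IsMaxTorus t := by
  haveI := hT.1
  haveI := hT.2.1
  haveI : IsMonHom t := BorelFix21.isMonHom_of_comp iH t (ht.symm ▸ hT.1)
  haveI : Mono (t ≫ iH) := ht.symm ▸ hT.2.1
  exact ⟨inferInstance, mono_of_mono t iH, hT.2.2.1, fun T' _ j _ _ f hT' hf =>
    hT.2.2.2 T' (j ≫ iH) f hT' (by rw [← Category.assoc, hf, ht])⟩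

set_option maxHeartbeats 2000000 in
/-- A point whose coset is fixed by a torus commuting with the normaliser of a maximal torus containing it lies in
the product of the centraliser and the Borel subgroup. -/
theorem exists_decomp_of_fixed {iB : B ⟶ G} (hB : Red.IsBorelOver k iB) {iT : T ⟶ G} (hT : AGF.IsMaxTorus iT)
    (t : T ⟶ B) (ht : t ≫ iB = iT) (hS : Red.IsTorus S) (iS : S ⟶ G) [IsMonHom iS] [Mono iS] (s : S ⟶ T)
    (hs : s ≫ iT = iS)
    (hW : ∀ n : VecGrp.pt k k ⟶ G,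
      (∀ τ : VecGrp.pt k k ⟶ T, ∃ τ' : VecGrp.pt k k ⟶ T, n * (τ ≫ iT) * n⁻¹ = τ' ≫ iT) →
      ∀ σ : VecGrp.pt k k ⟶ S, n * (σ ≫ iS) = (σ ≫ iS) * n)
    (g : VecGrp.pt k k ⟶ G)
    (hg : ∀ σ : VecGrp.pt k k ⟶ S, ∃ b : VecGrp.pt k k ⟶ B, (σ ≫ iS) * g = g * (b ≫ iB)) :
    ∃ (h : VecGrp.pt k k ⟶ G) (b : VecGrp.pt k k ⟶ B),
      g = h * (b ≫ iB) ∧ ∀ σ : VecGrp.pt k k ⟶ S, h * (σ ≫ iS) = (σ ≫ iS) * h := by
  obtain ⟨hBm, hBc, hBs, hBn, hBsol, -⟩ := id hB
  haveI := hBm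
  haveI := hBc
  haveI := hBs
  haveI := hBn
  haveI : IsAffine B.left := isAffine_of_isAffineHom iB.left
  haveI : Mono iB := Over.mono_of_mono_left iB
  haveI := hT.1
  haveI := hT.2.1
  obtain ⟨hSa, hSs, hSc, -⟩ := props_of_isTorus hS
  haveI := hSa
  haveI := hSs
  haveI := hSc
  obtain ⟨hTa, hTs, hTc, -⟩ := props_of_isTorus hT.2.2.1
  haveI := hTa
  haveI := hTs
  obtain ⟨d, ⟨Ch⟩⟩ := exists_chars hT.2.2.1
  -- conjugate S into the maximal torus by an element of the Borel subgroup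
  obtain ⟨g₀, hg₀⟩ := exists_gpt g
  replace hg₀ : toUnit (VecGrp.pt k k) ≫ g₀ = g := hg₀
  haveI := isMonHom_conjBy g₀⁻¹ iS
  haveI := mono_conjBy g₀⁻¹ iS
  obtain ⟨sB, hsB⟩ := exists_lift_of_pts iB (AGF.conjBy g₀⁻¹ iS) fun σ => by
    obtain ⟨b, hb⟩ := hg σ
    refine ⟨b, ?_⟩
    rw [comp_conjBy, GrpObj.comp_inv, inv_inv, hg₀, _root_.mul_assoc, hb, inv_mul_cancel_left]
  haveI : IsMonHom sB := BorelFix21.isMonHom_of_comp iB sB (hsB.symm ▸ inferInstance)
  haveI : Mono (sB ≫ iB) := hsB.symm ▸ inferInstance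
  haveI : Mono sB := mono_of_mono sB iB
  obtain ⟨T₁, _, i₁, s₁, hT₁, hs₁⟩ := exists_maxTorus_ge sB hS
  obtain ⟨y, f, hf⟩ := exists_conj_maxTorus hT₁ (isMaxTorus_of_comp hT iB t ht)
  let w₀ : 𝟙_ (Over (Spec (CommRingCat.of k))) ⟶ G := g₀ * (y ≫ iB)⁻¹
  let θ : S ⟶ T := s₁ ≫ f.hom
  have hθ : ∀ (X : Over (Spec (CommRingCat.of k))) (σ : X ⟶ S),
      σ ≫ iS = (toUnit X ≫ w₀) * (σ ≫ θ ≫ iT) * (toUnit X ≫ w₀)⁻¹ := fun X σ => by
    have h1 : σ ≫ θ ≫ iT = (toUnit X ≫ y ≫ iB) * ((toUnit X ≫ g₀)⁻¹ * (σ ≫ iS) * (toUnit X ≫ g₀)) *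
        (toUnit X ≫ y ≫ iB)⁻¹ := by
      have h2 : σ ≫ θ ≫ iT = ((σ ≫ s₁) ≫ f.hom ≫ t) ≫ iB := by
        simp only [θ, ← ht, Category.assoc]
      rw [h2, hf, comp_conjBy, MonObj.mul_comp, MonObj.mul_comp, GrpObj.inv_comp]
      simp only [Category.assoc]
      rw [reassoc_of% hs₁, hsB, comp_conjBy, GrpObj.comp_inv, inv_inv]
    rw [h1]
    simp only [w₀, MonObj.comp_mul, GrpObj.comp_inv]
    group
  let h : VecGrp.pt k k ⟶ G := toUnit (VecGrp.pt k k) ≫ w₀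
  refine ⟨h, toUnit (VecGrp.pt k k) ≫ y, by simp only [h, w₀, MonObj.comp_mul, GrpObj.comp_inv, Category.assoc, hg₀,
    inv_mul_cancel_right], ?_⟩
  -- both tori lie in the centraliser
  obtain ⟨C, _, c, hC, -, -⟩ := MTRigid29.exists_centralizer
    (MTRigid29.isMT_of_ft (isMultTypeFT_of_isTorus hS)) ‹_› inferInstance iS
  obtain ⟨hcm, hci, hcs, hca⟩ := centralizer_props hS hC
  haveI := hcm
  haveI := hci
  haveI := hcs
  haveI := hca
  haveI := connectedSpace_centralizer_closed hS hC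
  haveI : Mono c := Over.mono_of_mono_left c
  obtain ⟨t₁, ht₁⟩ := (hC.2.2 T iT).2 fun X x σ => by
    rw [← hs, ← Category.assoc σ s iT, ← MonObj.mul_comp, ← MonObj.mul_comp, (commute_of_chars Ch x (σ ≫ s)).eq]
  obtain ⟨t₂, ht₂⟩ := (hC.2.2 T (AGF.conjBy w₀ iT)).2 fun X x σ => by
    rw [comp_conjBy, hθ X σ]
    have hc : (x ≫ iT) * (σ ≫ θ ≫ iT) = (σ ≫ θ ≫ iT) * (x ≫ iT) := by
      rw [← Category.assoc σ θ iT, ← MonObj.mul_comp, ← MonObj.mul_comp, (commute_of_chars Ch x (σ ≫ θ)).eq]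
    calc _ = (toUnit X ≫ w₀) * ((x ≫ iT) * (σ ≫ θ ≫ iT)) * (toUnit X ≫ w₀)⁻¹ := by group
      _ = _ := by rw [hc]; group
  obtain ⟨z, f', hf'⟩ := exists_conj_maxTorus
    (isMaxTorus_of_comp (isMaxTorus_conjBy hT w₀) c t₂ ht₂) (isMaxTorus_of_comp hT c t₁ ht₁)
  let zc : VecGrp.pt k k ⟶ G := toUnit (VecGrp.pt k k) ≫ z ≫ c
  have hn : ∀ τ : VecGrp.pt k k ⟶ T, ∃ τ' : VecGrp.pt k k ⟶ T, (zc * h) * (τ ≫ iT) * (zc * h)⁻¹ = τ' ≫ iT :=
    fun τ => ⟨τ ≫ f'.hom, by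
      have e1 : (τ ≫ f'.hom) ≫ iT = (τ ≫ AGF.conjBy z t₂) ≫ c := by
        rw [← hf', Category.assoc, Category.assoc, Category.assoc, ht₁]
      rw [e1, comp_conjBy, MonObj.mul_comp, MonObj.mul_comp, GrpObj.inv_comp, Category.assoc, Category.assoc, ht₂,
        comp_conjBy]
      simp only [zc, h]
      group⟩
  intro σ
  have hzσ : zc * (σ ≫ iS) = (σ ≫ iS) * zc := by
    have h1 := centralizer_comm hC (toUnit (VecGrp.pt k k) ≫ z) σ
    rwa [Category.assoc] at h1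
  have h2 := hW _ hn σ
  have h3 : zc * (h * (σ ≫ iS)) = zc * ((σ ≫ iS) * h) := by
    rw [← _root_.mul_assoc, h2, ← _root_.mul_assoc, ← _root_.mul_assoc, hzσ]
  exact mul_left_cancel h3

set_option maxHeartbeats 4000000 in
/-- A subtorus of a maximal torus commuting with its normaliser lies in all Borel subgroups. -/
theorem exists_pt_mem_borel_of_weyl_invariant {iB : B ⟶ G} (hB : Red.IsBorelOver k iB) {iT : T ⟶ G}
    (hT : AGF.IsMaxTorus iT) (t : T ⟶ B) (ht : t ≫ iB = iT) (hS : Red.IsTorus S) (iS : S ⟶ G) [IsMonHom iS]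
    [Mono iS] (s : S ⟶ T) (hs : s ≫ iT = iS)
    (hW : ∀ n : VecGrp.pt k k ⟶ G,
      (∀ τ : VecGrp.pt k k ⟶ T, ∃ τ' : VecGrp.pt k k ⟶ T, n * (τ ≫ iT) * n⁻¹ = τ' ≫ iT) →
      ∀ σ : VecGrp.pt k k ⟶ S, n * (σ ≫ iS) = (σ ≫ iS) * n)
    (x : VecGrp.pt k k ⟶ G) (σ : VecGrp.pt k k ⟶ S) :
    ∃ b : VecGrp.pt k k ⟶ B, b ≫ iB = x⁻¹ * (σ ≫ iS) * x := by
  classical
  obtain ⟨hBm, hBc, hBs, hBn, -⟩ := id hB
  haveI := hBm
  haveI := hBc
  haveI := hBs
  haveI := hBn
  haveI : IsAffine B.left := isAffine_of_isAffineHom iB.left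
  haveI : IsClosedImmersion (𝟙 B ≫ iB).left := by rw [Category.id_comp]; infer_instance
  obtain ⟨X, a, o, hX, hXs, -⟩ := GrassAct21.exists_quotient_affine iB
  haveI := hXs
  haveI : IsProper X.hom := BorelFix21.isProper_of_borel_le hX (𝟙 B) (by rw [Category.id_comp]; exact hB)
  obtain ⟨m, r, hr, c, χ, -, hsemi, hρ', hne, hsep'⟩ := exists_lineRep iB
  haveI := hr
  set l : (VecGrp.pt k k ⟶ B) → k := fun h => val h (Red.gmFn χ) with hl
  have hρ : ∀ g z, vec c (g * z) = (mtx r g : Matrix (Fin m) (Fin m) k) *ᵥ vec c z := fun g z => funext fun α =>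
    hρ' g z α
  have hright : ∀ z (b : VecGrp.pt k k ⟶ B), vec c (z * (b ≫ iB)) = l b • vec c z := fun z b => funext fun α =>
    hsemi α z b
  have hvne : ∀ z, vec c z ≠ 0 := fun z h => by
    obtain ⟨α, hα⟩ := hne z
    exact hα (congrFun h α)
  have hsep : ∀ (z y : VecGrp.pt k k ⟶ G) (lam : k), vec c y = lam • vec c z →
      ∃ b : VecGrp.pt k k ⟶ B, y = z * (b ≫ iB) := fun z y lam h => by
    obtain ⟨b, hb⟩ := hsep' (z⁻¹ * y) fun α β => by
      have h1 : vec c (z⁻¹ * y) = lam • vec c 1 := by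
        rw [hρ, h, Matrix.mulVec_smul, ← hρ, inv_mul_cancel]
      show vec c (z⁻¹ * y) α * vec c 1 β = vec c (z⁻¹ * y) β * vec c 1 α
      rw [h1, Pi.smul_apply, Pi.smul_apply, smul_eq_mul, smul_eq_mul]
      ring
    exact ⟨b, by rw [hb, mul_inv_cancel_left]⟩
  -- weights
  obtain ⟨d, ⟨Ch⟩⟩ := exists_chars hS
  obtain ⟨P, wt, hP⟩ := exists_weights Ch (iS ≫ r)
  let e : (VecGrp.pt k k ⟶ S) → Fin m → k := fun σ j => ptChr Ch σ (Multiplicative.ofAdd (wt j))
  let w : (VecGrp.pt k k ⟶ G) → Fin m → k := fun z => (P : Matrix (Fin m) (Fin m) k) *ᵥ vec c z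
  have hvw : ∀ z, vec c z = ((P⁻¹ : GL (Fin m) k) : Matrix (Fin m) (Fin m) k) *ᵥ w z := fun z => by
    show _ = _ *ᵥ ((P : Matrix (Fin m) (Fin m) k) *ᵥ vec c z)
    rw [Matrix.mulVec_mulVec, Units.inv_mul, Matrix.one_mulVec]
  have hwne : ∀ z, ∃ j, w z j ≠ 0 := fun z => by
    by_contra! h
    exact hvne z (by rw [hvw, show w z = 0 from funext h, Matrix.mulVec_zero])
  have hwσ : ∀ σ z j, w ((σ ≫ iS) * z) j = e σ j * w z j := fun σ z j => by
    have h1 : (P : Matrix (Fin m) (Fin m) k) * (mtx r (σ ≫ iS) : Matrix (Fin m) (Fin m) k) =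
        Matrix.diagonal (e σ) * (P : Matrix (Fin m) (Fin m) k) := by
      rw [← hP σ, ← Units.val_mul, ← Units.val_mul, mtx_comp, inv_mul_cancel_right]
    show ((P : Matrix (Fin m) (Fin m) k) *ᵥ vec c ((σ ≫ iS) * z)) j = _
    rw [hρ, Matrix.mulVec_mulVec, h1, ← Matrix.mulVec_mulVec, Matrix.mulVec_diagonal]
  -- the weight of a fixed point is that of the base point
  let A₀ : (VecGrp.pt k k ⟶ S) → k := fun σ => l (σ ≫ s ≫ t)
  have hfixed : ∀ (g : VecGrp.pt k k ⟶ G) (A : Fin d → ℤ), (∀ j, w g j ≠ 0 → wt j = A) →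
      ∀ σ, ptChr Ch σ (Multiplicative.ofAdd A) = A₀ σ := fun g A hA σ => by
    have hfix : ∀ σ, vec c ((σ ≫ iS) * g) = ptChr Ch σ (Multiplicative.ofAdd A) • vec c g := fun σ => by
      rw [hvw, hvw g, ← Matrix.mulVec_smul]
      congr 1
      funext j
      rw [Pi.smul_apply, hwσ, smul_eq_mul]
      by_cases hj : w g j = 0
      · rw [hj, mul_zero, mul_zero]
      · show ptChr Ch σ (Multiplicative.ofAdd (wt j)) * _ = _
        rw [hA j hj]
    obtain ⟨h, b, hgb, hh⟩ := exists_decomp_of_fixed hB hT t ht hS iS s hs hW g fun σ => hsep g _ _ (hfix σ)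
    have h1 : vec c ((σ ≫ iS) * g) = A₀ σ • vec c g := by
      rw [hgb, ← _root_.mul_assoc, ← hh σ, hright, hright,
        show σ ≫ iS = (σ ≫ s ≫ t) ≫ iB by rw [Category.assoc, Category.assoc, ht, hs], hright, smul_smul, smul_smul,
        _root_.mul_comm]
    obtain ⟨α, hα⟩ := hne g
    have h2 := congrFun ((hfix σ).symm.trans h1) α
    exact mul_right_cancel₀ (show vec c g α ≠ 0 from hα) h2
  -- the extreme weights of any point are those of the base point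
  obtain ⟨b₀, hb₀⟩ := exists_pairing_ne_zero
    (((Finset.univ ×ˢ Finset.univ).image fun p : Fin m × Fin m => wt p.1 - wt p.2).filter (· ≠ 0))
    fun v hv => (Finset.mem_filter.1 hv).2
  have hsepn : ∀ j j', pairing (wt j) b₀ = pairing (wt j') b₀ → wt j = wt j' := fun j j' h => by
    by_contra hne'
    refine hb₀ (wt j - wt j') (Finset.mem_filter.2 ⟨Finset.mem_image.2 ⟨(j, j'),
      Finset.mem_product.2 ⟨Finset.mem_univ _, Finset.mem_univ _⟩, rfl⟩, sub_ne_zero.2 hne'⟩) ?_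
    simp only [pairing, Pi.sub_apply, sub_mul, Finset.sum_sub_distrib]
    exact sub_eq_zero.2 h
  have htopw : ∀ (z : VecGrp.pt k k ⟶ G) (ε : ℤ), (ε = 1 ∨ ε = -1) → ∀ j₀, w z j₀ ≠ 0 →
      (∀ j, w z j ≠ 0 → ε * pairing (wt j) b₀ ≤ ε * pairing (wt j₀) b₀) →
      ∀ σ, ptChr Ch σ (Multiplicative.ofAdd (wt j₀)) = A₀ σ := by
    intro z ε hε j₀ hj₀ hmax
    let n : Fin m → ℤ := fun j => ε * pairing (wt j) b₀
    obtain ⟨g, lam, hg⟩ := exists_top hX hsemi hne
      (fun α j => ((P⁻¹ : GL (Fin m) k) : Matrix (Fin m) (Fin m) k) α j * w z j) n (n j₀)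
      (fun α j hK => hmax j (right_ne_zero_of_mul hK)) fun q => by
        obtain ⟨τ, hτ⟩ := exists_cochar_pt Ch b₀ (q ^ (-ε))
        refine ⟨(τ ≫ iS) * z, fun α => ?_⟩
        rw [show val ((τ ≫ iS) * z) (c α) = vec c ((τ ≫ iS) * z) α from rfl, hvw]
        simp only [Matrix.mulVec, dotProduct]
        refine Finset.sum_congr rfl fun j _ => ?_
        rw [hwσ, show e τ j = _ from hτ (wt j), ← zpow_mul, neg_mul]
        ring
    have htop : (fun j => if n j = n j₀ then w z j else 0) = lam • w g := by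
      have h1 : ((P⁻¹ : GL (Fin m) k) : Matrix (Fin m) (Fin m) k) *ᵥ (fun j => if n j = n j₀ then w z j else 0) =
          lam • vec c g := funext fun α => by
        simp only [Matrix.mulVec, dotProduct]
        refine Eq.trans (Finset.sum_congr rfl fun j _ => ?_) (hg α)
        split_ifs <;> simp
      have h2 := congrArg (fun u => (P : Matrix (Fin m) (Fin m) k) *ᵥ u) h1
      simpa [Matrix.mulVec_mulVec, Matrix.mulVec_smul, w] using h2
    have hlam : lam ≠ 0 := fun h0 => hj₀ (by simpa [h0] using congrFun htop j₀)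
    refine hfixed g (wt j₀) fun j hj => hsepn j j₀ ?_
    have h := congrFun htop j
    simp only [Pi.smul_apply, smul_eq_mul] at h
    split_ifs at h with hn
    · rcases hε with rfl | rfl
      · simpa [n] using hn
      · simpa [n] using hn
    · exact absurd h.symm (mul_ne_zero hlam hj)
  obtain ⟨j₁, hj₁⟩ := hwne x
  let Supp := Finset.univ.filter fun j => w x j ≠ 0
  have hSupp : Supp.Nonempty := ⟨j₁, Finset.mem_filter.2 ⟨Finset.mem_univ _, hj₁⟩⟩
  obtain ⟨jM, hjM, hM⟩ := Supp.exists_max_image (fun j => pairing (wt j) b₀) hSupp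
  obtain ⟨jm, hjm, hm⟩ := Supp.exists_min_image (fun j => pairing (wt j) b₀) hSupp
  replace hjM := (Finset.mem_filter.1 hjM).2
  replace hjm := (Finset.mem_filter.1 hjm).2
  have hA := htopw x 1 (Or.inl rfl) jM hjM fun j hj => by
    simpa using hM j (Finset.mem_filter.2 ⟨Finset.mem_univ _, hj⟩)
  have hA' := htopw x (-1) (Or.inr rfl) jm hjm fun j hj => by
    simpa using hm j (Finset.mem_filter.2 ⟨Finset.mem_univ _, hj⟩)
  have heq : wt jm = wt jM := eq_of_forall_ptChr Ch fun σ => (hA' σ).trans (hA σ).symm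
  have hall : ∀ j, w x j ≠ 0 → wt j = wt jM := fun j hj => by
    refine hsepn j jM (le_antisymm (hM j (Finset.mem_filter.2 ⟨Finset.mem_univ _, hj⟩)) ?_)
    have := hm j (Finset.mem_filter.2 ⟨Finset.mem_univ _, hj⟩)
    rw [heq] at this
    exact this
  have hxfix : vec c ((σ ≫ iS) * x) = ptChr Ch σ (Multiplicative.ofAdd (wt jM)) • vec c x := by
    rw [hvw, hvw x, ← Matrix.mulVec_smul]
    congr 1
    funext j
    rw [Pi.smul_apply, hwσ, smul_eq_mul]
    by_cases hj : w x j = 0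
    · rw [hj, mul_zero, mul_zero]
    · show ptChr Ch σ (Multiplicative.ofAdd (wt j)) * _ = _
      rw [hall j hj]
  obtain ⟨b, hb⟩ := hsep x _ _ hxfix
  exact ⟨b, by rw [_root_.mul_assoc, hb, inv_mul_cancel_left]⟩

end Groth.Agent.TorPts21
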