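import Groth.Agent.Lib.TorPts21.BorelCover
import Groth.Agent.Lib.TorPts21.UnipRadical
import Groth.Agent.Lib.TorPts21.UnipChar
import Groth.Agent.Lib.PerfProd19.Basic
import Groth.Agent.Lib.RedSep.Basic

/-!
# Luna's theorem on the intersection of the Borel subgroups containing a maximal torus
-/

set_option autoImplicit false
set_option linter.style.haveILetI false
set_option backward.isDefEq.respectTransparency.types false
universe u

open CategoryTheory Limits MonoidalCategory CartesianMonoidalCategory MonObj AlgebraicGeometry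

noncomputable section

namespace Groth.Agent.TorPts21

open MatGrp21 InvRing21 OrbitTop19
open scoped Matrix

attribute [local instance] InvRing21.gamAlg BorelFix21.ptsTop

variable {k : Type u} [Field k] [IsAlgClosed k]

/-- A character of a connected group without subtori is trivial. -/
theorem eq_one_of_char {H : Over (Spec (CommRingCat.of k))} [GrpObj H] [IsAffine H.left] [Smooth H.hom]
    [ConnectedSpace H.left] (hH : Red.HasNoSubtorus k H) (F : Γ(H.left, ⊤))
    (hmul : ∀ x y : VecGrp.pt k k ⟶ H, val (x * y) F = val x F * val y F)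
    (hne : ∀ x : VecGrp.pt k k ⟶ H, val x F ≠ 0) (x : VecGrp.pt k k ⟶ H) : val x F = 1 := by
  obtain ⟨n, r, hr, hrc, hu⟩ := exists_upper_embedding (𝟙 H) (isSolvableGrp_of_hasNoSubtorus H hH)
  haveI := hr
  haveI := hrc
  have hl := range_le_lay_of_hasNoSubtorus r (fun g hg => hu (by simpa using hg)) hH
  obtain ⟨a, ha⟩ := exists_eq_appTop r F
  have hv : ∀ y, val y F = evalGL (mtx r y) a := fun y => by rw [← ha, val_eq_evalGL, mtx_apply]
  rw [hv]
  refine eq_one_of_isUnip (isClosed_range_mtx r) (isReg_evalGL a) ?_ ?_ ⟨x, rfl⟩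
    (isUnip_of_mem_lay (hl ⟨x, rfl⟩))
  · rintro _ ⟨y, rfl⟩ _ ⟨z, rfl⟩
    rw [← map_mul, ← hv, ← hv, ← hv, hmul]
  · rintro _ ⟨y, rfl⟩
    rw [← hv]
    exact hne y

/-- An eigenfunctional of a group without characters is invariant. -/
theorem eigen_eq_one {G H : Over (Spec (CommRingCat.of k))} [GrpObj G] [GrpObj H] [IsAffine G.left] [Smooth G.hom]
    [IsAffine H.left] [Smooth H.hom] [ConnectedSpace H.left] (j : H ⟶ G) [IsMonHom j]
    (hH : Red.HasNoSubtorus k H) {m : ℕ} (r : G ⟶ GLs k m) [IsMonHom r] (c : Fin m → Γ(G.left, ⊤))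
    (hρ : ∀ g x, vec c (g * x) = (mtx r g : Matrix (Fin m) (Fin m) k) *ᵥ vec c x) (φ : Fin m → k)
    (x₁ : VecGrp.pt k k ⟶ G) (hx₁ : φ ⬝ᵥ vec c x₁ ≠ 0)
    (hδ : ∀ h : VecGrp.pt k k ⟶ H, ∃ δ : k, ∀ z, φ ⬝ᵥ vec c ((h ≫ j) * z) = δ * (φ ⬝ᵥ vec c z))
    (h : VecGrp.pt k k ⟶ H) (z : VecGrp.pt k k ⟶ G) : φ ⬝ᵥ vec c ((h ≫ j) * z) = φ ⬝ᵥ vec c z := by
  let F : Γ(H.left, ⊤) := j.left.appTop ((rTr x₁).left.appTop
    (∑ α, ((φ ⬝ᵥ vec c x₁)⁻¹ * φ α) • c α))
  have hF : ∀ y : VecGrp.pt k k ⟶ H, ∀ δ : k, (∀ z, φ ⬝ᵥ vec c ((y ≫ j) * z) = δ * (φ ⬝ᵥ vec c z)) →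
      val y F = δ := fun y δ hy => by
    rw [appTop_val, val_rTr, map_sum]
    simp only [map_smul, smul_eq_mul, _root_.mul_assoc, ← Finset.mul_sum]
    show (φ ⬝ᵥ vec c x₁)⁻¹ * (φ ⬝ᵥ vec c ((y ≫ j) * x₁)) = δ
    rw [hy, _root_.mul_comm δ, inv_mul_cancel_left₀ hx₁]
  choose δ hδ using hδ
  have h1 := eq_one_of_char hH F (fun y z => by
    rw [hF y _ (hδ y), hF z _ (hδ z)]
    refine hF _ _ fun w => ?_
    rw [MonObj.mul_comp, _root_.mul_assoc, hδ, hδ, _root_.mul_assoc]) (fun y h0 => by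
    refine hx₁ ?_
    have := hδ y (((y ≫ j)⁻¹) * x₁)
    rwa [mul_inv_cancel_left, ← hF y _ (hδ y), h0, zero_mul] at this) h
  rw [hδ, ← hF h _ (hδ h), h1, _root_.one_mul]

set_option maxHeartbeats 1600000 in
/-- A connected group acting on a proper scheme fixes a point in the closure of each of its orbits, as soon as it
is solvable. -/
theorem exists_fixed_mem_closure {H X : Over (Spec (CommRingCat.of k))} [GrpObj H] [IsAffine H.left] [Smooth H.hom]
    [ConnectedSpace H.left] (hH : Red.IsSolvableGrp H) [IsProper X.hom] (a : AlgGrp.Action H X)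
    (x₀ : 𝟙_ (Over (Spec (CommRingCat.of k))) ⟶ X) :
    ∃ x : 𝟙_ (Over (Spec (CommRingCat.of k))) ⟶ X, a.IsFixedPt x ∧
      img (toUnit (VecGrp.pt k k) ≫ x) ∈ closure ((fun h => img (h ≫ a.orbitMap x₀)) '' Set.univ) := by
  let q : H ⟶ X := a.orbitMap x₀
  let C : TopologicalSpace.Closeds X.left := TopologicalSpace.Closeds.closure (Set.range q.left)
  let I := Scheme.IdealSheafData.vanishingIdeal C
  let Y : Over (Spec (CommRingCat.of k)) := Over.mk (I.subschemeι ≫ X.hom)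
  let em : Y ⟶ X := Over.homMk I.subschemeι
  haveI : IsClosedImmersion em.left := inferInstanceAs (IsClosedImmersion I.subschemeι)
  haveI : Mono em := Over.mono_of_mono_left em
  haveI : IsReduced Y.left := RedSepLib.isReduced_vanishingIdeal_subscheme C
  haveI : IsProper Y.hom := by
    show IsProper (em.left ≫ X.hom)
    infer_instance
  haveI : LocallyOfFiniteType Y.hom := inferInstance
  have hrange : Set.range em.left = closure (Set.range q.left) := by
    show Set.range I.subschemeι = _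
    rw [Scheme.IdealSheafData.range_subschemeι]
    exact Scheme.IdealSheafData.coe_support_vanishingIdeal _
  haveI : IsReduced H.left := isReduced_of_smooth H.hom
  haveI : IsReduced (H ⊗ Y).left := PerfProd19.isReduced_tensorObj H Y
  haveI : LocallyOfFiniteType (H ⊗ Y).hom :=
    inferInstanceAs (LocallyOfFiniteType (pullback.fst H.hom Y.hom ≫ H.hom))
  let f : H ⊗ Y ⟶ X := (H ◁ em) ≫ a.act
  have hsub : Set.range f.left ⊆ Set.range em.left := by
    have hC : IsClosed (f.left ⁻¹' Set.range em.left) :=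
      em.left.isClosedEmbedding.isClosed_range.preimage f.left.continuous
    rintro _ ⟨p, rfl⟩
    by_contra hp
    obtain ⟨w, hw⟩ := BorelFix21.exists_pt_mem (G := H ⊗ Y) hC.isOpen_compl.isLocallyClosed ⟨p, hp⟩
    refine hw ?_
    let γ₀ : 𝟙_ (Over (Spec (CommRingCat.of k))) ⟶ H := toPt _ ≫ w ≫ fst H Y
    have hw1 : w ≫ fst H Y = toUnit _ ≫ γ₀ := by
      rw [← Category.assoc, comp_toPt, toPt_pt, Category.id_comp]
    have hfw : w ≫ f = (w ≫ snd H Y ≫ em) ≫ tr a γ₀ := by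
      rw [comp_tr, ← hw1, ← Category.assoc,
        show (H ◁ em) = lift (fst H Y) (snd H Y ≫ em) from
          CartesianMonoidalCategory.hom_ext _ _ (by simp) (by simp), comp_lift]
    have hstab : Set.MapsTo (tr a γ₀).left (Set.range q.left) (Set.range q.left) := by
      rintro _ ⟨g, rfl⟩
      refine ⟨((toUnit H ≫ γ₀) * 𝟙 H).left g, ?_⟩
      rw [apply_comp_left q (tr a γ₀) _ (BorelFix21.orbitMap_tr a x₀ γ₀)]
      exact apply_comp_left _ _ _ rfl g
    show img (w ≫ f) ∈ Set.range em.left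
    rw [hfw, hrange]
    show (tr a γ₀).left (img (w ≫ snd H Y ≫ em)) ∈ closure (Set.range q.left)
    refine map_mem_closure (tr a γ₀).left.continuous ?_ hstab
    rw [← hrange]
    exact ⟨img (w ≫ snd H Y), rfl⟩
  obtain ⟨l, hl⟩ := RedSepLib.exists_lift_of_range_subset f.left em.left hsub
  let act : H ⊗ Y ⟶ Y := Over.homMk l (by rw [← Over.w em, reassoc_of% hl, Over.w f])
  have hact : act ≫ em = (H ◁ em) ≫ a.act := Over.OverMorphism.ext hl
  let b : AlgGrp.Action H Y :=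
    { act := act
      one_act := by
        rw [← cancel_mono em, Category.assoc, hact, ← MonoidalCategory.whisker_exchange_assoc,
          a.one_act, leftUnitor_naturality]
      mul_act := by
        rw [← cancel_mono em, Category.assoc, hact, ← MonoidalCategory.whisker_exchange_assoc,
          a.mul_act, Category.assoc, Category.assoc, hact, MonoidalCategory.tensor_whiskerLeft]
        simp only [Category.assoc, Iso.inv_hom_id_assoc]
        rw [← MonoidalCategory.whiskerLeft_comp_assoc H (H ◁ em), ← hact, MonoidalCategory.whiskerLeft_comp_assoc,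
          hact] }
  haveI : Nonempty Y.left := by
    obtain ⟨y, -⟩ := hrange.ge (subset_closure ⟨img (1 : VecGrp.pt k k ⟶ H), rfl⟩)
    exact ⟨y⟩
  haveI : Group.IsSolvable (𝟙_ (Over (Spec (CommRingCat.of k))) ⟶ H) :=
    (Group.isSolvable_def _).2 ⟨hH.choose, hH.choose_spec _⟩
  obtain ⟨y, hy⟩ := Groth.Agent.S3276.result k H Y b
  refine ⟨y ≫ em, fun T h => ?_, ?_⟩
  · have h1 : lift h (toUnit T ≫ y) ≫ act ≫ em = (toUnit T ≫ y) ≫ em := by
      rw [← Category.assoc]; exact congrArg (· ≫ em) (hy T h)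
    rwa [hact, lift_whiskerLeft_assoc, Category.assoc] at h1
  · have h1 : img (toUnit (VecGrp.pt k k) ≫ y ≫ em) ∈ closure (Set.range q.left) :=
      hrange.le ⟨img (toUnit (VecGrp.pt k k) ≫ y), rfl⟩
    refine closure_minimal ?_ isClosed_closure h1
    rintro _ ⟨g, rfl⟩
    refine mem_closure_iff.2 fun O hO hgO => ?_
    obtain ⟨w, hw⟩ := BorelFix21.exists_pt_mem (G := H)
      (hO.preimage q.left.continuous).isLocallyClosed ⟨g, hgO⟩
    exact ⟨img (w ≫ q), hw, w, trivial, rfl⟩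

variable {G : Over (Spec (CommRingCat.of k))} [GrpObj G] [IsAffine G.left] [Smooth G.hom] [ConnectedSpace G.left]

set_option maxHeartbeats 1600000 in
/-- A connected subgroup without subtori inside the unipotent radicals of the Borel subgroups containing a maximal
torus lies in all Borel subgroups. -/
theorem exists_pt_mem_conj_borel {H T B : Over (Spec (CommRingCat.of k))} [GrpObj H] [GrpObj T] [GrpObj B]
    (j : H ⟶ G) [IsMonHom j] [IsAffine H.left] [Smooth H.hom] [ConnectedSpace H.left]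
    (hH : Red.HasNoSubtorus k H) {iT : T ⟶ G} (hT : AGF.IsMaxTorus iT) {iB : B ⟶ G} (hB : Red.IsBorelOver k iB)
    (hmem : ∀ (B' : Over (Spec (CommRingCat.of k))) [GrpObj B'] (iB' : B' ⟶ G) (t : T ⟶ B'), Red.IsBorelOver k iB' →
      t ≫ iB' = iT → ∃ f : H ⟶ B', f ≫ iB' = j)
    (y : VecGrp.pt k k ⟶ G) (h : VecGrp.pt k k ⟶ H) :
    ∃ b : VecGrp.pt k k ⟶ B, b ≫ iB = y⁻¹ * (h ≫ j) * y := by
  classical
  obtain ⟨hm, hcl, hs, -⟩ := id hB
  haveI := hm
  haveI := hcl
  obtain ⟨X, a, o, m, c, l, hX, hXp, ⟨r, hr, hρ⟩, hsemi, hne, hsep, hchart⟩ := exists_borel_charts hB hT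
  haveI := hXp
  haveI := hr
  have hsol := isSolvableGrp_of_hasNoSubtorus H hH
  have hlin : ∀ (Λ : Fin m → k) (z : VecGrp.pt k k ⟶ G), val z (∑ α, Λ α • c α) = Λ ⬝ᵥ vec c z := fun Λ z => by
    rw [map_sum]; simp [dotProduct, vec]
  have hlsemi : ∀ Λ : Fin m → k, Semi iB l (∑ α, Λ α • c α) := fun Λ z b => by
    simp only [map_sum, map_smul, smul_eq_mul, hsemi _ z b, Finset.mul_sum]
    exact Finset.sum_congr rfl fun α _ => by ring
  -- a fixed point in the closure of the orbit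
  obtain ⟨y₀, hy₀⟩ := exists_gpt y
  replace hy₀ : toUnit (VecGrp.pt k k) ≫ y₀ = y := hy₀
  obtain ⟨x, hxfix, hxcl⟩ := exists_fixed_mem_closure hsol (a.restrict j) (y₀ ≫ a.orbitMap o)
  obtain ⟨g, hg⟩ := InvRing21.IsQuotient.exists_lift hX (toUnit (VecGrp.pt k k) ≫ x).left
    ((Over.w _).trans pt_hom_eq_id)
  replace hg : g ≫ a.orbitMap o = toUnit (VecGrp.pt k k) ≫ x := Over.OverMorphism.ext hg
  have horb : ∀ w : VecGrp.pt k k ⟶ H,
      w ≫ (a.restrict j).orbitMap (y₀ ≫ a.orbitMap o) = ((w ≫ j) * y) ≫ a.orbitMap o := fun w => by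
    rw [AlgGrp.Action.comp_orbitMap, AlgGrp.Action.lift_restrict_act, ← Category.assoc, hy₀,
      AlgGrp.Action.comp_orbitMap, ← AlgGrpBasic19.act_mul, ← AlgGrp.Action.comp_orbitMap]
  have hfixg : ∀ w : VecGrp.pt k k ⟶ H, ∃ b : VecGrp.pt k k ⟶ B, (w ≫ j) * g = g * (b ≫ iB) := fun w => by
    refine (BorelFix21.orbit_eq_iff hX g ((w ≫ j) * g)).1 ?_
    have h1 := hxfix _ w
    rw [AlgGrp.Action.lift_restrict_act, ← hg, AlgGrp.Action.comp_orbitMap, ← AlgGrpBasic19.act_mul] at h1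
    rw [AlgGrp.Action.comp_orbitMap, AlgGrp.Action.comp_orbitMap]
    exact h1.symm
  have hclos : ∀ Λ : Fin m → k, (∀ w : VecGrp.pt k k ⟶ H, Λ ⬝ᵥ vec c ((w ≫ j) * y) = 0) → Λ ⬝ᵥ vec c g = 0 := by
    intro Λ hΛ
    rw [← hlin]
    refine val_eq_zero_of_mem_closure hX (hlsemi Λ) (Set.range fun w : VecGrp.pt k k ⟶ H => (w ≫ j) * y) ?_ ?_
    · rintro _ ⟨w, rfl⟩
      rw [hlin]
      exact hΛ w
    · rw [hg]
      refine closure_mono ?_ hxcl
      rintro _ ⟨w, -, rfl⟩
      exact ⟨_, ⟨w, rfl⟩, congrArg img (horb w).symm⟩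
  -- the chart at the fixed point
  obtain ⟨B', _, iB', t, φ, hB', ht, hφg, hφ⟩ := hchart g
  obtain ⟨f, hf⟩ := hmem B' iB' t hB' ht
  have hinv : ∀ w z, φ ⬝ᵥ vec c ((w ≫ j) * z) = φ ⬝ᵥ vec c z :=
    eigen_eq_one j hH r c hρ φ g hφg fun w => by
      obtain ⟨δ, hδ⟩ := hφ (w ≫ f)
      exact ⟨δ, fun z => by rw [← hδ, Category.assoc, hf]⟩
  have hvg : ∀ w : VecGrp.pt k k ⟶ H, vec c ((w ≫ j) * g) = vec c g := fun w => by
    obtain ⟨b, hb⟩ := hfixg w
    have h1 : vec c ((w ≫ j) * g) = l b • vec c g := funext fun α => by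
      show val _ (c α) = l b * val g (c α)
      rw [hb]; exact hsemi α g b
    have h2 := hinv w g
    rw [h1, dotProduct_smul, smul_eq_mul] at h2
    rw [h1, (mul_eq_right₀ hφg).1 h2, one_smul]
  have hφy : φ ⬝ᵥ vec c y ≠ 0 := fun h0 => hφg (hclos φ fun w => by rw [hinv, h0])
  -- the point is the fixed point
  have hN : (φ ⬝ᵥ vec c g) • vec c y - (φ ⬝ᵥ vec c y) • vec c g = 0 := by
    by_contra hN
    let c' : Fin m → Γ(H.left, ⊤) := fun α => j.left.appTop ((rTr y).left.appTop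
      ((φ ⬝ᵥ vec c g) • c α - vec c g α • ∑ β, φ β • c β))
    have hc' : ∀ w, vec c' w = (φ ⬝ᵥ vec c g) • vec c ((w ≫ j) * y) - (φ ⬝ᵥ vec c y) • vec c g := fun w => by
      funext α
      show val w (c' α) = _
      show val w (j.left.appTop _) = _
      rw [appTop_val, val_rTr, map_sub, map_smul, map_smul, hlin, hinv, smul_eq_mul, smul_eq_mul, _root_.mul_comm (vec c g α)]
      rfl
    have hρ' : ∀ w z, vec c' (w * z) = (mtx (j ≫ r) w : Matrix (Fin m) (Fin m) k) *ᵥ vec c' z := fun w z => by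
      rw [mtx_comp, hc', hc', Matrix.mulVec_sub, Matrix.mulVec_smul, Matrix.mulVec_smul, ← hρ, ← hρ, hvg,
        MonObj.mul_comp, _root_.mul_assoc]
    obtain ⟨ξ, ⟨x₁, hx₁⟩, hξ⟩ := exists_eigen_functional (𝟙 H) hsol (j ≫ r) c' hρ' ⟨1, by
      rw [hc', MonObj.one_comp, _root_.one_mul]; exact hN⟩
    have hξinv := eigen_eq_one (𝟙 H) hH (j ≫ r) c' hρ' ξ x₁ hx₁ hξ
    have hconst : ∀ w, ξ ⬝ᵥ vec c' w = ξ ⬝ᵥ vec c' 1 := fun w => by
      have := hξinv w 1
      rwa [Category.comp_id, _root_.mul_one] at this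
    refine hx₁ ?_
    rw [hconst]
    set κ := ξ ⬝ᵥ vec c' 1 with hκ
    have h0 := hclos ((φ ⬝ᵥ vec c g) • ξ - ((ξ ⬝ᵥ vec c g) + κ / (φ ⬝ᵥ vec c y)) • φ) fun w => by
      have hw := hconst w
      rw [hc', dotProduct_sub, dotProduct_smul, dotProduct_smul, smul_eq_mul, smul_eq_mul] at hw
      rw [sub_dotProduct, smul_dotProduct, smul_dotProduct, smul_eq_mul, smul_eq_mul, hinv, add_mul,
        div_mul_cancel₀ _ hφy, ← hw]
      ring
    rw [sub_dotProduct, smul_dotProduct, smul_dotProduct, smul_eq_mul, smul_eq_mul] at h0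
    have h1 : κ / (φ ⬝ᵥ vec c y) * (φ ⬝ᵥ vec c g) = 0 := by linear_combination -h0
    exact (div_eq_zero_iff.1 ((mul_eq_zero.1 h1).resolve_right hφg)).resolve_right hφy
  obtain ⟨b, hb⟩ := hsep g y ((φ ⬝ᵥ vec c y) / (φ ⬝ᵥ vec c g)) (by
    rw [div_eq_inv_mul, ← smul_smul, ← sub_eq_zero.1 hN, inv_smul_smul₀ hφg])
  obtain ⟨b₁, hb₁⟩ := hfixg h
  refine ⟨b⁻¹ * b₁ * b, ?_⟩
  rw [hb, MonObj.mul_comp, MonObj.mul_comp, GrpObj.inv_comp,
    show (h ≫ j) = g * (b₁ ≫ iB) * g⁻¹ by rw [← hb₁]; group]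
  group

set_option maxHeartbeats 800000 in
/-- Luna's theorem: a connected subgroup inside the unipotent radical of every Borel subgroup containing a maximal
torus lies in the unipotent radical. -/
theorem exists_lift_unipotentRadical {U H T : Over (Spec (CommRingCat.of k))} [GrpObj U] [GrpObj H] [GrpObj T]
    {u : U ⟶ G} (hU : Par.IsUnipotentRadical u) {iT : T ⟶ G} (hT : AGF.IsMaxTorus iT) (j : H ⟶ G) [IsMonHom j]
    [IsClosedImmersion j.left] [Smooth H.hom] [ConnectedSpace H.left] (hH : Red.HasNoSubtorus k H)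
    (hmem : ∀ (B' : Over (Spec (CommRingCat.of k))) [GrpObj B'] (iB' : B' ⟶ G) (t : T ⟶ B'), Red.IsBorelOver k iB' →
      t ≫ iB' = iT → ∃ f : H ⟶ B', f ≫ iB' = j) :
    ∃ f : H ⟶ U, f ≫ u = j := by
  haveI : IsAffine H.left := isAffine_of_isAffineHom j.left
  obtain ⟨B, _, iB, hB, -⟩ := BorelFix21.exists_isBorelOver G
  obtain ⟨hm, hc, hs, hn, hsol, -⟩ := id hB
  haveI := hm
  haveI := hc
  haveI := hs
  haveI := hn
  obtain ⟨V, _, v, hvm, hvc, hvs, hvn, hvnorm, hns, hall⟩ := exists_unipotent_core iB hsol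
  haveI := hvm
  haveI := hvc
  haveI : IsAffine V.left := isAffine_of_isAffineHom v.left
  obtain ⟨f, hf⟩ := hall H j inferInstance inferInstance inferInstance hH fun g h => by
    obtain ⟨b, hb⟩ := exists_pt_mem_conj_borel j hH hT hB hmem g⁻¹ h
    exact ⟨b, by rw [hb, inv_inv]⟩
  obtain ⟨-, -, -, -, -, -, -, huniv⟩ := (isUnipotentRadical_iff u).1 hU
  obtain ⟨f', hf'⟩ := huniv V v hvc hvnorm hvs inferInstance hvn hns
  exact ⟨f ≫ f', by rw [Category.assoc, hf', hf]⟩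

end Groth.Agent.TorPts21
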