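import Groth.Agent.Lib.TorPts21.WeylNorm
import Mathlib.LinearAlgebra.Matrix.Determinant.Basic

/-!
# A central torus meets the commutators in points of bounded order
-/

set_option autoImplicit false
set_option linter.style.haveILetI false
set_option backward.isDefEq.respectTransparency.types false
universe u

open CategoryTheory Limits MonoidalCategory CartesianMonoidalCategory MonObj AlgebraicGeometry

noncomputable section

namespace Groth.Agent.TorPts21

open MatGrp21 InvRing21 DiagGL
open scoped Matrix

attribute [local instance] InvRing21.gamAlg BorelFix21.ptsTop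

variable {k : Type u} [Field k] [IsAlgClosed k] {G S : Over (Spec (CommRingCat.of k))} [GrpObj G] [GrpObj S]
  [IsAffine G.left] [LocallyOfFiniteType G.hom]

set_option maxHeartbeats 1600000 in
/-- The determinants on the weight spaces bound the order of a central point which is a product of commutators. -/
theorem exists_pow_eq_one_of_mem_commutator (hS : Red.IsTorus S) (iS : S ⟶ G) [IsMonHom iS] [Mono iS] :
    ∃ N, 0 < N ∧ ∀ σ : VecGrp.pt k k ⟶ S, (∀ g : VecGrp.pt k k ⟶ G, g * (σ ≫ iS) = (σ ≫ iS) * g) →
      σ ≫ iS ∈ commutator (VecGrp.pt k k ⟶ G) → σ ^ N = 1 := by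
  classical
  obtain ⟨d, ⟨C⟩⟩ := exists_chars hS
  haveI := isClosedImmersion_of_torus hS iS
  obtain ⟨m, r, hr, hrc⟩ := GrassAct21.exists_embedding_GL G
  haveI := hr
  haveI := hrc
  haveI : IsClosedImmersion (iS ≫ r).left := by rw [Over.comp_left]; infer_instance
  obtain ⟨P, wt, hP⟩ := exists_weights C (iS ≫ r)
  let Q : (VecGrp.pt k k ⟶ G) → Matrix (Fin m) (Fin m) k := fun g => ((P * mtx r g * P⁻¹ : GL (Fin m) k) : Matrix _ _ k)
  have hQmul : ∀ g g', Q (g * g') = Q g * Q g' := fun g g' => by
    simp only [Q]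
    rw [← Units.val_mul, map_mul]
    congr 1
    group
  refine ⟨Nat.factorial m, Nat.factorial_pos m, fun σ hcen hσ => mtxFn_injective (iS ≫ r) ?_⟩
  let e : Fin m → k := fun j => ptChr C σ (Multiplicative.ofAdd (wt j))
  have hzero : ∀ g j l, e j ≠ e l → Q g j l = 0 := fun g j l hne => by
    by_contra h0
    refine hne ?_
    have h1 : Matrix.diagonal e * Q g = Q g * Matrix.diagonal e := by
      simp only [Q, e]
      rw [← hP σ, ← Units.val_mul, ← Units.val_mul, mtx_comp]
      congr 1
      calc P * mtx r (σ ≫ iS) * P⁻¹ * (P * mtx r g * P⁻¹) = P * mtx r ((σ ≫ iS) * g) * P⁻¹ := by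
            rw [map_mul]; group
        _ = _ := by rw [← hcen g, map_mul]; group
    have h2 := congrFun (congrFun h1 j) l
    rw [Matrix.diagonal_mul, Matrix.mul_diagonal, _root_.mul_comm (Q g j l)] at h2
    exact mul_right_cancel₀ h0 h2
  let δ : k → (VecGrp.pt k k ⟶ G) →* k := fun A =>
    { toFun := fun g => ((Q g).submatrix (Subtype.val : {j // e j = A} → Fin m) Subtype.val).det
      map_one' := by
        have : Q 1 = 1 := by simp [Q]
        rw [this, Matrix.submatrix_one _ Subtype.val_injective, Matrix.det_one]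
      map_mul' := fun g g' => by
        rw [hQmul, ← Matrix.det_mul]
        congr 1
        ext j l
        simp only [Matrix.submatrix_apply, Matrix.mul_apply]
        symm
        rw [← Finset.sum_subtype (Finset.univ.filter fun i => e i = A) (fun i => by simp)
          (fun i => Q g j i * Q g' i l)]
        refine Finset.sum_subset (Finset.subset_univ _) fun i _ hi => ?_
        simp only [Finset.mem_filter, Finset.mem_univ, true_and] at hi
        rw [hzero g j i (fun h => hi (h.symm.trans j.2)), zero_mul] }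
  have hval : ∀ A, A ^ Fintype.card {j // e j = A} = 1 := fun A => by
    have h1 : ((δ A).toHomUnits (σ ≫ iS) : kˣ) = 1 :=
      Abelianization.commutator_subset_ker (δ A).toHomUnits hσ
    have h2 := congrArg Units.val h1
    rw [MonoidHom.coe_toHomUnits, Units.val_one] at h2
    rw [← h2]
    show _ = ((Q (σ ≫ iS)).submatrix (Subtype.val : {j // e j = A} → Fin m) Subtype.val).det
    simp only [Q]
    rw [← mtx_comp iS r, hP σ, Matrix.submatrix_diagonal _ _ Subtype.val_injective, Matrix.det_diagonal]
    show _ = ∏ j : {j // e j = A}, e j.1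
    rw [Finset.prod_congr rfl fun j _ => j.2, Finset.prod_const, Finset.card_univ]
  rw [← mtx_apply, ← mtx_apply, map_one]
  have h3 : P * mtx (iS ≫ r) (σ ^ Nat.factorial m) * P⁻¹ = 1 := Units.ext (by
    rw [hP, Units.val_one, ← Matrix.diagonal_one]
    congr 1
    funext j
    rw [ptChr_pow C σ (Nat.factorial_pos m)]
    show e j ^ Nat.factorial m = 1
    have hpos : 0 < Fintype.card {i // e i = e j} := Fintype.card_pos_iff.2 ⟨⟨j, rfl⟩⟩
    have hle : Fintype.card {i // e i = e j} ≤ m := (Fintype.card_subtype_le _).trans_eq (Fintype.card_fin m)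
    obtain ⟨c, hc⟩ := Nat.dvd_factorial hpos hle
    rw [hc, pow_mul, hval, one_pow])
  calc mtx (iS ≫ r) (σ ^ Nat.factorial m) = P⁻¹ * (P * mtx (iS ≫ r) (σ ^ Nat.factorial m) * P⁻¹) * P := by group
    _ = 1 := by rw [h3]; group

/-- A central torus whose points are products of commutators is trivial. -/
theorem eq_one_of_le_commutator (hS : Red.IsTorus S) (iS : S ⟶ G) [IsMonHom iS] [Mono iS]
    (hcen : ∀ (g : VecGrp.pt k k ⟶ G) (σ : VecGrp.pt k k ⟶ S), g * (σ ≫ iS) = (σ ≫ iS) * g)
    (h : ∀ σ : VecGrp.pt k k ⟶ S, σ ≫ iS ∈ commutator (VecGrp.pt k k ⟶ G)) (σ : VecGrp.pt k k ⟶ S) : σ = 1 := by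
  obtain ⟨N, hN, hpow⟩ := exists_pow_eq_one_of_mem_commutator hS iS
  obtain ⟨σ', rfl⟩ := exists_pow_eq hS hN σ
  exact hpow σ' (fun g => hcen g σ') (h σ')

end Groth.Agent.TorPts21
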