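import Groth.Agent.Lib.TorPts21.DetTrick
import Groth.Agent.Lib.TorPts21.SemisimpleField
import Groth.Agent.Lib.TorPts21.GenPoints
import Groth.Agent.Lib.Desc.Over
import Groth.Agent.Lib.NRGIT21.Lift

/-!
# Pairings on tori are trivial; central extensions of tori are commutative
-/

set_option autoImplicit false
set_option linter.style.haveILetI false
set_option backward.isDefEq.respectTransparency.types false
universe u

open CategoryTheory Limits MonoidalCategory CartesianMonoidalCategory MonObj AlgebraicGeometry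
open Groth.Agent.DiagGL

noncomputable section

namespace Groth.Agent.TorPts21

open MatGrp21

attribute [local instance] InvRing21.gamAlg BorelFix21.ptsTop

variable {k : Type u} [Field k] [IsAlgClosed k]

/-- Morphisms out of a torus into an affine scheme agree if they agree on torsion points. -/
theorem eq_of_torsion {S Z : Over (Spec (CommRingCat.of k))} [GrpObj S] [IsAffine Z.left] (hS : Red.IsTorus S)
    (f g : S ⟶ Z) (h : ∀ s : VecGrp.pt k k ⟶ S, (∃ n : ℕ, 0 < n ∧ s ^ n = 1) → s ≫ f = s ≫ g)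
    (x : VecGrp.pt k k ⟶ S) : x ≫ f = x ≫ g := by
  obtain ⟨r, ⟨C⟩⟩ := exists_chars hS
  haveI := isAffine_of_chars C
  haveI := smooth_of_chars C
  obtain ⟨m, ρ, hρ, hρc⟩ := GrassAct21.exists_embedding_GL S
  haveI := hρ
  haveI := hρc
  refine ext_of_val (AlgHom.ext fun F => ?_)
  rw [← InvRing21.appTop_val, ← InvRing21.appTop_val, ← sub_eq_zero, ← map_sub]
  obtain ⟨a, ha⟩ := exists_eq_appTop ρ (f.left.appTop F - g.left.appTop F)
  rw [← ha, val_eq_evalGL]
  have hsub : closure (tors ((mtx ρ).range : Set (GL (Fin m) k))) ⊆ {g' : GL (Fin m) k | evalGL g' a = 0} := by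
    refine closure_minimal ?_ (isClosed_setOf_evalGL a)
    rintro _ ⟨⟨s, rfl⟩, L, hL, hsL⟩
    show evalGL (mtx ρ s) a = 0
    have hs : s ^ L = 1 := mtxFn_injective ρ (by
      rw [← mtx_apply ρ, ← mtx_apply ρ, map_pow, map_one]; exact hsL)
    have h1 := h s ⟨L, Nat.pos_of_ne_zero (fun h0 => hL (by simp [h0])), hs⟩
    rw [mtx_apply, ← val_eq_evalGL, ha, map_sub, InvRing21.appTop_val, InvRing21.appTop_val, h1, sub_self]
  exact hsub (range_mtx_dense C ρ ⟨x, by rw [mtx_apply]⟩)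

/-- A bimultiplicative map of tori into a group is trivial. -/
theorem eq_one_of_bimultiplicative {S E : Over (Spec (CommRingCat.of k))} [GrpObj S] [GrpObj E] [IsAffine E.left]
    (hS : Red.IsTorus S) (c : S ⊗ S ⟶ E)
    (hl : ∀ s s' t : VecGrp.pt k k ⟶ S, lift (s * s') t ≫ c = (lift s t ≫ c) * (lift s' t ≫ c))
    (hr : ∀ s t t' : VecGrp.pt k k ⟶ S, lift s (t * t') ≫ c = (lift s t ≫ c) * (lift s t' ≫ c)) : c = 1 := by
  obtain ⟨r, ⟨C⟩⟩ := exists_chars hS
  haveI := isAffine_of_chars C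
  haveI := smooth_of_chars C
  haveI : Smooth (S ⊗ S).hom := inferInstanceAs (Smooth (pullback.fst S.hom S.hom ≫ S.hom))
  haveI : IsReduced (S ⊗ S).left := OrbitTop19.isReduced_of_smooth (S ⊗ S).hom
  refine eq_one_of_forall_pts _ fun x => ?_
  obtain ⟨s, t, rfl⟩ : ∃ s t, lift s t = x := ⟨x ≫ fst S S, x ≫ snd S S,
    CartesianMonoidalCategory.hom_ext _ _ (lift_fst _ _) (lift_snd _ _)⟩
  let ft : S ⟶ E := lift (𝟙 S) (InvRing21.toPt S ≫ t) ≫ c
  have hft : ∀ y : VecGrp.pt k k ⟶ S, y ≫ ft = lift y t ≫ c := fun y => by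
    simp only [ft, ← Category.assoc, comp_lift, Category.comp_id]
    rw [InvRing21.comp_toPt, InvRing21.toPt_pt, Category.id_comp]
  rw [← hft, eq_of_torsion hS ft 1 (fun y ⟨n, hn, hy⟩ => ?_) s, MonObj.comp_one]
  rw [hft, MonObj.comp_one]
  obtain ⟨u, rfl⟩ := exists_pow_eq hS hn t
  let R : (VecGrp.pt k k ⟶ S) →* (VecGrp.pt k k ⟶ E) := MonoidHom.mk' (fun t => lift y t ≫ c) (hr y)
  let L : (VecGrp.pt k k ⟶ S) →* (VecGrp.pt k k ⟶ E) := MonoidHom.mk' (fun y => lift y u ≫ c) fun a b => hl a b u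
  calc lift y (u ^ n) ≫ c = R (u ^ n) := rfl
    _ = (R u) ^ n := map_pow R u n
    _ = L (y ^ n) := (map_pow L y n).symm
    _ = 1 := by rw [hy, map_one]

set_option maxHeartbeats 800000 in
/-- A central extension of a torus is commutative, over an algebraically closed field. -/
theorem commute_of_central_extension {S E : Over (Spec (CommRingCat.of k))} [GrpObj S] [GrpObj E]
    (hS : Red.IsTorus S) [IsAffine E.left] [LocallyOfFiniteType E.hom] (q : E ⟶ S) [IsMonHom q] [Flat q.left]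
    [Surjective q.left]
    (hcentral : ∀ (X : Over (Spec (CommRingCat.of k))) (z : X ⟶ E), z ≫ q = 1 → ∀ g : X ⟶ E, z * g = g * z)
    {X : Over (Spec (CommRingCat.of k))} (g h : X ⟶ E) : g * h = h * g := by
  obtain ⟨r, ⟨C⟩⟩ := exists_chars hS
  haveI := isAffine_of_chars C
  haveI := smooth_of_chars C
  haveI : LocallyOfFiniteType (q.left ≫ S.hom) := by rw [Over.w q]; infer_instance
  haveI : LocallyOfFiniteType q.left := locallyOfFiniteType_of_comp q.left S.hom
  have hcov : Desc.IsCover q := Desc.isCover_of_lft q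
  haveI : LocallyOfFiniteType (E ⊗ E).hom :=
    inferInstanceAs (LocallyOfFiniteType (pullback.fst E.hom E.hom ≫ E.hom))
  haveI : LocallyOfFiniteType (S ⊗ S).hom :=
    inferInstanceAs (LocallyOfFiniteType (pullback.fst S.hom S.hom ≫ S.hom))
  let p : E ⊗ E ⟶ S ⊗ S := lift (fst E E ≫ q) (snd E E ≫ q)
  have hFS : Flat p.left ∧ Surjective p.left := by
    have hp : p = (E ◁ q) ≫ (q ▷ S) := CartesianMonoidalCategory.hom_ext _ _ (by simp [p]) (by simp [p])
    have h1 : IsPullback (snd E E).left (E ◁ q).left q.left (snd E S).left := by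
      refine IsPullback.of_bot (v₂₁ := (fst E S).left) (v₂₂ := S.hom) (h₃₁ := E.hom) ?_
        (by rw [← Over.comp_left, ← Over.comp_left, whiskerLeft_snd]) (IsPullback.of_hasPullback E.hom S.hom).flip
      rw [← Over.comp_left, whiskerLeft_fst, Over.w q]
      exact (IsPullback.of_hasPullback E.hom E.hom).flip
    have h2 : IsPullback (fst E S).left (q ▷ S).left q.left (fst S S).left := by
      refine IsPullback.of_bot (v₂₁ := (snd S S).left) (v₂₂ := S.hom) (h₃₁ := S.hom) ?_ ?_ ?_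
      · rw [← Over.comp_left, whiskerRight_snd, Over.w]
        exact IsPullback.of_hasPullback E.hom S.hom
      · rw [← Over.comp_left, ← Over.comp_left, whiskerRight_fst]
      · exact IsPullback.of_hasPullback S.hom S.hom
    haveI : Flat (E ◁ q).left := MorphismProperty.of_isPullback (P := @Flat) h1 inferInstance
    haveI : Flat (q ▷ S).left := MorphismProperty.of_isPullback (P := @Flat) h2 inferInstance
    haveI : Surjective (E ◁ q).left := MorphismProperty.of_isPullback (P := @Surjective) h1 inferInstance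
    haveI : Surjective (q ▷ S).left := MorphismProperty.of_isPullback (P := @Surjective) h2 inferInstance
    rw [hp, Over.comp_left]
    exact ⟨inferInstance, inferInstance⟩
  haveI := hFS.1
  haveI := hFS.2
  have hScomm : ∀ {T : Over (Spec (CommRingCat.of k))} (a b : T ⟶ S), a * b = b * a :=
    fun a b => commute_of_chars C a b
  obtain ⟨c, hc, -⟩ := (Desc.isCover_of_lft p).descend (fst E E * snd E E * (fst E E)⁻¹ * (snd E E)⁻¹)
    fun T x y e => by
      have e1 : (x ≫ fst E E) ≫ q = (y ≫ fst E E) ≫ q := by simpa [p] using congrArg (· ≫ fst S S) e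
      have e2 : (x ≫ snd E E) ≫ q = (y ≫ snd E E) ≫ q := by simpa [p] using congrArg (· ≫ snd S S) e
      simp only [MonObj.comp_mul, GrpObj.comp_inv]
      generalize x ≫ fst E E = a at e1 ⊢
      generalize y ≫ fst E E = a' at e1 ⊢
      generalize x ≫ snd E E = b at e2 ⊢
      generalize y ≫ snd E E = b' at e2 ⊢
      have hz : (a'⁻¹ * a) ≫ q = 1 := by rw [MonObj.mul_comp, GrpObj.inv_comp, e1, inv_mul_cancel]
      have hw : (b'⁻¹ * b) ≫ q = 1 := by rw [MonObj.mul_comp, GrpObj.inv_comp, e2, inv_mul_cancel]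
      obtain ⟨z, rfl⟩ : ∃ z, a = a' * z := ⟨a'⁻¹ * a, (mul_inv_cancel_left _ _).symm⟩
      obtain ⟨w, rfl⟩ : ∃ w, b = b' * w := ⟨b'⁻¹ * b, (mul_inv_cancel_left _ _).symm⟩
      rw [inv_mul_cancel_left] at hz hw
      have hz' := hcentral T z hz
      have hw' := hcentral T w hw
      calc (a' * z) * (b' * w) * (a' * z)⁻¹ * (b' * w)⁻¹
          = a' * (z * b') * (w * z⁻¹) * a'⁻¹ * w⁻¹ * b'⁻¹ := by group
        _ = a' * (b' * z) * (z⁻¹ * w) * a'⁻¹ * w⁻¹ * b'⁻¹ := by rw [hz' b', hw' z⁻¹]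
        _ = a' * b' * (w * a'⁻¹) * w⁻¹ * b'⁻¹ := by group
        _ = a' * b' * (a'⁻¹ * w) * w⁻¹ * b'⁻¹ := by rw [hw' a'⁻¹]
        _ = _ := by group
  have hcpt : ∀ a b : VecGrp.pt k k ⟶ E, lift (a ≫ q) (b ≫ q) ≫ c = a * b * a⁻¹ * b⁻¹ := fun a b => by
    rw [show lift (a ≫ q) (b ≫ q) = lift a b ≫ p by simp [p, comp_lift], Category.assoc, hc]
    simp [MonObj.comp_mul, GrpObj.comp_inv]
  have hpt : ∀ s : VecGrp.pt k k ⟶ S, ∃ a, a ≫ q = s := fun s => by
    obtain ⟨l, hl⟩ := NRGIT21.exists_lift_point (Iso.refl _) q.left (Over.w q) s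
    exact ⟨l, Over.OverMorphism.ext hl⟩
  have hcen : ∀ a b : VecGrp.pt k k ⟶ E, ∀ e, (a * b * a⁻¹ * b⁻¹) * e = e * (a * b * a⁻¹ * b⁻¹) := fun a b =>
    hcentral _ _ (by rw [MonObj.mul_comp, MonObj.mul_comp, MonObj.mul_comp, GrpObj.inv_comp, GrpObj.inv_comp,
      hScomm (a ≫ q) (b ≫ q), mul_inv_cancel_right, mul_inv_cancel])
  have h1 : c = 1 := by
    refine eq_one_of_bimultiplicative hS c (fun s s' t => ?_) fun s t t' => ?_
    · obtain ⟨a, rfl⟩ := hpt s
      obtain ⟨a', rfl⟩ := hpt s'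
      obtain ⟨b, rfl⟩ := hpt t
      rw [← MonObj.mul_comp, hcpt, hcpt, hcpt]
      calc a * a' * b * (a * a')⁻¹ * b⁻¹ = a * ((a' * b * a'⁻¹ * b⁻¹) * (b * a⁻¹ * b⁻¹)) := by group
        _ = a * ((b * a⁻¹ * b⁻¹) * (a' * b * a'⁻¹ * b⁻¹)) := by rw [hcen a' b]
        _ = _ := by group
    · obtain ⟨a, rfl⟩ := hpt s
      obtain ⟨b, rfl⟩ := hpt t
      obtain ⟨b', rfl⟩ := hpt t'
      rw [← MonObj.mul_comp, hcpt, hcpt, hcpt]
      calc a * (b * b') * a⁻¹ * (b * b')⁻¹ = (a * b * a⁻¹ * b⁻¹) * (b * ((a * b' * a⁻¹ * b'⁻¹) * b⁻¹)) := by group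
        _ = (a * b * a⁻¹ * b⁻¹) * (b * (b⁻¹ * (a * b' * a⁻¹ * b'⁻¹))) := by rw [hcen a b']
        _ = _ := by group
  have h2 := congrArg (lift g h ≫ ·) hc
  simp only [h1, MonObj.comp_one, MonObj.comp_mul, GrpObj.comp_inv, lift_fst, lift_snd] at h2
  exact (commutatorElement_eq_one_iff_mul_comm.1 (show g * h * g⁻¹ * h⁻¹ = 1 from h2.symm))

end Groth.Agent.TorPts21
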