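import Groth.Agent.Lib.TorPts21.CentralizerRadical

/-!
# Subgroups normalised by a torus meet its centraliser in smooth connected groups
-/

set_option autoImplicit false
set_option linter.style.haveILetI false
set_option backward.isDefEq.respectTransparency.types false
universe u

open CategoryTheory Limits MonoidalCategory CartesianMonoidalCategory MonObj AlgebraicGeometry

noncomputable section

namespace Groth.Agent.TorPts21

variable {k : Type u} [Field k] [IsAlgClosed k] {G : Over (Spec (CommRingCat.of k))} [GrpObj G] [IsAffine G.left]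
  [Smooth G.hom] [ConnectedSpace G.left]

set_option maxHeartbeats 1600000 in
/-- A smooth connected subgroup normalised by a torus meets the centraliser of the torus in a smooth connected scheme. -/
theorem smooth_connected_inter_centralizer {S C U V : Over (Spec (CommRingCat.of k))} [GrpObj S] [GrpObj C]
    [GrpObj U] {iS : S ⟶ G} [IsMonHom iS] [Mono iS] (hS : Red.IsTorus S) {c : C ⟶ G}
    (hc : Red.IsCentralizerOf iS c) {u : U ⟶ G} [IsMonHom u] [IsClosedImmersion u.left] [Smooth U.hom]
    [ConnectedSpace U.left]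
    (hun : ∀ (X : Over (Spec (CommRingCat.of k))) (s : X ⟶ S) (h : X ⟶ U), ∃ h' : X ⟶ U,
      (s ≫ iS) * (h ≫ u) * (s ≫ iS)⁻¹ = h' ≫ u) {v : V ⟶ C} {w : V ⟶ U}
    (hV : IsPullback w v u c) : Smooth V.hom ∧ ConnectedSpace V.left := by
  have huc : IsClosedImmersion u.left := inferInstance
  obtain ⟨hcm, hci, hcs, hca⟩ := centralizer_props hS hc
  haveI := hcm
  haveI := hci
  haveI := hcs
  haveI := hca
  haveI : IsAffine U.left := isAffine_of_isAffineHom u.left
  haveI : Mono u := Over.mono_of_mono_left u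
  haveI : Mono c := Over.mono_of_mono_left c
  haveI : IsClosedImmersion v.left := MorphismProperty.of_isPullback (hV.map (Over.forget _)) huc
  haveI : IsClosedImmersion w.left := MorphismProperty.of_isPullback (hV.flip.map (Over.forget _)) hci
  haveI : IsAffine V.left := isAffine_of_isAffineHom v.left
  haveI : LocallyOfFiniteType V.hom := by rw [← Over.w v]; infer_instance
  haveI : IsLocallyNoetherian (Spec (CommRingCat.of k)) := inferInstance
  haveI : LocallyOfFinitePresentation V.hom := inferInstance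
  haveI : Mono v := hV.mono_snd_of_mono
  haveI : Mono w := hV.mono_fst_of_mono
  obtain ⟨hSa, hSs, hSc, -⟩ := props_of_isTorus hS
  haveI := hSa
  haveI := hSs
  haveI := hSc
  obtain ⟨d, ⟨Ch⟩⟩ := exists_chars hS
  -- the centraliser in the semidirect product
  obtain ⟨W, hW, eW, m, hmm, hmmono, hm⟩ := exists_semidirect u iS fun T g h => by
    obtain ⟨h', hh'⟩ := hun T g h
    exact ⟨h', hh'.symm⟩
  haveI := hmm
  haveI := hmmono
  haveI : Smooth (U ⊗ S).hom := inferInstanceAs (Smooth (pullback.fst U.hom S.hom ≫ U.hom))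
  haveI : IsAffine (U ⊗ S).left := inferInstanceAs (IsAffine (pullback U.hom S.hom))
  haveI : ConnectedSpace (U ⊗ S).left := by
    haveI := AbRigid.irreducibleSpace_of_isAlgClosed U
    haveI := AbRigid.geometricallyIrreducible_of_connected S
    haveI : IrreducibleSpace ↥(Limits.pullback U.hom S.hom) := inferInstance
    exact inferInstanceAs (ConnectedSpace ↥(Limits.pullback U.hom S.hom))
  haveI : IsIso eW.hom.left := inferInstanceAs (IsIso ((Over.forget _).map eW.hom))
  haveI : Smooth W.hom := by rw [← Over.w eW.hom]; infer_instance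
  haveI : IsAffine W.left := IsAffine.of_isIso eW.hom.left
  haveI : ConnectedSpace W.left := eW.inv.left.surjective.connectedSpace eW.inv.left.continuous
  let τ : S ⟶ W := lift 1 (𝟙 S) ≫ eW.inv
  have hτ : ∀ {X : Over (Spec (CommRingCat.of k))} (h : X ⟶ S), h ≫ τ ≫ m = lift (h ≫ iS) h := fun h => by
    simp only [τ, Category.assoc, ← Category.assoc h (lift (1 : S ⟶ U) (𝟙 S)), comp_lift, MonObj.comp_one, Category.comp_id,
      hm, MonObj.one_comp, Category.id_comp, _root_.one_mul]
  have hlift : ∀ {T : Over (Spec (CommRingCat.of k))} (a a' : T ⟶ G) (b b' : T ⟶ S),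
      lift a b * lift a' b' = lift (a * a') (b * b') := fun a a' b b' => by
    refine CartesianMonoidalCategory.hom_ext _ _ ?_ ?_ <;> simp [MonObj.mul_comp]
  haveI : IsMonHom τ := TorsorSch25.isMonHom_of_points _ fun X a b => (cancel_mono m).1 (by
    rw [Category.assoc (a * b) τ m, hτ, MonObj.mul_comp, MonObj.mul_comp, Category.assoc a τ m, Category.assoc b τ m, hτ, hτ,
      hlift])
  haveI : Mono τ := ⟨fun a b h => by simpa [τ] using congrArg (· ≫ eW.hom ≫ snd U S) h⟩
  obtain ⟨CW, _, cw, hCW, -, -⟩ := MTRigid29.exists_centralizer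
    (MTRigid29.isMT_of_ft (isMultTypeFT_of_isTorus hS)) inferInstance inferInstance τ
  obtain ⟨hcwm, hcwi, hcws, hcwa⟩ := centralizer_props hS hCW
  haveI := hcws
  haveI hcwn : ConnectedSpace CW.left := connectedSpace_centralizer_closed hS hCW
  -- the projection to the intersection
  have hcomm : ∀ {X : Over (Spec (CommRingCat.of k))} (p : X ⟶ U) (q h : X ⟶ S),
      ((lift p q ≫ eW.inv ≫ m) * (h ≫ τ ≫ m) = (h ≫ τ ≫ m) * (lift p q ≫ eW.inv ≫ m)) ↔ (p ≫ u) * (h ≫ iS) = (h ≫ iS) * (p ≫ u) := by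
    intro X p q h
    rw [hm, hτ, hlift, hlift]
    have hqh : q * h = h * q := (commute_of_chars Ch q h).eq
    have hqh' : (q ≫ iS) * (h ≫ iS) = (h ≫ iS) * (q ≫ iS) := by rw [← MonObj.mul_comp, ← MonObj.mul_comp, hqh]
    constructor
    · intro e
      have e1 : (p ≫ u) * (q ≫ iS) * (h ≫ iS) = (h ≫ iS) * ((p ≫ u) * (q ≫ iS)) := by
        simpa using congrArg (· ≫ fst G S) e
      rw [_root_.mul_assoc, hqh', ← _root_.mul_assoc, ← _root_.mul_assoc] at e1
      exact mul_right_cancel e1
    · intro e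
      rw [hqh, _root_.mul_assoc, hqh', ← _root_.mul_assoc, e, _root_.mul_assoc]
  obtain ⟨pU, hpU⟩ : ∃ pU : CW ⟶ U, pU = cw ≫ eW.hom ≫ fst U S := ⟨_, rfl⟩
  obtain ⟨pC, hpC⟩ := (hc.2.2 CW (pU ≫ u)).2 fun X x h => by
    have h1 := (hCW.2.2 CW cw).1 ⟨𝟙 CW, Category.id_comp cw⟩ X x h
    have h2 := congrArg (· ≫ m) h1
    simp only [MonObj.mul_comp, Category.assoc h τ m] at h2
    have e1 : (x ≫ cw) ≫ m = lift (x ≫ pU) (x ≫ cw ≫ eW.hom ≫ snd U S) ≫ eW.inv ≫ m := by
      have : (x ≫ cw) ≫ eW.hom = lift (x ≫ pU) (x ≫ cw ≫ eW.hom ≫ snd U S) :=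
        CartesianMonoidalCategory.hom_ext _ _ (by simp [hpU]) (by simp)
      rw [← this, Category.assoc (x ≫ cw), Iso.hom_inv_id_assoc]
    rw [e1] at h2
    simpa only [Category.assoc] using (hcomm _ _ h).1 h2
  obtain ⟨pV, hpV, -⟩ := hV.exists_lift pU pC hpC.symm
  obtain ⟨sV, hsV⟩ := (hCW.2.2 V (lift w 1 ≫ eW.inv)).2 fun X x h => (cancel_mono m).1 (by
    rw [MonObj.mul_comp, MonObj.mul_comp, Category.assoc h τ m, ← Category.assoc x (lift w 1) eW.inv,
      Category.assoc (x ≫ lift w 1) eW.inv m, comp_lift]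
    refine (hcomm _ _ h).2 ?_
    rw [Category.assoc, hV.w, ← Category.assoc]
    exact centralizer_comm hc (x ≫ v) h)
  have hret : sV ≫ pV = 𝟙 V := (cancel_mono w).1 (by
    rw [Category.assoc, hpV, hpU, reassoc_of% hsV, Iso.inv_hom_id_assoc, lift_fst, Category.id_comp])
  haveI : Surjective pV.left := ⟨fun z => ⟨sV.left z, by
    rw [← Scheme.Hom.comp_apply, ← Over.comp_left, hret]; rfl⟩⟩
  haveI : ConnectedSpace V.left := pV.left.surjective.connectedSpace pV.left.continuous
  haveI : IsClosedImmersion (v ≫ c).left := by rw [Over.comp_left]; infer_instance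
  haveI : LocallyOfFinitePresentation V.hom := inferInstance
  haveI : Smooth V.hom := by
    refine MTRigid29.smooth_of_lifts (G := G) inferInstance (v ≫ c) fun D _ J hJ b g₀ ⟨z, hz⟩ => ?_
    obtain ⟨y, hy1, hy2⟩ := MTRigid29.exists_lift_of_surjective (SmoothLift15.isFormallySmoothHom_of_smooth CW.hom)
      (Ideal.Quotient.mk J) Ideal.Quotient.mk_surjective (by rw [Ideal.mk_ker]; exact hJ) (z ≫ sV).left b
      (Over.w (z ≫ sV)).symm
    let y' : Over.mk b ⟶ CW := Over.homMk y hy2
    refine ⟨(y' ≫ pV) ≫ v ≫ c, ?_, y' ≫ pV, rfl⟩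
    show _ ≫ (y ≫ pV.left) ≫ (v ≫ c).left = _
    rw [← Category.assoc, ← Category.assoc, hy1, ← Over.comp_left, ← Over.comp_left, Category.assoc z, hret,
      Category.comp_id, hz]
  exact ⟨inferInstance, inferInstance⟩

end Groth.Agent.TorPts21
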