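import Groth.Agent.Lib.OrbitDim19.Formula
import Groth.Agent.Lib.OrbitDim19.Basic
import Groth.Agent.Lib.FibDim14.Semicont

/-!
# The dimension of orbits is lower semicontinuous
-/

set_option autoImplicit false
set_option linter.style.haveILetI false
set_option backward.isDefEq.respectTransparency.types false
universe u

open CategoryTheory CategoryTheory.Limits MonoidalCategory CartesianMonoidalCategory MonObj AlgebraicGeometry Topology
open TopologicalSpace Groth.Agent.OrbitTop19

noncomputable section

namespace Groth.Agent.TorPts21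

variable {k : Type u} [Field k] [IsAlgClosed k] {G X : Over (Spec (CommRingCat.of k))} [GrpObj G]
  [IsAffine G.left] [Smooth G.hom] [IsSeparated X.hom] [LocallyOfFiniteType X.hom] [QuasiCompact X.hom]
  (a : AlgGrp.Action G X)

omit [IsAffine G.left] [Smooth G.hom] [IsSeparated X.hom] [QuasiCompact X.hom] [GrpObj G] in
/-- Two rational points with the same image coincide. -/
theorem point_ext {p q : 𝟙_ (Over (Spec (CommRingCat.of k))) ⟶ X}
    (h : p.left (IsLocalRing.closedPoint k) = q.left (IsLocalRing.closedPoint k)) : p = q :=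
  Over.OverMorphism.ext (ext_of_apply_closedPoint_eq (K := k) X.hom (Over.w p) (Over.w q) h)

set_option maxHeartbeats 800000 in
/-- The stabiliser, as a set of the group, has the same local dimension at the identity as everywhere. -/
theorem localDim_stab (x : 𝟙_ (Over (Spec (CommRingCat.of k))) ⟶ X)
    (he : (a.orbitMap x).left ((η[G]).left (IsLocalRing.closedPoint k)) = x.left (IsLocalRing.closedPoint k)) :
    FlatMor.localDim ((a.orbitMap x).left ⁻¹' {x.left (IsLocalRing.closedPoint k)} : Set G.left)
        ⟨(η[G]).left (IsLocalRing.closedPoint k), he⟩ =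
      topologicalKrullDim ((a.orbitMap x).left ⁻¹' {x.left (IsLocalRing.closedPoint k)} : Set G.left) := by
  set F : Set G.left := (a.orbitMap x).left ⁻¹' {x.left (IsLocalRing.closedPoint k)} with hF
  haveI : JacobsonSpace G.left := LocallyOfFiniteType.jacobsonSpace (Y := Spec _) G.hom
  refine le_antisymm (TopDimLib.localDim_le _) ?_
  obtain ⟨W, hW⟩ := TopDimLib.exists_localDim_eq (X := F) ⟨(η[G]).left (IsLocalRing.closedPoint k), he⟩
  rw [← hW]
  -- translations by points of the stabiliser
  let Γ := {g : 𝟙_ (Over (Spec (CommRingCat.of k))) ⟶ G // g ≫ a.orbitMap x = x}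
  have hfix : ∀ g : Γ, tr a g.1 |> fun t => x ≫ t = x := fun g => by
    show x ≫ tr a g.1 = x
    rw [comp_tr, toUnit_unique (toUnit _) (𝟙 (𝟙_ (Over (Spec (CommRingCat.of k))))), Category.id_comp]
    have h := g.2
    change g.1 ≫ lift (𝟙 G) (toUnit G ≫ x) ≫ a.act = x at h
    rwa [comp_lift_assoc, Category.comp_id, ← Category.assoc,
      toUnit_unique (g.1 ≫ toUnit G) (𝟙 _), Category.id_comp] at h
  have hmem : ∀ (g : Γ) (z : G.left), (tr (mulAction G) g.1).left z ∈ F ↔ z ∈ F := fun g z => by
    have h1 := apply_comp_left (tr (mulAction G) g.1) (a.orbitMap x) (a.orbitMap x ≫ tr a g.1)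
      (tr_equivariant (orbitMap_equivariant a x) g.1) z
    have h2 : (tr a g.1).left (x.left (IsLocalRing.closedPoint k)) = x.left (IsLocalRing.closedPoint k) :=
      apply_comp_left x (tr a g.1) x (hfix g) _
    show (a.orbitMap x).left ((tr (mulAction G) g.1).left z) = _ ↔ (a.orbitMap x).left z = _
    rw [h1, Over.comp_left, Scheme.Hom.comp_apply]
    refine ⟨fun h => ?_, fun h => by rw [h, h2]⟩
    exact (Scheme.homeoOfIso ((Over.forget _).mapIso (trIso a g.1))).injective (h.trans h2.symm)
  let θ : Γ → F ≃ₜ F := fun g =>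
    (Scheme.homeoOfIso ((Over.forget _).mapIso (trIso (mulAction G) g.1))).subtype fun z => (hmem g z).symm
  let U : Γ → Opens F := fun g => ⟨θ g '' (W.1 : Set F), (θ g).isOpenMap _ W.1.isOpen⟩
  have hcov : ⨆ g, U g = ⊤ := by
    refine top_unique fun p _ => ?_
    have hFc : IsClosed F := by
      refine IsClosed.preimage (a.orbitMap x).left.continuous ?_
      haveI : IsClosedImmersion x.left := by
        haveI : IsClosedImmersion (x.left ≫ X.hom) := by rw [Over.w x]; exact (inferInstance : IsClosedImmersion (𝟙 (Spec (CommRingCat.of k))))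
        exact IsClosedImmersion.of_comp x.left X.hom
      have h := x.left.isClosedEmbedding.isClosedMap Set.univ isClosed_univ
      rwa [Set.image_univ, show Set.range x.left = {x.left (IsLocalRing.closedPoint k)} from
        Set.eq_singleton_iff_unique_mem.2 ⟨⟨_, rfl⟩, by
          rintro _ ⟨w, rfl⟩; exact congrArg x.left (Subsingleton.elim (α := PrimeSpectrum k) w _)⟩] at h
    obtain ⟨q, hq, hqc⟩ := nonempty_inter_closedPoints (X := G.left) (Z := closure {p.1})
      ⟨p.1, subset_closure rfl⟩ isClosed_closure.isLocallyClosed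
    have hqF : q ∈ F := closure_minimal (Set.singleton_subset_iff.2 p.2) hFc hq
    obtain ⟨g, hg⟩ := exists_point G q hqc
    have hgx : g ≫ a.orbitMap x = x := by
      refine point_ext ?_
      rw [Over.comp_left, Scheme.Hom.comp_apply, hg]
      exact hqF
    refine Opens.mem_iSup.2 ⟨⟨g, hgx⟩, ?_⟩
    have hq' : (⟨q, hqF⟩ : F) ∈ U ⟨g, hgx⟩ := by
      refine ⟨⟨_, he⟩, W.2, Subtype.ext ?_⟩
      show (tr (mulAction G) g).left ((η[G]).left (IsLocalRing.closedPoint k)) = q
      rw [apply_comp_left η[G] (tr (mulAction G) g) g, hg]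
      rw [comp_tr, toUnit_unique (toUnit _) (𝟙 (𝟙_ (Over (Spec (CommRingCat.of k))))), Category.id_comp]
      show lift g η[G] ≫ μ[G] = g
      rw [← Hom.mul_def, show (η[G] : 𝟙_ (Over (Spec (CommRingCat.of k))) ⟶ G) = 1 by
        rw [Hom.one_def, toUnit_unique (toUnit _) (𝟙 (𝟙_ (Over (Spec (CommRingCat.of k))))), Category.id_comp],
        _root_.mul_one]
    have hsp : p ⤳ (⟨q, hqF⟩ : F) := (subtype_specializes_iff _ _).2 (specializes_iff_mem_closure.2 hq)
    exact hsp.mem_open (U ⟨g, hgx⟩).isOpen hq'
  rw [TopDimLib.dim_eq_iSup_open U hcov]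
  exact iSup_le fun g => le_of_eq
    (IsHomeomorph.topologicalKrullDim_eq _ ((θ g).image (W.1 : Set F)).isHomeomorph).symm

omit [IsAffine G.left] [IsSeparated X.hom] in
/-- An orbit has the dimension of its closure. -/
theorem dim_closure_orbit [QuasiCompact G.hom] (x : 𝟙_ (Over (Spec (CommRingCat.of k))) ⟶ X) :
    topologicalKrullDim ↥(closure (Set.range (a.orbitMap x).left)) =
      topologicalKrullDim ↥(Set.range (a.orbitMap x).left) := by
  set O := Set.range (a.orbitMap x).left with hO
  refine le_antisymm ?_ ((Topology.IsEmbedding.inclusion subset_closure).toIsInducing.topologicalKrullDim_le)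
  have hOlc : IsLocallyClosed O := isLocallyClosed_range_orbitMap a x
  rw [OrbitDim19.dim_eq_iSup X.hom isClosed_closure.isLocallyClosed]
  refine iSup_le fun y => ?_
  by_cases hy : y.1 ∈ O
  · rw [OrbitDim19.dim_eq_iSup X.hom hOlc]
    exact le_iSup_of_le ⟨y.1, hy⟩ le_rfl
  · have hlt := OrbitDim19.dim_lt a (x := x) (OrbitDim19.isClosed_boundary a x).isLocallyClosed subset_rfl
    refine le_of_lt (lt_of_le_of_lt ?_ hlt)
    rw [OrbitDim19.dim_eq_iSup X.hom (OrbitDim19.isClosed_boundary a x).isLocallyClosed]
    exact le_iSup_of_le ⟨y.1, y.2, hy⟩ le_rfl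

set_option maxHeartbeats 800000 in
/-- The points with a stabiliser of dimension at least `n + 1` form a closed set. -/
theorem exists_closed_stab_gt (n : ℕ) : ∃ Z : Set X.left, IsClosed Z ∧
    ∀ x : 𝟙_ (Over (Spec (CommRingCat.of k))) ⟶ X, x.left (IsLocalRing.closedPoint k) ∈ Z ↔
      ¬ topologicalKrullDim ↥(pullback (a.orbitMap x).left x.left) ≤ (n : WithBot ℕ∞) := by
  haveI : LocallyOfFiniteType G.hom := inferInstance
  haveI : LocallyOfFiniteType (G ⊗ X).hom :=
    inferInstanceAs (LocallyOfFiniteType (pullback.fst G.hom X.hom ≫ G.hom))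
  haveI : JacobsonSpace G.left := LocallyOfFiniteType.jacobsonSpace (Y := Spec _) G.hom
  haveI : JacobsonSpace (G ⊗ X).left := LocallyOfFiniteType.jacobsonSpace (Y := Spec _) (G ⊗ X).hom
  let m : G ⊗ X ⟶ X ⊗ X := lift a.act (snd G X)
  haveI : LocallyOfFiniteType (m.left ≫ (X ⊗ X).hom) := by rw [Over.w m]; infer_instance
  haveI : LocallyOfFiniteType m.left := locallyOfFiniteType_of_comp m.left (X ⊗ X).hom
  let σ : X ⟶ G ⊗ X := lift (toUnit X ≫ η[G]) (𝟙 X)
  refine ⟨σ.left ⁻¹' {z | ¬ FlatMor.fibreDimAt m.left z ≤ (n : WithBot ℕ∞)},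
    IsClosed.preimage σ.left.continuous ?_, fun x => not_congr ?_⟩
  · exact (FibDim14.isOpen_fibreDimAt_le m.left n).isClosed_compl
  let i : G ⟶ G ⊗ X := lift (𝟙 G) (toUnit G ≫ x)
  haveI : IsClosedImmersion i.left := by
    haveI : IsClosedImmersion (i.left ≫ (fst G X).left) := by
      rw [← Over.comp_left, lift_fst]; exact (inferInstance : IsClosedImmersion (𝟙 G.left))
    haveI : IsSeparated (fst G X).left := inferInstanceAs (IsSeparated (pullback.fst G.hom X.hom))
    exact IsClosedImmersion.of_comp i.left (fst G X).left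
  set e := (η[G]).left (IsLocalRing.closedPoint k)
  have he' : η[G] ≫ a.orbitMap x = x := by
    rw [AlgGrp.Action.orbitMap, comp_lift_assoc, Category.comp_id, ← Category.assoc,
      toUnit_unique (η[G] ≫ toUnit G) (𝟙 _), Category.id_comp,
      show (η[G] : 𝟙_ (Over (Spec (CommRingCat.of k))) ⟶ G) = 1 by
        rw [Hom.one_def, toUnit_unique (toUnit _) (𝟙 (𝟙_ (Over (Spec (CommRingCat.of k))))), Category.id_comp]]
    exact AlgGrpBasic19.act_one a x
  have he : (a.orbitMap x).left e = x.left (IsLocalRing.closedPoint k) := apply_comp_left _ _ _ he' _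
  set s := σ.left (x.left (IsLocalRing.closedPoint k))
  have hσ : x ≫ σ = η[G] ≫ i := by
    simp only [σ, i, comp_lift, Category.comp_id, ← Category.assoc]
    rw [toUnit_unique (x ≫ toUnit X) (𝟙 _), toUnit_unique (η[G] ≫ toUnit G) (𝟙 _), Category.id_comp, Category.id_comp]
  have hie : i.left e = s := by
    rw [← Scheme.Hom.comp_apply, ← Over.comp_left, ← hσ]; rfl
  have him : i ≫ m = lift (a.orbitMap x) (toUnit G ≫ x) := by
    simp only [i, m, comp_lift, lift_snd]
    rfl
  have hr : Set.range (fun z : (a.orbitMap x).left ⁻¹' {x.left (IsLocalRing.closedPoint k)} => i.left z.1) =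
      m.left ⁻¹' {m.left s} := by
    haveI : IsClosedImmersion x.left := by
      haveI : IsClosedImmersion (x.left ≫ X.hom) := by rw [Over.w x]; exact (inferInstance : IsClosedImmersion (𝟙 (Spec (CommRingCat.of k))))
      exact IsClosedImmersion.of_comp x.left X.hom
    have hms : (lift x x).left (IsLocalRing.closedPoint k) = m.left s := by
      rw [← hie]
      refine (apply_comp_left (η[G] ≫ i) m (lift x x) ?_ _).symm
      rw [Category.assoc, him, comp_lift, he', ← Category.assoc, toUnit_unique (η[G] ≫ toUnit G) (𝟙 _),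
        Category.id_comp]
    have hc2 : IsClosed ({m.left s} : Set (X ⊗ X).left) := by
      rw [← hms]
      have := isClosedImmersion_of_comp_eq_id (X ⊗ X).hom (lift x x).left (Over.w _)
      have h := (lift x x).left.isClosedEmbedding.isClosed_range
      rwa [show Set.range (lift x x).left = {(lift x x).left (IsLocalRing.closedPoint k)} from
        Set.eq_singleton_iff_unique_mem.2 ⟨⟨_, rfl⟩, by
          rintro _ ⟨w, rfl⟩; exact congrArg (lift x x).left (Subsingleton.elim (α := PrimeSpectrum k) w _)⟩] at h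
    have hFc : IsClosed ((a.orbitMap x).left ⁻¹' {x.left (IsLocalRing.closedPoint k)} : Set G.left) := by
      refine IsClosed.preimage (a.orbitMap x).left.continuous ?_
      have h := x.left.isClosedEmbedding.isClosed_range
      rwa [show Set.range x.left = {x.left (IsLocalRing.closedPoint k)} from
        Set.eq_singleton_iff_unique_mem.2 ⟨⟨_, rfl⟩, by
          rintro _ ⟨w, rfl⟩; exact congrArg x.left (Subsingleton.elim (α := PrimeSpectrum k) w _)⟩] at h
    have hA : IsClosed (m.left ⁻¹' {m.left s}) := hc2.preimage m.left.continuous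
    rw [← hms] at hA ⊢
    refine Set.Subset.antisymm ?_ ?_
    · rintro _ ⟨⟨z, hz⟩, rfl⟩
      show m.left (i.left z) = _
      have hclosedcase : ∀ z' : G.left, IsClosed ({z'} : Set G.left) → (a.orbitMap x).left z' = x.left (IsLocalRing.closedPoint k) →
          i.left z' ∈ m.left ⁻¹' {(lift x x).left (IsLocalRing.closedPoint k)} := by
        intro z' hz'c hz'
        obtain ⟨g, rfl⟩ := exists_point G z' hz'c
        have hg : g ≫ a.orbitMap x = x := point_ext (by rw [Over.comp_left, Scheme.Hom.comp_apply]; exact hz')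
        refine apply_comp_left (g ≫ i) m (lift x x) ?_ _
        rw [Category.assoc, him, comp_lift, hg, ← Category.assoc, toUnit_unique (g ≫ toUnit G) (𝟙 _),
          Category.id_comp]
      have hsub : (a.orbitMap x).left ⁻¹' {x.left (IsLocalRing.closedPoint k)} ⊆
          i.left ⁻¹' (m.left ⁻¹' {(lift x x).left (IsLocalRing.closedPoint k)}) := by
        rw [← JacobsonSpace.closure_inter_closedPoints hFc]
        exact closure_minimal (fun z' hz' => hclosedcase z' hz'.2 hz'.1) (hA.preimage i.left.continuous)
      exact hsub hz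
    · have him' : IsClosed (i.left '' ((a.orbitMap x).left ⁻¹' {x.left (IsLocalRing.closedPoint k)})) :=
        i.left.isClosedEmbedding.isClosedMap _ hFc
      rw [← JacobsonSpace.closure_inter_closedPoints hA]
      refine (closure_minimal ?_ him').trans (by rintro _ ⟨z, hz, rfl⟩; exact ⟨⟨z, hz⟩, rfl⟩)
      rintro w ⟨hw, hwc⟩
      obtain ⟨p, rfl⟩ := exists_point (G ⊗ X) w hwc
      have hp : p ≫ m = lift x x := by
        haveI : LocallyOfFiniteType (X ⊗ X).hom :=
          inferInstanceAs (LocallyOfFiniteType (pullback.fst X.hom X.hom ≫ X.hom))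
        refine point_ext (X := X ⊗ X) ?_
        rw [Over.comp_left, Scheme.Hom.comp_apply]; exact hw
      have hp1 : p ≫ a.act = x := by simpa [m] using congrArg (· ≫ fst X X) hp
      have hp2 : p ≫ snd G X = x := by simpa [m] using congrArg (· ≫ snd X X) hp
      have hpi : (p ≫ fst G X) ≫ i = p := by
        refine hom_ext _ _ ?_ ?_
        · simp [i]
        · simp only [i, Category.assoc, lift_snd, hp2]
          rw [← Category.assoc, ← Category.assoc, toUnit_unique ((p ≫ fst G X) ≫ toUnit G) (𝟙 _), Category.id_comp]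
      refine ⟨(p ≫ fst G X).left (IsLocalRing.closedPoint k), ?_, apply_comp_left _ _ _ hpi _⟩
      refine apply_comp_left _ _ _ ?_ _
      rw [AlgGrp.Action.orbitMap, comp_lift_assoc, Category.comp_id, ← Category.assoc,
        toUnit_unique ((p ≫ fst G X) ≫ toUnit G) (𝟙 _), Category.id_comp]
      conv_lhs => rw [← hp2, ← comp_lift, lift_fst_snd, Category.comp_id]
      exact hp1
  have hd : FlatMor.fibreDimAt m.left s = topologicalKrullDim ↥(pullback (a.orbitMap x).left x.left) := by
    rw [FibDim14.fibreDimAt_eq_localDim_preimage,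
      ← FibDim14.localDim_of_range (e := fun z : (a.orbitMap x).left ⁻¹' {x.left (IsLocalRing.closedPoint k)} => i.left z.1)
        (i.left.isEmbedding.comp IsEmbedding.subtypeVal) hr ⟨e, he⟩ hie rfl, localDim_stab a x he]
    have hpr : Set.range (pullback.fst (a.orbitMap x).left x.left) =
        (a.orbitMap x).left ⁻¹' {x.left (IsLocalRing.closedPoint k)} := by
      rw [Scheme.Pullback.range_fst]
      congr 1
      exact Set.eq_singleton_iff_unique_mem.2 ⟨⟨_, rfl⟩, by
          rintro _ ⟨w, rfl⟩; exact congrArg x.left (Subsingleton.elim (α := PrimeSpectrum k) w _)⟩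
    haveI : IsClosedImmersion x.left := by
      haveI : IsClosedImmersion (x.left ≫ X.hom) := by rw [Over.w x]; exact (inferInstance : IsClosedImmersion (𝟙 (Spec (CommRingCat.of k))))
      exact IsClosedImmersion.of_comp x.left X.hom
    rw [← hpr]
    exact (IsHomeomorph.topologicalKrullDim_eq _
      (pullback.fst (a.orbitMap x).left x.left).isEmbedding.toHomeomorph.isHomeomorph).symm
  show FlatMor.fibreDimAt m.left s ≤ _ ↔ _
  rw [hd]

end Groth.Agent.TorPts21
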