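import Groth.Agent.Lib.TorPts21.WeylNorm
import Groth.Agent.Lib.TorPts21.Luna
import Groth.Agent.Lib.TorPts21.ReductiveCartan
import Groth.Agent.Lib.BorelFix21.Component
import Groth.Agent.Lib.InvRing21.Semi

/-!
# The radical and the characters
-/

set_option autoImplicit false
set_option linter.style.haveILetI false
set_option backward.isDefEq.respectTransparency.types false
universe u

open CategoryTheory Limits MonoidalCategory CartesianMonoidalCategory MonObj AlgebraicGeometry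
open scoped TensorProduct

noncomputable section

namespace Groth.Agent.TorPts21

open MatGrp21 InvRing21

attribute [local instance] InvRing21.gamAlg BorelFix21.ptsTop

variable {k : Type u} [Field k] [IsAlgClosed k]

omit [IsAlgClosed k] in
/-- Homomorphisms from connected groups factor through open closed subgroups. -/
theorem exists_lift_open {N N₀ W : Over (Spec (CommRingCat.of k))} [GrpObj N] [GrpObj N₀] [GrpObj W]
    [ConnectedSpace W.left] (j₀ : N₀ ⟶ N) [IsMonHom j₀] [IsOpenImmersion j₀.left] [IsClosedImmersion j₀.left]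
    (w : W ⟶ N) [IsMonHom w] : ∃ f : W ⟶ N₀, f ≫ j₀ = w := by
  have hclo : IsClopen (Set.range j₀.left) :=
    ⟨j₀.left.isClosedEmbedding.isClosed_range, j₀.left.isOpenEmbedding.isOpen_range⟩
  have hone : w.left (InvRing21.img (1 : VecGrp.pt k k ⟶ W)) ∈ Set.range j₀.left := by
    refine ⟨InvRing21.img (1 : VecGrp.pt k k ⟶ N₀), ?_⟩
    show InvRing21.img ((1 : VecGrp.pt k k ⟶ N₀) ≫ j₀) = InvRing21.img ((1 : VecGrp.pt k k ⟶ W) ≫ w)
    rw [MonObj.one_comp, MonObj.one_comp]
  have hr := (isPreconnected_range w.left.continuous).subset_isClopen hclo ⟨_, ⟨_, rfl⟩, hone⟩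
  refine ⟨Over.homMk (IsOpenImmersion.lift j₀.left w.left hr) ?_, Over.OverMorphism.ext (IsOpenImmersion.lift_fac _ _ _)⟩
  show _ ≫ N₀.hom = _
  rw [← Over.w j₀, IsOpenImmersion.lift_fac_assoc, Over.w]

variable {G : Over (Spec (CommRingCat.of k))} [GrpObj G] [IsAffine G.left] [Smooth G.hom]

/-- The radical. -/
theorem exists_radical [ConnectedSpace G.left] :
    ∃ (Z : Over (Spec (CommRingCat.of k))) (_ : GrpObj Z) (ζ : Z ⟶ G), IsMonHom ζ ∧ IsClosedImmersion ζ.left ∧
      Smooth Z.hom ∧ ConnectedSpace Z.left ∧ AlgGrp.IsNormalHom ζ ∧ Red.IsSolvableGrp Z ∧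
      ∀ (R : Over (Spec (CommRingCat.of k))) [GrpObj R] (ρ : R ⟶ G) [IsMonHom ρ], IsClosedImmersion ρ.left →
        Smooth R.hom → ConnectedSpace R.left → AlgGrp.IsNormalHom ρ → Red.IsSolvableGrp R →
        ∃ f : R ⟶ Z, f ≫ ζ = ρ := by
  obtain ⟨T, _, iT, hT⟩ := exists_maxTorus G
  haveI := hT.1
  haveI := hT.2.1
  obtain ⟨B, _, iB, t, hB, -⟩ := exists_borel_containing iT hT.2.2.1
  obtain ⟨hBm, hBc, hBs, hBn, hBsol, -⟩ := id hB
  haveI := hBm
  haveI := hBc
  haveI : Mono iB := Over.mono_of_mono_left iB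
  haveI : IsAffine B.left := isAffine_of_isAffineHom iB.left
  obtain ⟨m, r, hr, hrc⟩ := GrassAct21.exists_embedding_GL G
  haveI := hr
  haveI := hrc
  haveI : IsClosedImmersion (iB ≫ r).left := by rw [Over.comp_left]; infer_instance
  let Pc : Subgroup (VecGrp.pt k k ⟶ G) :=
    ⨅ g : VecGrp.pt k k ⟶ G, (mtx (iB ≫ r)).range.comap ((mtx r).comp (MulAut.conj g).toMonoidHom)
  have hPmem : ∀ x, x ∈ Pc ↔ ∀ g : VecGrp.pt k k ⟶ G, mtx r (g * x * g⁻¹) ∈ (mtx (iB ≫ r)).range := fun x => by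
    simp [Pc, Subgroup.mem_iInf]
  have hPcl : IsClosed (Pc : Set (VecGrp.pt k k ⟶ G)) := by
    have he : (Pc : Set (VecGrp.pt k k ⟶ G)) =
        ⋂ g, (fun x => mtxFn r (g * x * g⁻¹)) ⁻¹' ((mtx (iB ≫ r)).range : Set (GL (Fin m) k)) := by
      ext x
      simp only [SetLike.mem_coe, hPmem, mtx_apply, Set.mem_iInter, Set.mem_preimage]
    rw [he]
    refine isClosed_iInter fun g => (isClosed_range_mtx (iB ≫ r)).preimage ?_
    exact (continuous_mtxFn r).comp ((BorelFix21.continuous_mul_right g⁻¹).comp (BorelFix21.continuous_mul_left g))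
  obtain ⟨R, _, ρ, hρm, hρc, hRs, hRn, hRP, hRuniv⟩ := exists_component_of_pts Pc hPcl
  haveI := hρm
  haveI := hρc
  haveI := hRs
  haveI := hRn
  haveI : IsAffine R.left := isAffine_of_isAffineHom ρ.left
  haveI : Mono ρ := Over.mono_of_mono_left ρ
  have hnorm : AlgGrp.IsNormalHom ρ := isNormalHom_of_pts ρ fun g x => by
    obtain ⟨g₀, hg₀⟩ := exists_gpt g
    haveI := isMonHom_conjBy g₀ ρ
    obtain ⟨f, hf⟩ := hRuniv R (AGF.conjBy g₀ ρ) fun y => (hPmem _).2 fun h => by
      have hy := (hPmem _).1 (hRP y) (h * g)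
      rwa [show h * (y ≫ AGF.conjBy g₀ ρ) * h⁻¹ = (h * g) * (y ≫ ρ) * (h * g)⁻¹ by
        rw [comp_conjBy, show toUnit (VecGrp.pt k k) ≫ g₀ = g from hg₀]; group]
    exact ⟨x ≫ f, by rw [Category.assoc, hf, comp_conjBy, show toUnit (VecGrp.pt k k) ≫ g₀ = g from hg₀]⟩
  obtain ⟨ρB, hρB⟩ := exists_lift_of_pts iB ρ fun y => by
    have hy := (hPmem _).1 (hRP y) 1
    rw [_root_.one_mul, inv_one, _root_.mul_one] at hy
    obtain ⟨b, hb⟩ := hy
    refine ⟨b, mtxFn_injective r ?_⟩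
    rwa [← mtx_apply, ← mtx_apply, ← mtx_comp]
  haveI : IsMonHom ρB := BorelFix21.isMonHom_of_comp iB ρB (hρB.symm ▸ hρm)
  haveI : Mono (ρB ≫ iB) := hρB.symm ▸ inferInstance
  haveI : Mono ρB := mono_of_mono ρB iB
  refine ⟨R, inferInstance, ρ, hρm, hρc, hRs, hRn, hnorm, isSolvableGrp_of_mono ρB hBsol,
    fun V _ v _ hvc hVs hVn hvn hVsol => ?_⟩
  haveI := hvc
  haveI := hVs
  haveI := hVn
  haveI : IsAffine V.left := isAffine_of_isAffineHom v.left
  obtain ⟨f, hf⟩ := exists_lift_of_normal_solvable v hVsol hvn iB hB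
  refine hRuniv V v fun y => (hPmem _).2 fun g => ?_
  obtain ⟨y', hy'⟩ := hvn _ g y
  refine ⟨y' ≫ f, ?_⟩
  rw [mtx_comp, Category.assoc, hf, hy']

/-- The radical of the identity component is normal in the whole group. -/
theorem exists_normal_radical {G₀ : Over (Spec (CommRingCat.of k))} [GrpObj G₀] [ConnectedSpace G₀.left] (j : G₀ ⟶ G)
    [IsMonHom j] [IsOpenImmersion j.left] :
    ∃ (Z : Over (Spec (CommRingCat.of k))) (_ : GrpObj Z) (ζ : Z ⟶ G₀), IsMonHom ζ ∧ IsClosedImmersion ζ.left ∧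
      Smooth Z.hom ∧ ConnectedSpace Z.left ∧ Red.IsSolvableGrp Z ∧ AlgGrp.IsNormalHom (ζ ≫ j) ∧
      ∀ (R : Over (Spec (CommRingCat.of k))) [GrpObj R] (ρ : R ⟶ G₀) [IsMonHom ρ], IsClosedImmersion ρ.left →
        Smooth R.hom → ConnectedSpace R.left → AlgGrp.IsNormalHom ρ → Red.IsSolvableGrp R →
        ∃ f : R ⟶ Z, f ≫ ζ = ρ := by
  haveI := isClosedImmersion_of_open_subgroup j
  haveI : Smooth G₀.hom := smooth_of_openImmersion j
  haveI : IsAffine G₀.left := isAffine_of_isAffineHom j.left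
  haveI : Mono j := Over.mono_of_mono_left j
  obtain ⟨Z, _, ζ, hζm, hζc, hZs, hZn, hζn, hZsol, hall⟩ := exists_radical (G := G₀)
  haveI := hζm
  haveI := hζc
  haveI := hZs
  haveI := hZn
  haveI : IsAffine Z.left := isAffine_of_isAffineHom ζ.left
  haveI : IsClosedImmersion (ζ ≫ j).left := by rw [Over.comp_left]; infer_instance
  refine ⟨Z, inferInstance, ζ, hζm, hζc, hZs, hZn, hZsol, isNormalHom_of_pts _ fun g x => ?_, hall⟩
  obtain ⟨g₀, hg₀⟩ := exists_gpt g
  haveI := isMonHom_conjBy g₀ j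
  haveI := isMonHom_conjBy g₀⁻¹ j
  obtain ⟨c, hc⟩ := exists_lift_open j (AGF.conjBy g₀ j)
  obtain ⟨c', hc'⟩ := exists_lift_open j (AGF.conjBy g₀⁻¹ j)
  haveI : IsMonHom c := BorelFix21.isMonHom_of_comp j c (hc.symm ▸ inferInstance)
  haveI : IsClosedImmersion (AGF.conjBy g₀ j).left := isClosedImmersion_conjBy g₀ j
  haveI : IsClosedImmersion (c ≫ j).left := hc.symm ▸ inferInstance
  haveI : IsClosedImmersion c.left := IsClosedImmersion.of_comp c.left j.left
  haveI : IsClosedImmersion (ζ ≫ c).left := by rw [Over.comp_left]; infer_instance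
  have hn : AlgGrp.IsNormalHom (ζ ≫ c) := isNormalHom_of_pts _ fun a z => by
    obtain ⟨z', hz'⟩ := hζn _ (a ≫ c') z
    refine ⟨z', (cancel_mono j).1 ?_⟩
    have hz'' := congrArg (fun w => w ≫ j) hz'
    simp only [MonObj.mul_comp, GrpObj.inv_comp, Category.assoc, hc', comp_conjBy, GrpObj.comp_inv,
      show toUnit (VecGrp.pt k k) ≫ g₀ = g from hg₀, _root_.inv_inv] at hz''
    simp only [MonObj.mul_comp, GrpObj.inv_comp, Category.assoc, hc, comp_conjBy,
      show toUnit (VecGrp.pt k k) ≫ g₀ = g from hg₀]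
    rw [← Category.assoc z' ζ j, Category.assoc, ← hz'']
    group
  obtain ⟨f, hf⟩ := hall Z (ζ ≫ c) inferInstance hZs hZn hn hZsol
  refine ⟨x ≫ f, ?_⟩
  rw [Category.assoc, ← Category.assoc f, hf, Category.assoc, hc, ← Category.assoc, comp_conjBy,
    show toUnit (VecGrp.pt k k) ≫ g₀ = g from hg₀, Category.assoc]

/-- A multiplicative function trivial on the normal connected solvable subgroups is trivial. -/
theorem eq_one_of_radical [ConnectedSpace G.left] (φ : Γ(G.left, ⊤)) (h1 : val (1 : VecGrp.pt k k ⟶ G) φ = 1)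
    (hm : ∀ x y : VecGrp.pt k k ⟶ G, val (x * y) φ = val x φ * val y φ)
    (hR : ∀ (R : Over (Spec (CommRingCat.of k))) [GrpObj R] (ρ : R ⟶ G) [IsMonHom ρ], IsClosedImmersion ρ.left →
      Smooth R.hom → ConnectedSpace R.left → AlgGrp.IsNormalHom ρ → Red.IsSolvableGrp R →
      ∀ x : VecGrp.pt k k ⟶ R, val (x ≫ ρ) φ = 1)
    (x : VecGrp.pt k k ⟶ G) : val x φ = 1 := by
  let Φ : (VecGrp.pt k k ⟶ G) →* kˣ := ({ toFun := fun y => val y φ, map_one' := h1, map_mul' := hm } : (VecGrp.pt k k ⟶ G) →* k).toHomUnits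
  have hΦ : ∀ y, (Φ y : k) = val y φ := fun y => rfl
  obtain ⟨T, _, iT, hT⟩ := exists_maxTorus G
  haveI := hT.1
  obtain ⟨R, _, ρ, S, _, iS, N, hρm, hρc, hRs, hRn, hρn, hRsol, -, -, -, hN, ⟨f, hf⟩, h⟩ :=
    exists_radical_torus_norm hT
  haveI := hρm
  obtain ⟨U, _, u, hU, -⟩ := exists_unipotentRadical_connected G
  obtain ⟨hum, huc, hun, hus, -, hucon, huns, -⟩ := (isUnipotentRadical_iff u).1 hU
  haveI := hum
  haveI := huc
  haveI := hus
  haveI := hucon
  haveI : IsAffine U.left := isAffine_of_isAffineHom u.left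
  have htop := eq_top_of_cartan hU hT Φ.ker (fun τ => by
    obtain ⟨τ', rfl⟩ := exists_pow_eq hT.2.2.1 hN τ
    obtain ⟨σ, τ₁, hσ, hτ₁⟩ := h τ'
    let iTh : (VecGrp.pt k k ⟶ T) →* (VecGrp.pt k k ⟶ G) :=
      MonoidHom.mk' (fun f => f ≫ iT) fun f g => MonObj.mul_comp f g iT
    show Φ.comp iTh (τ' ^ N) = 1
    rw [map_pow, ← hτ₁ _ (Φ.comp iTh) (fun w _ a a' h => by
      show Φ (a' ≫ iT) = Φ (a ≫ iT)
      rw [← h, map_mul, map_mul, map_inv, mul_inv_cancel_comm])]
    refine Units.ext ?_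
    show val (τ₁ ≫ iT) φ = 1
    rw [← hσ, ← hf, ← Category.assoc]
    exact hR R ρ hρc hRs hRn hρn hRsol _) fun w => Units.ext (by
      show val (w ≫ u) φ = 1
      exact hR U u huc hus hucon hun (isSolvableGrp_of_hasNoSubtorus U huns) w)
  have hx : x ∈ Φ.ker := htop ▸ Subgroup.mem_top x
  rw [← hΦ, MonoidHom.mem_ker.1 hx, Units.val_one]

variable {H R : Over (Spec (CommRingCat.of k))} [GrpObj H] [GrpObj R]

set_option maxHeartbeats 1600000 in
/-- From a semi-invariant function of a normal subgroup, a determinant which is semi-invariant for the group. -/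
theorem exists_det_semi [IsAffine H.left] [Smooth H.hom] (i : H ⟶ G) [IsMonHom i] (r : R ⟶ H) [IsMonHom r]
    (hn : AlgGrp.IsNormalHom r) (l : (VecGrp.pt k k ⟶ H) → k) (hl1 : l 1 = 1)
    (hlm : ∀ h h', l (h * h') = l h' * l h) (d : Γ(G.left, ⊤))
    (hd : Semi (r ≫ i) (fun x => (l (x ≫ r))⁻¹) d) (hd1 : val (1 : VecGrp.pt k k ⟶ G) d ≠ 0) :
    ∃ (n : ℕ) (D : Γ(G.left, ⊤)) (δ : (VecGrp.pt k k ⟶ H) → k), 0 < n ∧ Semi i δ D ∧
      val (1 : VecGrp.pt k k ⟶ G) D ≠ 0 ∧ ∀ x : VecGrp.pt k k ⟶ R, δ (x ≫ r) = (l (x ≫ r))⁻¹ ^ n := by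
  classical
  obtain ⟨W₀, hW₀fin, hdW₀, hW₀⟩ := exists_stable_span (regular G) {d}
  haveI := hW₀fin
  let E : Submodule k Γ(G.left, ⊤) :=
    { carrier := {e | Semi (r ≫ i) (fun x => (l (x ≫ r))⁻¹) e}
      add_mem' := fun {a b} ha hb x h => by rw [map_add, map_add, ha, hb, mul_add]
      zero_mem' := fun x h => by simp
      smul_mem' := fun c e he => he.smul c }
  let W : Submodule k Γ(G.left, ⊤) := W₀ ⊓ E
  haveI : Module.Finite k W := Submodule.finiteDimensional_of_le (inf_le_left : W ≤ W₀)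
  have hdW : d ∈ W := ⟨hdW₀ d (Finset.mem_singleton_self d), hd⟩
  -- right translations preserve the space
  have htr : ∀ (h : VecGrp.pt k k ⟶ H), ∀ w ∈ W, appAlg (rTr (h ≫ i)) w ∈ W := by
    intro h w hw
    refine ⟨?_, fun x y => ?_⟩
    · obtain ⟨m, c, u, hu, hcu⟩ := hW₀ w hw.1 k (h ≫ i)
      have he : appAlg (rTr (h ≫ i)) w = ∑ a, c a • u a := ext_val fun y => by
        rw [appAlg_apply, val_rTr, val_mul_eq, hcu, map_sum, map_sum]
        refine Finset.sum_congr rfl fun a _ => ?_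
        rw [map_smul, smul_eq_mul]
        exact Algebra.TensorProduct.lift_tmul _ _ _ (c a) (u a)
      rw [he]
      exact W₀.sum_mem fun a _ => W₀.smul_mem _ (hu a)
    · obtain ⟨y', hy'⟩ := hn _ h⁻¹ y
      rw [_root_.inv_inv] at hy'
      have hl : l (y' ≫ r) = l (y ≫ r) := by
        have h0 : l h * l h⁻¹ = 1 := by rw [← hlm, inv_mul_cancel, hl1]
        rw [← hy', hlm, hlm]
        linear_combination (l (y ≫ r)) * h0
      rw [appAlg_apply, val_rTr, val_rTr,
        show x * (y ≫ r ≫ i) * (h ≫ i) = x * (h ≫ i) * (y' ≫ r ≫ i) by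
          rw [← Category.assoc y' r i, ← hy', MonObj.mul_comp, MonObj.mul_comp, GrpObj.inv_comp,
            Category.assoc y r i]
          group,
        hw.2]
      simp only [hl]
  let n := Module.finrank k W
  let e := Module.finBasis k W
  let L : (VecGrp.pt k k ⟶ H) → W →ₗ[k] W := fun h =>
    ((appAlg (rTr (h ≫ i))).toLinearMap.domRestrict W).codRestrict W fun w => htr h w w.2
  let v : (VecGrp.pt k k ⟶ G) → Fin n → k := fun g b => val g (e b : Γ(G.left, ⊤))
  have hn0 : 0 < n := by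
    rw [Module.finrank_pos_iff]
    exact ⟨⟨d, hdW⟩, 0, fun h => hd1 (by rw [show d = 0 from congrArg Subtype.val h, map_zero])⟩
  -- points separating the space
  have hspan : Submodule.span k (Set.range v) = ⊤ := by
    by_contra hne
    obtain ⟨ψ, hψ0, hψ⟩ := Submodule.exists_dual_map_eq_bot_of_lt_top (lt_top_iff_ne_top.2 hne) inferInstance
    refine hψ0 (LinearMap.ext fun z => ?_)
    have hsum : ∀ z : Fin n → k, ψ z = ∑ b, z b * ψ (fun b' => if b = b' then 1 else 0) :=
      fun z => LinearMap.pi_apply_eq_sum_univ ψ z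
    have h0 : (∑ b, ψ (fun b' => if b = b' then 1 else 0) • e b : W) = 0 := Subtype.ext (ext_val fun g => by
      have hg : ψ (v g) = 0 := by
        have hmem : ψ (v g) ∈ (Submodule.span k (Set.range v)).map ψ := ⟨_, Submodule.subset_span ⟨g, rfl⟩, rfl⟩
        rwa [hψ, Submodule.mem_bot] at hmem
      rw [hsum] at hg
      simp only [Submodule.coe_sum, Submodule.coe_smul, map_sum, map_smul, smul_eq_mul, Submodule.coe_zero, map_zero]
      exact (Finset.sum_congr rfl fun b _ => _root_.mul_comm _ _).trans hg)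
    have := Fintype.linearIndependent_iff.1 e.linearIndependent _ h0
    rw [hsum]
    simp [this]
  obtain ⟨f, hf, hfspan, hfli⟩ := Submodule.exists_fun_fin_finrank_span_eq k (Set.range v)
  choose c hc using hf
  have hdim : Module.finrank k ↥(Submodule.span k (Set.range v)) = n := by rw [hspan, finrank_top, Module.finrank_fin_fun]
  let c' : Fin n → (VecGrp.pt k k ⟶ G) := fun a => c (Fin.cast hdim.symm a)
  have hli : LinearIndependent k fun a => v (c' a) := by
    have : (fun a => v (c' a)) = f ∘ Fin.cast hdim.symm := funext fun a => hc _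
    rw [this]
    exact hfli.comp _ (Fin.cast_injective _)
  let D : Γ(G.left, ⊤) := (Matrix.of fun a b => appAlg (lTr (c' a)) (e b : Γ(G.left, ⊤))).det
  let A : (VecGrp.pt k k ⟶ G) → Matrix (Fin n) (Fin n) k := fun x => Matrix.of fun a b => v (c' a * x) b
  have hD : ∀ x, val x D = (A x).det := fun x => by
    rw [AlgHom.map_det]
    congr 1
    ext a b
    simp [A, v, val_lTr]
  have hD1 : val (1 : VecGrp.pt k k ⟶ G) D ≠ 0 := by
    rw [hD]
    have hu : IsUnit (A 1) := Matrix.linearIndependent_rows_iff_isUnit.1 (by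
      refine (show (A 1).row = fun a => v (c' a) from funext fun a => funext fun b => ?_) ▸ hli
      simp [A, Matrix.row, _root_.mul_one (c' a)])
    exact ((Matrix.isUnit_iff_isUnit_det _).1 hu).ne_zero
  refine ⟨n, D, fun h => (LinearMap.toMatrix e e (L h)).det, hn0, fun x h => ?_, hD1, fun y => ?_⟩
  · rw [hD, hD, _root_.mul_comm, ← Matrix.det_mul]
    congr 1
    ext a b
    rw [Matrix.mul_apply]
    simp only [A, v, Matrix.of_apply, LinearMap.toMatrix_apply]
    have h1 := congrArg Subtype.val (e.sum_repr (L h (e b)))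
    simp only [Submodule.coe_sum, Submodule.coe_smul] at h1
    have h2 : val (c' a * (x * (h ≫ i))) (e b : Γ(G.left, ⊤)) =
        val (c' a * x) ((L h (e b) : W) : Γ(G.left, ⊤)) := by
      show _ = val _ (appAlg (rTr (h ≫ i)) (e b : Γ(G.left, ⊤)))
      rw [appAlg_apply, val_rTr, _root_.mul_assoc (c' a)]
    rw [h2, ← h1, map_sum]
    exact Finset.sum_congr rfl fun l _ => by rw [map_smul, smul_eq_mul, _root_.mul_comm]
  · show (LinearMap.toMatrix e e (L (y ≫ r))).det = _
    have hL : L (y ≫ r) = (l (y ≫ r))⁻¹ • LinearMap.id := LinearMap.ext fun w => Subtype.ext (ext_val fun x => by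
      show val x (appAlg (rTr ((y ≫ r) ≫ i)) (w : Γ(G.left, ⊤))) = val x ((l (y ≫ r))⁻¹ • (w : Γ(G.left, ⊤)))
      rw [appAlg_apply, val_rTr, map_smul, smul_eq_mul, Category.assoc]
      exact w.2.2 x y)
    rw [hL, map_smul, LinearMap.toMatrix_id, Matrix.det_smul, Matrix.det_one, _root_.mul_one, Fintype.card_fin]

end Groth.Agent.TorPts21
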