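import Groth.Agent.Lib.TorPts21.Mtx
import Groth.Agent.Lib.TorPts21.Split
import Groth.Agent.Lib.InvRing21.GLSmooth
import Groth.Agent.Lib.MTRigid29.MonoClosed
import Groth.Agent.Lib.MatGrp21.Solv
import Mathlib.LinearAlgebra.LinearIndependent.Lemmas

/-!
# Matrix groups of split tori
-/

set_option autoImplicit false
set_option linter.style.haveILetI false
set_option backward.isDefEq.respectTransparency.types false
universe u

open CategoryTheory Limits MonoidalCategory CartesianMonoidalCategory MonObj AlgebraicGeometry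
open Groth.Agent.DiagGL

noncomputable section

namespace Groth.Agent.TorPts21

open MatGrp21

variable {k : Type u} [Field k] {r : ℕ}

local notation "L[" r "]" => MonoidAlgebra k (Multiplicative (Fin r → ℤ))

theorem smooth_laurent : Algebra.Smooth k L[r] := by
  haveI : Algebra.FormallySmooth k L[r] := by
    refine Algebra.FormallySmooth.iff_comp_surjective.2 fun {B} _ _ I hI f => ?_
    let π : Additive Bˣ →ₗ[ℤ] Additive (B ⧸ I)ˣ :=
      (MonoidHom.toAdditive (Units.map (Ideal.Quotient.mk I).toMonoidHom)).toIntLinearMap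
    have hπ : Function.Surjective π := fun x => by
      obtain ⟨b, hb⟩ := Ideal.Quotient.mk_surjective ((Additive.toMul x : (B ⧸ I)ˣ) : B ⧸ I)
      obtain ⟨b', hb'⟩ := Ideal.Quotient.mk_surjective (((Additive.toMul x)⁻¹ : (B ⧸ I)ˣ) : B ⧸ I)
      have h1 : b * b' - 1 ∈ I := by
        rw [← Ideal.Quotient.eq_zero_iff_mem, map_sub, map_mul, hb, hb', map_one, Units.mul_inv, sub_self]
      have hu : IsUnit (b * b') := by
        have : IsNilpotent (b * b' - 1) := ⟨2, by
          rw [← Ideal.mem_bot, ← hI]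
          exact Ideal.pow_mem_pow h1 2⟩
        simpa using this.isUnit_add_one
      exact ⟨Additive.ofMul (isUnit_of_mul_isUnit_left hu).unit, Units.ext hb⟩
    let g : (Fin r → ℤ) →+ Additive (B ⧸ I)ˣ := MonoidHom.toAdditiveRight
      (((f : L[r] →* B ⧸ I).comp (MonoidAlgebra.of k (Multiplicative (Fin r → ℤ)))).toHomUnits)
    obtain ⟨h, hh⟩ := Module.projective_lifting_property π g.toIntLinearMap hπ
    refine ⟨MonoidAlgebra.lift k B _ ((Units.coeHom B).comp (AddMonoidHom.toMultiplicativeLeft h.toAddMonoidHom)),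
      (MonoidAlgebra.lift k (B ⧸ I) (Multiplicative (Fin r → ℤ))).symm.injective (MonoidHom.ext fun m => ?_)⟩
    show Ideal.Quotient.mk I (MonoidAlgebra.lift k B _ _ (MonoidAlgebra.of k _ m)) = f (MonoidAlgebra.of k _ m)
    rw [MonoidAlgebra.lift_of]
    exact congrArg (fun x => ((Additive.toMul x : (B ⧸ I)ˣ) : B ⧸ I)) (LinearMap.congr_fun hh (Multiplicative.toAdd m))
  haveI : Algebra.FinitePresentation k L[r] := Algebra.FinitePresentation.of_finiteType.1 inferInstance
  exact ⟨inferInstance, inferInstance⟩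

theorem smooth_of_chars {σ : Over (Spec (CommRingCat.of k))} [GrpObj σ] (C : Chars (Fin r → ℤ) σ) : Smooth σ.hom := by
  obtain ⟨e⟩ := MTRigid29.nonempty_iso_of_chars C (charsDiag k (Fin r → ℤ))
  rw [← Over.w e.hom]
  haveI : Smooth (Red.diag k (Fin r → ℤ)).hom := by
    show Smooth (Spec.map (CommRingCat.ofHom (algebraMap k L[r])))
    rw [HasRingHomProperty.Spec_iff (P := @Smooth)]
    haveI := smooth_laurent (k := k) (r := r)
    exact RingHom.smooth_algebraMap.2 inferInstance
  infer_instance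

theorem irreducibleSpace_of_chars {σ : Over (Spec (CommRingCat.of k))} [GrpObj σ] (C : Chars (Fin r → ℤ) σ) :
    IrreducibleSpace σ.left := by
  obtain ⟨e⟩ := MTRigid29.nonempty_iso_of_chars C (charsDiag k (Fin r → ℤ))
  haveI h : IrreducibleSpace (Red.diag k (Fin r → ℤ)).left :=
    inferInstanceAs (IrreducibleSpace (PrimeSpectrum L[r]))
  exact (Homeomorph.irreducibleSpace_iff (Scheme.homeoOfIso ((Over.forget _).mapIso e))).2 h

theorem isAffine_of_chars {σ : Over (Spec (CommRingCat.of k))} [GrpObj σ] (C : Chars (Fin r → ℤ) σ) :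
    IsAffine σ.left := by
  haveI := MTRigid29.isAffineHom_of_chars C
  exact isAffine_of_isAffineHom σ.hom

theorem commute_of_chars {M : Type} [AddCommGroup M] {S : Scheme.{u}} {σ : Over S} [GrpObj σ] (C : Chars M σ)
    {T : Over S} (x y : T ⟶ σ) : Commute x y :=
  C.inj fun a => by rw [C.mul, C.mul, mul_comm]

theorem isSolvableGrp_of_chars {M : Type} [AddCommGroup M] {S : Scheme.{u}} {σ : Over S} [GrpObj σ]
    (C : Chars M σ) : Red.IsSolvableGrp σ :=
  ⟨1, fun T => by
    rw [derivedSeries_one, commutator_eq_bot_iff_center_eq_top, eq_top_iff]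
    exact fun x _ => Subgroup.mem_center_iff.2 fun y => commute_of_chars C y x⟩

section Rep

attribute [local instance] InvRing21.gamAlg

variable {n : ℕ} {σ : Over (Spec (CommRingCat.of k))} [GrpObj σ] {M : Type} [AddCommGroup M] (C : Chars M σ)

/-- The character of a rational point. -/
def ptChr (x : VecGrp.pt k k ⟶ σ) : Multiplicative M →* k :=
  (InvRing21.ptHom (k := k) k : _ →* k).comp (C.ch x)

theorem exists_ptChr (χ : Multiplicative M →* k) : ∃ x : VecGrp.pt k k ⟶ σ, ptChr C x = χ := by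
  let e := RingEquiv.ofBijective _ (BorelFix21.ptHom_bijective (k := k))
  obtain ⟨x, hx⟩ := C.surj ((e.symm.toMulEquiv.toMonoidHom).comp χ)
  refine ⟨x, MonoidHom.ext fun a => ?_⟩
  show InvRing21.ptHom k (C.ch x a) = _
  rw [hx]
  exact e.apply_symm_apply _

/-- The entries of a matrix representation are in the group algebra. -/
theorem exists_mtxFn_eq (s : σ ⟶ GLs k n) :
    ∃ A : Matrix (Fin n) (Fin n) (MonoidAlgebra k (Multiplicative M)), ∀ x : VecGrp.pt k k ⟶ σ,
      (mtxFn s x : Matrix (Fin n) (Fin n) k) = A.map (MonoidAlgebra.lift k k _ (ptChr C x)) := by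
  obtain ⟨w, hw⟩ := DiagGL.exists_uni C
  refine ⟨(DiagGL.mat (w ≫ s)).map (DiagGL.emb k M).symm, fun x => ?_⟩
  obtain ⟨t, rfl, ht⟩ := DiagGL.exists_factor C hw x
  rw [coe_mtxFn, mtxMat, Category.assoc, DiagGL.mat_comp]
  ext i j
  simp only [Matrix.map_apply]
  generalize hz : DiagGL.mat (w ≫ s) i j = z
  obtain ⟨a, rfl⟩ := (DiagGL.emb k M).surjective z
  rw [RingEquiv.symm_apply_apply]
  clear hz
  induction a using MonoidAlgebra.induction_linear with
  | zero => simp
  | add a b ha hb => simp only [map_add, ha, hb]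
  | single m c =>
    have e1 : DiagGL.emb k M (MonoidAlgebra.single m c) =
        DiagGL.alg (DiagGL.D k M) c * DiagGL.univChar k M m := by
      rw [DiagGL.alg_D]
      show _ = DiagGL.emb k M (MonoidAlgebra.single 1 c) * DiagGL.emb k M (MonoidAlgebra.of k (Multiplicative M) m)
      rw [← map_mul, MonoidAlgebra.of_apply, MonoidAlgebra.single_mul_single, _root_.one_mul, _root_.mul_one]
    rw [e1, map_mul, map_mul, DiagGL.alg_comp, ← ht, MonoidAlgebra.lift_single, smul_eq_mul]
    congr 1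
    exact (InvRing21.ptHom k).commutes c

theorem eval_mtxFn {s : σ ⟶ GLs k n} {A : Matrix (Fin n) (Fin n) (MonoidAlgebra k (Multiplicative M))}
    (hA : ∀ x : VecGrp.pt k k ⟶ σ, (mtxFn s x : Matrix (Fin n) (Fin n) k) = A.map (MonoidAlgebra.lift k k _ (ptChr C x)))
    (p : MvPolynomial (Fin n × Fin n) k) (x : VecGrp.pt k k ⟶ σ) :
    MvPolynomial.eval (ent (mtxFn s x)) p =
      MonoidAlgebra.lift k k _ (ptChr C x) (MvPolynomial.aeval (fun ij => A ij.1 ij.2) p) := by
  rw [← AlgHom.comp_apply, MvPolynomial.comp_aeval]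
  show MvPolynomial.aeval _ p = _
  congr 2
  funext ij
  exact congrFun (congrFun (hA x) ij.1) ij.2

end Rep

/-- An element of the Laurent polynomial ring killed by all torsion characters is zero. -/
theorem eq_zero_of_torsion [IsAlgClosed k] {l : ℕ} (hl : l.Prime) (hlk : (l : k) ≠ 0) (a : L[r])
    (h : ∀ χ : Multiplicative (Fin r → ℤ) →* k, (∃ j : ℕ, χ ^ l ^ j = 1) →
      MonoidAlgebra.lift k k _ χ a = 0) : a = 0 := by
  let Δ : Submonoid (Multiplicative (Fin r → ℤ) →* k) :=
    { carrier := {χ | ∃ j : ℕ, χ ^ l ^ j = 1}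
      one_mem' := ⟨0, one_pow _⟩
      mul_mem' := fun {χ ψ} ⟨i, hi⟩ ⟨j, hj⟩ => ⟨i + j, by
        rw [mul_pow, pow_add, pow_mul, hi, one_pow, _root_.one_mul, mul_comm, pow_mul, hj, one_pow]⟩ }
  let ev : Multiplicative (Fin r → ℤ) → (Δ →* k) := fun m =>
    { toFun := fun χ => χ.1 m, map_one' := rfl, map_mul' := fun _ _ => rfl }
  have hinj : Function.Injective ev := fun m m' hmm' => by
    by_contra hne
    obtain ⟨i, hi⟩ := Function.ne_iff.1 fun e => hne (Multiplicative.toAdd.injective e)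
    set d := Multiplicative.toAdd m i - Multiplicative.toAdd m' i with hd
    obtain ⟨j, hj⟩ := pow_unbounded_of_one_lt d.natAbs hl.one_lt
    haveI : NeZero ((l ^ j : ℕ) : k) := ⟨by rw [Nat.cast_pow]; exact pow_ne_zero _ hlk⟩
    obtain ⟨z, hz⟩ := HasEnoughRootsOfUnity.exists_primitiveRoot k (l ^ j)
    have hz0 : z ≠ 0 := hz.ne_zero (pow_ne_zero _ hl.ne_zero)
    let χ : Multiplicative (Fin r → ℤ) →* k :=
      (Units.coeHom k).comp ((zpowersHom kˣ (Units.mk0 z hz0)).comp
        (AddMonoidHom.toMultiplicative (Pi.evalAddMonoidHom (fun _ : Fin r => ℤ) i)))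
    have hχ : ∀ x, χ x = z ^ Multiplicative.toAdd x i := fun x => by
      show ((Units.mk0 z hz0 ^ Multiplicative.toAdd x i : kˣ) : k) = _
      rw [Units.val_zpow_eq_zpow_val, Units.val_mk0]
    have hχΔ : χ ^ l ^ j = 1 := MonoidHom.ext fun x => by
      rw [MonoidHom.pow_apply, hχ, ← zpow_natCast, ← zpow_mul, mul_comm, zpow_mul, zpow_natCast, hz.pow_eq_one,
        one_zpow, MonoidHom.one_apply]
    have h1 : χ m = χ m' := DFunLike.congr_fun hmm' (⟨χ, j, hχΔ⟩ : Δ)
    rw [hχ, hχ] at h1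
    have h2 : z ^ d = 1 := by rw [hd, zpow_sub₀ hz0, h1, div_self (zpow_ne_zero _ hz0)]
    have h3 := (hz.zpow_eq_one_iff_dvd d).1 h2
    have h4 : d = 0 := Int.eq_zero_of_dvd_of_natAbs_lt_natAbs h3 (by rw [Int.natAbs_natCast]; exact hj)
    exact hi (sub_eq_zero.1 h4)
  have hli : LinearIndependent k fun m => (ev m : Δ → k) := (linearIndependent_monoidHom Δ k).comp ev hinj
  refine MonoidAlgebra.ext (DFunLike.ext _ _ fun m => ?_)
  have key := linearIndependent_iff.1 hli a.coeff (funext fun χ => by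
    have hg := h χ.1 χ.2
    rw [MonoidAlgebra.lift_apply] at hg
    rw [Finsupp.linearCombination_apply, Finsupp.sum, Finset.sum_apply, Pi.zero_apply]
    exact hg)
  rw [key]
  rfl

variable {n : ℕ} {σ : Over (Spec (CommRingCat.of k))} [GrpObj σ]

theorem mtxFn_one (s : σ ⟶ GLs k n) [IsMonHom s] : mtxFn s 1 = 1 := map_one (mtx s)

/-- The matrices of a torus have dense torsion and commute. -/
theorem range_mtx_dense [IsAlgClosed k] (C : Chars (Fin r → ℤ) σ) (s : σ ⟶ GLs k n) [IsMonHom s] :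
    ((mtx s).range : Set (GL (Fin n) k)) ⊆ closure (tors ((mtx s).range : Set (GL (Fin n) k))) := by
  obtain ⟨l, hl, hlk⟩ := exists_prime_ne k
  obtain ⟨A, hA⟩ := exists_mtxFn_eq C s
  rintro _ ⟨x, rfl⟩
  obtain ⟨S, hS⟩ := MatGrp21.isClosed_iff.1
    (isClosed_closure (s := tors ((mtx s).range : Set (GL (Fin n) k))))
  refine (hS _).2 fun p hp => ?_
  rw [mtx_apply, eval_mtxFn C hA, eq_zero_of_torsion hl hlk (MvPolynomial.aeval (fun ij => A ij.1 ij.2) p)
    fun χ hχ => ?_, map_zero]
  obtain ⟨j, hj⟩ := hχ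
  obtain ⟨y, rfl⟩ := exists_ptChr C χ
  rw [← eval_mtxFn C hA]
  refine (hS _).1 (subset_closure ⟨⟨y, rfl⟩, l ^ j, by rw [Nat.cast_pow]; exact pow_ne_zero _ hlk, ?_⟩) p hp
  have hy : y ^ l ^ j = 1 := C.inj fun a => BorelFix21.ptHom_bijective.1 (by
    have hch : ∀ m : ℕ, C.ch (y ^ m) a = C.ch y a ^ m := fun m => by
      induction m with
      | zero => rw [pow_zero, pow_zero, C.one]
      | succ m ih => rw [pow_succ, pow_succ, C.mul, ih]
    rw [hch, map_pow, C.one, map_one]
    exact DFunLike.congr_fun hj a)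
  show mtx s y ^ l ^ j = 1
  rw [← map_pow, hy, map_one]

theorem range_mtx_comm (C : Chars (Fin r → ℤ) σ) (s : σ ⟶ GLs k n) [IsMonHom s] :
    ∀ a ∈ (mtx s).range, ∀ b ∈ (mtx s).range, Commute a b := by
  rintro _ ⟨x, rfl⟩ _ ⟨y, rfl⟩
  exact (commute_of_chars C x y).map (mtx s)

/-- The matrices of a torus are simultaneously diagonalisable. -/
theorem range_mtx_diag [IsAlgClosed k] (C : Chars (Fin r → ℤ) σ) (s : σ ⟶ GLs k n) [IsMonHom s] :
    ∃ P : GL (Fin n) k, ∀ g ∈ (mtx s).range,
      ((P * g * P⁻¹ : GL (Fin n) k) : Matrix (Fin n) (Fin n) k).IsDiag := by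
  obtain ⟨P, hP⟩ := exists_diagonalize (tors ((mtx s).range : Set (GL (Fin n) k)))
    (fun a ha b hb => range_mtx_comm C s a ha.1 b hb.1) fun a ha => ha.2
  have hcl : IsClosed {g : GL (Fin n) k | ((P * g * P⁻¹ : GL (Fin n) k) : Matrix (Fin n) (Fin n) k).IsDiag} := by
    have : {g : GL (Fin n) k | ((P * g * P⁻¹ : GL (Fin n) k) : Matrix (Fin n) (Fin n) k).IsDiag} =
        (fun g => P * g * P⁻¹) ⁻¹' ⋂ (a : Fin n) (b : Fin n) (_ : a ≠ b),
          {g : GL (Fin n) k | (g : Matrix (Fin n) (Fin n) k) a b = 0} := by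
      ext g; simp [Matrix.IsDiag, _root_.Pairwise]
    rw [this]
    exact (isClosed_iInter fun a => isClosed_iInter fun b => isClosed_iInter fun _ =>
      MatGrp21.isClosed_eq (isReg_entry a b) (isReg_const 0)).preimage (continuous_conj P)
  exact ⟨P, fun g hg => closure_minimal hP hcl (range_mtx_dense C s hg)⟩

end Groth.Agent.TorPts21
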