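import Groth.Agent.Lib.TorPts21.BorelUnion
import Groth.Agent.S3276

/-!
# A Borel subgroup containing a torus and a point commuting with it
-/

set_option autoImplicit false
set_option linter.style.haveILetI false
set_option backward.isDefEq.respectTransparency.types false
universe u

open CategoryTheory Limits MonoidalCategory CartesianMonoidalCategory MonObj AlgebraicGeometry

noncomputable section

namespace Groth.Agent.TorPts21

variable {k : Type u} [Field k] [IsAlgClosed k] {G : Over (Spec (CommRingCat.of k))} [GrpObj G] [IsAffine G.left]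
  [Smooth G.hom] [ConnectedSpace G.left]

set_option maxHeartbeats 800000 in
/-- A torus and a point centralising it lie in a common Borel subgroup. -/
theorem exists_borel_torus_pt {S : Over (Spec (CommRingCat.of k))} [GrpObj S] (iS : S ⟶ G) [IsMonHom iS]
    (hS : Red.IsTorus S) (c : 𝟙_ (Over (Spec (CommRingCat.of k))) ⟶ G)
    (hc : ∀ (X : Over (Spec (CommRingCat.of k))) (s : X ⟶ S),
      (toUnit X ≫ c) * (s ≫ iS) = (s ≫ iS) * (toUnit X ≫ c)) :
    ∃ (B : Over (Spec (CommRingCat.of k))) (_ : GrpObj B) (iB : B ⟶ G) (_ : Red.IsBorelOver k iB) (t : S ⟶ B)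
      (b : 𝟙_ (Over (Spec (CommRingCat.of k))) ⟶ B), t ≫ iB = iS ∧ b ≫ iB = c := by
  obtain ⟨B, _, iB, hB, -⟩ := BorelFix21.exists_isBorelOver G
  obtain ⟨hm, hcl, hs, hn, -, -⟩ := id hB
  haveI := hm
  haveI := hcl
  haveI := hs
  haveI := hn
  haveI : IsClosedImmersion (𝟙 B ≫ iB).left := by rw [Category.id_comp]; infer_instance
  obtain ⟨X, a, o, hX, hXs, -⟩ := GrassAct21.exists_quotient_affine iB
  haveI := hXs
  haveI : IsProper X.hom := BorelFix21.isProper_of_borel_le hX (𝟙 B) (by rw [Category.id_comp]; exact hB)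
  -- the fixed locus of the point
  obtain ⟨Y, em, hem, heme, hemu⟩ := exists_agree (lift (toUnit X ≫ c) (𝟙 X) ≫ a.act) (𝟙 X)
  haveI := hem
  haveI : Mono em := Over.mono_of_mono_left em
  have hY : ∀ {T : Over (Spec (CommRingCat.of k))} (y : T ⟶ Y),
      lift (toUnit T ≫ c) (y ≫ em) ≫ a.act = y ≫ em := fun {T} y => by
    conv_rhs => rw [← Category.comp_id em, ← heme]
    simp only [comp_lift_assoc, comp_lift, ← Category.assoc, comp_toUnit, Category.comp_id]
  haveI : IsProper Y.hom := by rw [← Over.w em]; infer_instance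
  obtain ⟨act, hact⟩ := hemu ((S ◁ em) ≫ (a.restrict iS).act) (by
    rw [Category.comp_id, ← Category.assoc, comp_lift, Category.comp_id, ← Category.assoc, comp_toUnit,
      show (S ◁ em) = lift (fst S Y) (snd S Y ≫ em) from
        CartesianMonoidalCategory.hom_ext _ _ (by simp) (by simp),
      AlgGrp.Action.lift_restrict_act, ← AlgGrpBasic19.act_mul, hc _ (fst S Y), AlgGrpBasic19.act_mul, hY])
  let b : AlgGrp.Action S Y :=
    { act := act
      one_act := by
        rw [← cancel_mono em, Category.assoc, hact, ← MonoidalCategory.whisker_exchange_assoc,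
          (a.restrict iS).one_act, leftUnitor_naturality]
      mul_act := by
        rw [← cancel_mono em, Category.assoc, hact, ← MonoidalCategory.whisker_exchange_assoc,
          (a.restrict iS).mul_act, Category.assoc, Category.assoc, hact, MonoidalCategory.tensor_whiskerLeft]
        simp only [Category.assoc, Iso.inv_hom_id_assoc]
        rw [← MonoidalCategory.whiskerLeft_comp_assoc S (S ◁ em), ← hact, MonoidalCategory.whiskerLeft_comp_assoc,
          hact] }
  obtain ⟨x₀, b₀, hx₀⟩ := exists_conj_mem_borel iB hB c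
  obtain ⟨y₀, hy₀⟩ := hemu (x₀ ≫ a.orbitMap o) (by
    rw [Category.comp_id, ← Category.assoc, comp_lift, ← Category.assoc, comp_toUnit, Category.comp_id,
      toUnit_unique (toUnit (𝟙_ (Over (Spec (CommRingCat.of k))))) (𝟙 _), Category.id_comp]
    conv_lhs => rw [AlgGrp.Action.comp_orbitMap, ← AlgGrpBasic19.act_mul, ← AlgGrp.Action.comp_orbitMap]
    exact ((BorelFix21.orbit_eq_iff hX x₀ (c * x₀)).2 ⟨b₀, by rw [← hx₀]; group⟩).symm)
  haveI : Nonempty Y.left := ⟨img' y₀⟩
  obtain ⟨hSa, hSs, hSc, hsol⟩ := props_of_isTorus hS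
  haveI := hSa
  haveI := hSs
  haveI := hSc
  haveI : Group.IsSolvable (𝟙_ (Over (Spec (CommRingCat.of k))) ⟶ S) :=
    (Group.isSolvable_def _).2 ⟨hsol.choose, hsol.choose_spec _⟩
  obtain ⟨y, hy⟩ := Groth.Agent.S3276.result k S Y b
  obtain ⟨g, hg⟩ := InvRing21.IsQuotient.exists_lift hX (y ≫ em).left (Over.w _)
  let γ₀ : 𝟙_ (Over (Spec (CommRingCat.of k))) ⟶ G := InvRing21.toPt _ ≫ g
  have hγ : γ₀ ≫ a.orbitMap o = y ≫ em := by
    rw [Category.assoc]
    refine Over.OverMorphism.ext ?_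
    rw [Over.comp_left, Over.comp_left, hg]
    exact Category.id_comp _
  have hS1 : ((iS * (toUnit S ≫ γ₀)) ≫ a.orbitMap o) = (toUnit S ≫ γ₀) ≫ a.orbitMap o := by
    have h1 := hy S (𝟙 S)
    rw [AlgGrp.Action.comp_orbitMap, AlgGrpBasic19.act_mul, ← AlgGrp.Action.comp_orbitMap, Category.assoc, hγ,
      ← Category.assoc]
    have h2 : lift (𝟙 S) (toUnit S ≫ y) ≫ act ≫ em = (toUnit S ≫ y) ≫ em := by
      rw [← Category.assoc]; exact congrArg (· ≫ em) h1
    rw [hact, ← Category.assoc, lift_whiskerLeft, AlgGrp.Action.lift_restrict_act, Category.id_comp] at h2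
    exact h2
  obtain ⟨t, ht⟩ := (BorelFix21.orbit_eq_iff hX (toUnit S ≫ γ₀) (iS * (toUnit S ≫ γ₀))).1 hS1.symm
  have hc1 : (c * γ₀) ≫ a.orbitMap o = γ₀ ≫ a.orbitMap o := by
    rw [AlgGrp.Action.comp_orbitMap, AlgGrpBasic19.act_mul, ← AlgGrp.Action.comp_orbitMap, hγ]
    have := hY y
    rwa [toUnit_unique (toUnit (𝟙_ (Over (Spec (CommRingCat.of k))))) (𝟙 _), Category.id_comp] at this
  obtain ⟨b₁, hb₁⟩ := (BorelFix21.orbit_eq_iff hX γ₀ (c * γ₀)).1 hc1.symm
  refine ⟨B, inferInstance, _, BorelFix21.isBorelOver_conj iB hB γ₀⁻¹, t, b₁, ?_, ?_⟩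
  · rw [MonObj.comp_mul, MonObj.comp_mul, GrpObj.comp_inv, ← Category.assoc, comp_toUnit, GrpObj.comp_inv, inv_inv,
      ← ht]
    group
  · rw [MonObj.comp_mul, MonObj.comp_mul, GrpObj.comp_inv, ← Category.assoc, comp_toUnit, GrpObj.comp_inv, inv_inv,
      toUnit_unique (toUnit (𝟙_ (Over (Spec (CommRingCat.of k))))) (𝟙 _), Category.id_comp, ← hb₁]
    group

end Groth.Agent.TorPts21
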