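import Groth.Agent.Lib.TorPts21.UnipBorel
import Groth.Agent.Lib.TorPts21.GenPoints
import Groth.Agent.Lib.TorPts21.QuotientAffine
import Groth.Agent.Lib.TorPts21.CentreFinite
import Groth.Agent.Lib.GrassAct21.Quot
import Groth.Agent.Lib.GrpQuot20.Group
import Mathlib.RingTheory.Flat.FaithfullyFlat.Algebra
import Mathlib.AlgebraicGeometry.Morphisms.Affine

/-!
# Extending additive characters along torsors over affine bases
-/

set_option autoImplicit false
set_option linter.style.haveILetI false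
set_option backward.isDefEq.respectTransparency.types false
universe u

open CategoryTheory Limits MonoidalCategory CartesianMonoidalCategory MonObj AlgebraicGeometry
open scoped TensorProduct

noncomputable section

namespace Groth.Agent.TorPts21

open MatGrp21 InvRing21

attribute [local instance] InvRing21.gamAlg BorelFix21.ptsTop

variable {k : Type u} [Field k] [IsAlgClosed k]

/-- A non-trivial connected group without subtori has a non-zero additive character. -/
theorem exists_addChar (U : Over (Spec (CommRingCat.of k))) [GrpObj U] [IsAffine U.left] [Smooth U.hom]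
    [ConnectedSpace U.left] (h : Red.HasNoSubtorus k U) (hne : ¬ Red.IsTrivialGrp U) :
    ∃ φ : Γ(U.left, ⊤), (∀ x y : VecGrp.pt k k ⟶ U, val (x * y) φ = val x φ + val y φ) ∧
      ∃ x : VecGrp.pt k k ⟶ U, val x φ ≠ 0 := by
  obtain ⟨n, r, hr, hrc, hup⟩ := exists_upper_embedding (𝟙 U) (isSolvableGrp_of_hasNoSubtorus U h)
  haveI := hr
  haveI := hrc
  have hup' : (mtx r).range ≤ upper := by
    rintro _ ⟨x, rfl⟩
    refine hup ⟨x, ?_⟩
    rw [mtx_comp, Category.comp_id]
  have hlay := range_le_lay_of_hasNoSubtorus r hup' h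
  have hex : ∃ i, ¬ (mtx r).range ≤ lay (i + 1) := by
    by_contra! hall
    refine hne (isTrivialGrp_of_pts fun x => mtxFn_injective r ?_)
    have hx := hall n ⟨x, rfl⟩
    rw [lay_eq_bot (by omega), Subgroup.mem_bot] at hx
    rw [← mtx_apply, ← mtx_apply, hx, map_one]
  classical
  let i := Nat.find hex
  have hi : 1 ≤ i := by
    refine Nat.one_le_iff_ne_zero.2 fun h0 => ?_
    have hspec : ¬ (mtx r).range ≤ lay (i + 1) := Nat.find_spec hex
    rw [h0] at hspec
    exact hspec hlay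
  have hle : (mtx r).range ≤ lay i := by
    have h' := Nat.find_min hex (show i - 1 < i by omega)
    rw [not_not, show i - 1 + 1 = i by omega] at h'
    exact h'
  obtain ⟨_, ⟨x₀, rfl⟩, hx₀⟩ := Set.not_subset.1 (Nat.find_spec hex)
  obtain ⟨a, ha⟩ : ∃ a, phi i (mtx r x₀) a ≠ 0 := by
    by_contra! hall
    exact hx₀ ((phi_eq_zero_iff hi (hle ⟨x₀, rfl⟩)).1 (funext hall))
  have han : (a : ℕ) + i < n := by
    by_contra hn
    exact ha (by simp [phi, hn])
  let φ : Γ(U.left, ⊤) := DiagGL.mat r a ⟨a + i, han⟩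
  have hφ : ∀ x, val x φ = phi i (mtx r x) a := fun x => by
    rw [phi, dif_pos han, mtx_apply, coe_mtxFn, mtxMat, DiagGL.mat_comp]
    rfl
  refine ⟨φ, fun x y => ?_, x₀, by rwa [hφ]⟩
  rw [hφ, hφ, hφ, map_mul, phi_mul hi (hle ⟨x, rfl⟩) (hle ⟨y, rfl⟩)]
  rfl

/-- Quasi-compact morphisms are covering. -/
theorem covFac_of_quasiCompact {X Y : Scheme.{u}} (f : X ⟶ Y) [QuasiCompact f] [Flat f] [Surjective f] :
    GrpQuot20.CovFac f :=
  ⟨X, f, 𝟙 X, Category.id_comp f, inferInstance, inferInstance, fun V hV =>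
    ⟨f ⁻¹ᵁ V, f.isCompact_preimage hV.isCompact,
      Set.image_preimage_eq (f := f.base) (V : Set Y) f.surjective⟩⟩

/-- The quotient of a connected affine group by a normal closed subgroup is affine. -/
theorem exists_affine_quotient {G N : Over (Spec (CommRingCat.of k))} [GrpObj G] [GrpObj N] [IsAffine G.left]
    [Smooth G.hom] [ConnectedSpace G.left] (u : N ⟶ G) [IsMonHom u] [IsClosedImmersion u.left]
    (hn : AlgGrp.IsNormalHom u) :
    ∃ (X : Over (Spec (CommRingCat.of k))) (a : AlgGrp.Action G X) (o : 𝟙_ (Over (Spec (CommRingCat.of k))) ⟶ X),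
      AGF.IsQuotient u X a o ∧ IsAffine X.left := by
  obtain ⟨X, a, o, hX, hsep, hqc⟩ := GrassAct21.exists_quotient u
  refine ⟨X, a, o, hX, ?_⟩
  haveI := hsep
  haveI := hqc
  haveI := IsQuotient.quasiCompact hX
  obtain ⟨hlft, hfl, hsurj, hpb⟩ := hX
  haveI := hlft
  haveI := hfl
  haveI := hsurj
  obtain ⟨hQ, hp, -⟩ := GrpQuot20.exists_grpObj u (a.orbitMap o) (covFac_of_quasiCompact _) hpb.flip
    fun T g m => by
      obtain ⟨m', hm'⟩ := hn T g m
      exact ⟨m', hm'⟩
  letI := hQ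
  haveI := hp
  exact isAffine_of_surjective_hom (a.orbitMap o)

variable {G H U : Over (Spec (CommRingCat.of k))} [GrpObj G] [GrpObj H] [GrpObj U]

set_option maxHeartbeats 1600000 in
/-- An additive character of `U` which extends to `H` extends to `G` when `G/H` is affine. -/
theorem exists_extend_char [IsAffine G.left] [Smooth G.hom] [IsAffine H.left] [Smooth H.hom] [IsAffine U.left]
    [Smooth U.hom] (i : H ⟶ G) [IsMonHom i] [IsClosedImmersion i.left] (u : U ⟶ H) [IsMonHom u] {X : Over (Spec (CommRingCat.of k))}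
    {a : AlgGrp.Action G X} {o : 𝟙_ (Over (Spec (CommRingCat.of k))) ⟶ X} (hX : AGF.IsQuotient i X a o)
    [IsAffine X.left] (φ : Γ(U.left, ⊤)) (f₀ : Γ(H.left, ⊤))
    (h₀ : ∀ (h : VecGrp.pt k k ⟶ H) (x : VecGrp.pt k k ⟶ U), val (h * (x ≫ u)) f₀ = val h f₀ + val x φ) :
    ∃ f : Γ(G.left, ⊤), ∀ (g : VecGrp.pt k k ⟶ G) (x : VecGrp.pt k k ⟶ U),
      val (g * (x ≫ u ≫ i)) f = val g f + val x φ := by
  classical
  have hceq := fun {T : Over (Spec (CommRingCat.of k))} (g g' : T ⟶ G) => IsQuotient.comp_eq_iff hX g g'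
  obtain ⟨-, hfl, hsurj, hpb⟩ := hX
  set π := a.orbitMap o with hπ
  haveI := hfl
  haveI := hsurj
  haveI : Smooth (G ⊗ H).hom := inferInstanceAs (Smooth (pullback.fst G.hom H.hom ≫ G.hom))
  haveI : IsAffine (G ⊗ H).left := inferInstanceAs (IsAffine (pullback G.hom H.hom))
  haveI := OrbitTop19.isReduced_of_smooth U.hom
  haveI := finiteType_gam U
  let A := Γ(X.left, ⊤)
  let B := Γ(G.left, ⊤)
  let C := Γ(U.left, ⊤)
  haveI : _root_.IsReduced C := inferInstance
  letI algAB : Algebra A B := (π.left.appTop).hom.toAlgebra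
  haveI : IsScalarTower k A B := .of_algebraMap_eq fun c => ((appAlg π).commutes c).symm
  -- faithful flatness
  haveI : Module.Flat A B := HasRingHomProperty.appTop (P := @Flat) π.left hfl
  haveI : Module.FaithfullyFlat A B := by
    refine Module.FaithfullyFlat.of_comap_surjective ?_
    haveI : Surjective (Spec.map π.left.appTop) := by
      have e : Spec.map π.left.appTop = G.left.isoSpec.inv ≫ π.left ≫ X.left.isoSpec.hom := by
        rw [← Scheme.isoSpec_inv_naturality_assoc, Iso.inv_hom_id, Category.comp_id]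
      rw [e]
      infer_instance
    exact (Spec.map π.left.appTop).surjective
  -- functions on the fibre product
  have sq : IsPullback (fst G H).left ((G ◁ i) ≫ μ[G]).left π.left π.left := (Over.forget _).map_isPullback hpb
  have hsq := isPushout_appTop_of_isPullback sq
  let e := (CommRingCat.isPushout_tensorProduct A B B).isoPushout ≪≫ hsq.isoPushout.symm
  have he1 : ∀ b : B, e.hom (b ⊗ₜ[A] (1 : B)) = (fst G H).left.appTop b := fun b => by
    have h1 : CommRingCat.ofHom (Algebra.TensorProduct.includeLeftRingHom : B →+* B ⊗[A] B) ≫ e.hom =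
        (fst G H).left.appTop :=
      ((CommRingCat.isPushout_tensorProduct A B B).inl_isoPushout_hom_assoc _).trans
        hsq.inl_isoPushout_inv
    exact ConcreteCategory.congr_hom h1 b
  have he2 : ∀ b : B, e.hom ((1 : B) ⊗ₜ[A] b) = ((G ◁ i) ≫ μ[G]).left.appTop b := fun b => by
    have h1 : CommRingCat.ofHom (Algebra.TensorProduct.includeRight (R := A) (A := B) (B := B)).toRingHom ≫ e.hom =
        ((G ◁ i) ≫ μ[G]).left.appTop :=
      ((CommRingCat.isPushout_tensorProduct A B B).inr_isoPushout_hom_assoc _).trans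
        hsq.inr_isoPushout_inv
    exact ConcreteCategory.congr_hom h1 b
  let φ' : B ⊗[A] B →ₐ[k] Γ((G ⊗ H).left, ⊤) :=
    { toRingHom := e.hom.hom
      commutes' := fun c => by
        rw [show algebraMap k (B ⊗[A] B) c = algebraMap k B c ⊗ₜ[A] (1 : B) from rfl]
        exact (he1 _).trans ((appAlg (fst G H)).commutes c) }
  have hφ' : Function.Bijective φ' := ConcreteCategory.bijective_of_isIso e.hom
  have hφt : ∀ b b' : B, φ' (b ⊗ₜ[A] b') = (fst G H).left.appTop b * ((G ◁ i) ≫ μ[G]).left.appTop b' := by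
    intro b b'
    rw [← he1, ← he2, ← _root_.mul_one b, ← _root_.one_mul b', ← Algebra.TensorProduct.tmul_mul_tmul, map_mul,
      _root_.mul_one, _root_.one_mul]
    rfl
  have hev : ∀ (g : VecGrp.pt k k ⟶ G) (h : VecGrp.pt k k ⟶ H) (b b' : B),
      val (lift g h) (φ' (b ⊗ₜ[A] b')) = val g b * val (g * (h ≫ i)) b' := by
    intro g h b b'
    rw [hφt, map_mul, appTop_val, appTop_val, lift_fst, whisker_mul, MonObj.comp_mul, lift_fst,
      ← Category.assoc, lift_snd]
  -- the coaction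
  let P : VecGrp.pt k (B ⊗[k] C) ⟶ G :=
    (VecGrp.ptMap (Algebra.TensorProduct.includeLeft : B →ₐ[k] B ⊗[k] C) ≫ uPt G) *
      (VecGrp.ptMap (Algebra.TensorProduct.includeRight : C →ₐ[k] B ⊗[k] C) ≫ uPt U ≫ u ≫ i)
  let ev2 : (VecGrp.pt k k ⟶ G) → (C →ₐ[k] k) → (B ⊗[k] C →ₐ[k] k) := fun g χ =>
    Algebra.TensorProduct.lift (val g) χ fun _ _ => Commute.all _ _
  have hev2 : ∀ g χ (b : B) (c : C), ev2 g χ (b ⊗ₜ[k] c) = val g b * χ c := fun g χ b c =>
    Algebra.TensorProduct.lift_tmul _ _ _ b c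
  have hevL : ∀ g χ, (ev2 g χ).comp (Algebra.TensorProduct.includeLeft : B →ₐ[k] B ⊗[k] C) = val g := fun g χ =>
    AlgHom.ext fun b => (hev2 g χ b 1).trans (by rw [map_one, _root_.mul_one])
  have hevR : ∀ g χ, (ev2 g χ).comp (Algebra.TensorProduct.includeRight : C →ₐ[k] B ⊗[k] C) = χ := fun g χ =>
    AlgHom.ext fun c => (hev2 g χ 1 c).trans (by rw [map_one, _root_.one_mul])
  have hval : ∀ {T : Over (Spec (CommRingCat.of k))} [IsAffine T.left] (χ : Γ(T.left, ⊤) →ₐ[k] k),
      val (VecGrp.ptMap χ ≫ uPt T) = χ := fun χ => by rw [val_ptMap, val_uPt, AlgHom.comp_id]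
  have hρ : ∀ g χ F, ev2 g χ (val P F) = val (g * ((VecGrp.ptMap χ ≫ uPt U) ≫ u ≫ i)) F := by
    intro g χ F
    rw [← AlgHom.comp_apply, ← val_ptMap]
    congr 2
    simp only [P, MonObj.comp_mul, ← Category.assoc]
    rw [ptMap_comp, ptMap_comp, hevL, hevR, ptMap_val]
  have hdet : ∀ w w' : B ⊗[k] C, (∀ g χ, ev2 g χ w = ev2 g χ w') → w = w' := by
    intro w w' hw
    refine eq_of_forall_eval fun χ => ext_val fun g => ?_
    have key : ∀ z : B ⊗[k] C, val g ((Algebra.TensorProduct.lift (AlgHom.id k B) ((Algebra.ofId k B).comp χ)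
        (fun _ _ => Commute.all _ _)) z) = ev2 g χ z := fun z => by
      induction z using TensorProduct.induction_on with
      | zero => simp
      | tmul b c =>
        rw [hev2, Algebra.TensorProduct.lift_tmul, map_mul, AlgHom.comp_apply, Algebra.ofId_apply, AlgHom.commutes]
        rfl
      | add p q hp hq => simp only [map_add, hp, hq]
    rw [key, key, hw g χ]
  have hπeq : ∀ (g : VecGrp.pt k k ⟶ G) (y : VecGrp.pt k k ⟶ H) (c : A),
      val (g * (y ≫ i)) (algebraMap A B c) = val g (algebraMap A B c) := fun g y c => by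
    show val _ (π.left.appTop c) = val g (π.left.appTop c)
    rw [appTop_val, appTop_val, ← (hceq g _).2 ⟨y, rfl⟩]
  have hρA : ∀ c : A, val P (algebraMap A B c) = algebraMap A B c ⊗ₜ[k] (1 : C) := fun c => by
    refine hdet _ _ fun g χ => ?_
    rw [hρ, ← Category.assoc (VecGrp.ptMap χ ≫ uPt U), hπeq]
    rw [hev2, map_one, _root_.mul_one]
  have hsm : ∀ (c : A) (w : B ⊗[k] C), (algebraMap A B c ⊗ₜ[k] (1 : C)) * w = c • w := fun c w => by
    induction w using TensorProduct.induction_on with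
    | zero => simp
    | tmul b d =>
      rw [Algebra.TensorProduct.tmul_mul_tmul, _root_.one_mul, TensorProduct.smul_tmul', Algebra.smul_def]
    | add p q hp hq => rw [mul_add, hp, hq, smul_add]
  let L : B →ₗ[A] B ⊗[k] C :=
    { toFun := fun F => val P F - F ⊗ₜ[k] (1 : C)
      map_add' := fun F F' => by rw [map_add, TensorProduct.add_tmul]; abel
      map_smul' := fun c F => by
        rw [RingHom.id_apply, smul_sub, Algebra.smul_def, map_mul, hρA, hsm, ← Algebra.smul_def,
          TensorProduct.smul_tmul'] }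
  -- the solution after base change
  obtain ⟨z, hz⟩ := hφ'.2 ((snd G H).left.appTop f₀)
  let T : B ⊗[A] (B ⊗[k] C) →ₗ[k] Γ((G ⊗ H).left, ⊤) ⊗[k] C :=
    (φ'.toLinearMap.rTensor C) ∘ₗ
      ((TensorProduct.AlgebraTensorModule.assoc k A A B B C).symm.toLinearMap.restrictScalars k)
  have hT : ∀ b b' c, T (b ⊗ₜ[A] (b' ⊗ₜ[k] c)) = φ' (b ⊗ₜ[A] b') ⊗ₜ[k] c := fun b b' c => rfl
  have hTinj : Function.Injective T :=
    (Module.Flat.rTensor_preserves_injective_linearMap (M := C) φ'.toLinearMap hφ'.1).comp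
      (TensorProduct.AlgebraTensorModule.assoc k A A B B C).symm.injective
  let ev3 : (VecGrp.pt k k ⟶ G ⊗ H) → (C →ₐ[k] k) → (Γ((G ⊗ H).left, ⊤) ⊗[k] C →ₐ[k] k) := fun q χ =>
    Algebra.TensorProduct.lift (val q) χ fun _ _ => Commute.all _ _
  have hev3t : ∀ q χ z' (c : C), ev3 q χ (z' ⊗ₜ[k] c) = val q z' * χ c := fun q χ z' c =>
    Algebra.TensorProduct.lift_tmul _ _ _ z' c
  have hev3 : ∀ g h χ (b : B) (w : B ⊗[k] C),
      ev3 (lift g h) χ (T (b ⊗ₜ[A] w)) = val g b * ev2 (g * (h ≫ i)) χ w := by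
    intro g h χ b w
    induction w using TensorProduct.induction_on with
    | zero => simp
    | tmul b' c =>
      rw [hT, hev2, hev3t, hev, _root_.mul_assoc]
    | add p q hp hq => simp only [TensorProduct.tmul_add, map_add, hp, hq, mul_add]
  have hLz : ∀ g h χ (w : B ⊗[A] B), ev3 (lift g h) χ (T (L.lTensor B w)) =
      val (lift g (h * ((VecGrp.ptMap χ ≫ uPt U) ≫ u))) (φ' w) - val (lift g h) (φ' w) := by
    intro g h χ w
    induction w using TensorProduct.induction_on with
    | zero => simp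
    | add p q hp hq => simp only [map_add, hp, hq]; abel
    | tmul b b' =>
      rw [LinearMap.lTensor_tmul, hev3, show L b' = val P b' - b' ⊗ₜ[k] (1 : C) from rfl, map_sub, hρ, hev, hev,
        MonObj.mul_comp, ← _root_.mul_assoc, Category.assoc]
      simp only [hev2, map_one, _root_.mul_one, mul_sub, Category.assoc]
  have hkey : T (L.lTensor B z) = T ((1 : B) ⊗ₜ[A] ((1 : B) ⊗ₜ[k] φ)) := by
    refine eq_of_forall_eval fun χ => ext_val fun q => ?_
    have key : ∀ w : Γ((G ⊗ H).left, ⊤) ⊗[k] C, val q ((Algebra.TensorProduct.lift (AlgHom.id k _)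
        ((Algebra.ofId k Γ((G ⊗ H).left, ⊤)).comp χ) (fun _ _ => Commute.all _ _)) w) = ev3 q χ w := fun w => by
      induction w using TensorProduct.induction_on with
      | zero => simp
      | tmul b c =>
        rw [hev3t, Algebra.TensorProduct.lift_tmul, map_mul, AlgHom.comp_apply, Algebra.ofId_apply, AlgHom.commutes]
        rfl
      | add p r hp hr => simp only [map_add, hp, hr]
    obtain ⟨g, h, rfl⟩ : ∃ g h, lift g h = q :=
      ⟨q ≫ fst G H, q ≫ snd G H, by rw [← comp_lift, lift_fst_snd, Category.comp_id]⟩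
    rw [key, key, hLz, hev3, hev2, hz, appTop_val, appTop_val, lift_snd, lift_snd, h₀, hval, map_one, map_one,
      _root_.one_mul, _root_.one_mul]
    ring
  -- descent
  have hker : (LinearMap.range L).mkQ ((1 : B) ⊗ₜ[k] φ) = 0 := by
    refine Module.FaithfullyFlat.tensorProduct_mk_injective (A := A) (B := B) _ ?_
    have h1 := congrArg ((LinearMap.range L).mkQ.lTensor B) (hTinj hkey)
    rw [← LinearMap.comp_apply, ← LinearMap.lTensor_comp, LinearMap.range_mkQ_comp, LinearMap.lTensor_zero,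
      LinearMap.zero_apply, LinearMap.lTensor_tmul] at h1
    rw [TensorProduct.mk_apply, TensorProduct.mk_apply, TensorProduct.tmul_zero]
    exact h1.symm
  obtain ⟨f, hf⟩ := (Submodule.Quotient.mk_eq_zero _).1 hker
  refine ⟨f, fun g x => ?_⟩
  have h2 := congrArg (ev2 g (val x)) hf
  rw [show L f = val P f - f ⊗ₜ[k] (1 : C) from rfl, map_sub, hρ, ptMap_val] at h2
  rw [hev2, hev2, map_one, map_one, _root_.mul_one, _root_.one_mul] at h2
  linear_combination h2

/-- Extension from an open subgroup. -/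
theorem exists_extend_char_open [IsAffine H.left] [Smooth H.hom] {H₀ : Over (Spec (CommRingCat.of k))} [GrpObj H₀]
    (j : H₀ ⟶ H) [IsMonHom j] [IsOpenImmersion j.left] (u : U ⟶ H₀) [IsMonHom u]
    (α : (VecGrp.pt k k ⟶ U) → k) (f₀ : Γ(H₀.left, ⊤))
    (h₀ : ∀ (h : VecGrp.pt k k ⟶ H₀) (x : VecGrp.pt k k ⟶ U), val (h * (x ≫ u)) f₀ = val h f₀ + α x) :
    ∃ f : Γ(H.left, ⊤), ∀ (h : VecGrp.pt k k ⟶ H) (x : VecGrp.pt k k ⟶ U),
      val (h * (x ≫ u ≫ j)) f = val h f + α x := by
  classical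
  haveI := isClosedImmersion_of_open_subgroup j
  obtain ⟨F, hF⟩ := (AlgebraicGeometry.IsClosedImmersion.isAffine_surjective_of_isAffine (f := j.left)).2 f₀
  obtain ⟨e, he⟩ := exists_indicator j (InvRing21.isClosed_range j)
  obtain ⟨s, hs⟩ := exists_finite_cosets j
  suffices key : ∀ t : Finset (VecGrp.pt k k ⟶ H), ∃ f : Γ(H.left, ⊤), ∀ (h : VecGrp.pt k k ⟶ H)
      (x : VecGrp.pt k k ⟶ U), (∃ c ∈ t, ∃ y, y ≫ j = c * h) → val (h * (x ≫ u ≫ j)) f = val h f + α x by
    obtain ⟨f, hf⟩ := key s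
    exact ⟨f, fun h x => hf h x (hs h)⟩
  intro t
  induction t using Finset.induction_on with
  | empty => exact ⟨0, fun h x hc => by obtain ⟨c, hc, -⟩ := hc; exact absurd hc (Finset.notMem_empty c)⟩
  | insert c t _ ih =>
    obtain ⟨f, hf⟩ := ih
    let E := (lTr c).left.appTop e
    refine ⟨E * (lTr c).left.appTop F + (1 - E) * f, fun h x hc => ?_⟩
    have hiff : (∃ y, y ≫ j = c * (h * (x ≫ u ≫ j))) ↔ ∃ y, y ≫ j = c * h := by
      constructor
      · rintro ⟨y, hy⟩
        refine ⟨y * (x ≫ u)⁻¹, ?_⟩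
        rw [MonObj.mul_comp, GrpObj.inv_comp, hy, Category.assoc]
        group
      · rintro ⟨y, hy⟩
        exact ⟨y * (x ≫ u), by rw [MonObj.mul_comp, hy, Category.assoc, _root_.mul_assoc]⟩
    simp only [E, map_add, map_mul, map_sub, map_one, val_lTr]
    by_cases hy : ∃ y, y ≫ j = c * h
    · rw [(he _).1 (hiff.2 hy), (he _).1 hy]
      obtain ⟨y, hy⟩ := hy
      have e1 : ∀ z : VecGrp.pt k k ⟶ H₀, val (z ≫ j) F = val z f₀ := fun z => by rw [← appTop_val, hF]
      rw [show c * (h * (x ≫ u ≫ j)) = (y * (x ≫ u)) ≫ j by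
        rw [MonObj.mul_comp, hy, Category.assoc, _root_.mul_assoc], ← hy, e1, e1, h₀]
      ring
    · rw [(he _).2 (mt hiff.1 hy), (he _).2 hy]
      obtain ⟨c', hc', hy'⟩ := hc
      rcases Finset.mem_insert.1 hc' with rfl | hc'
      · exact absurd hy' hy
      · rw [hf h x ⟨c', hc', hy'⟩]
        ring

end Groth.Agent.TorPts21
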