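import Groth.Agent.Lib.TorPts21.RadicalImage

/-!
# Homomorphisms from reductive groups to the additive group
-/

set_option autoImplicit false
set_option maxHeartbeats 400000
set_option linter.style.haveILetI false
set_option backward.isDefEq.respectTransparency.types false
universe u

open CategoryTheory Limits MonoidalCategory CartesianMonoidalCategory MonObj AlgebraicGeometry

noncomputable section

namespace Groth.Agent.TorPts21

attribute [local instance] InvRing21.gamAlg

variable {k K : Type u} [Field k] [Field K] [IsAlgClosed K] {G : Over (Spec (CommRingCat.of k))} [GrpObj G]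

/-- A group reductive after extension of the base field has no non-zero homomorphism to the additive group. -/
theorem gaFn_eq_zero_of_bc (ψ : Spec (CommRingCat.of K) ⟶ Spec (CommRingCat.of k))
    (hG : Red.IsReductiveOver K (Red.bc ψ G)) (φ : G ⟶ Red.Ga (Spec (CommRingCat.of k))) [IsMonHom φ] :
    Red.gaFn φ = 0 := by
  obtain ⟨hba, hbs, hbc, -⟩ := id hG
  haveI := hba
  haveI := hbs
  haveI := hbc
  let π : (Red.bc ψ G).left ⟶ G.left := pullback.fst G.hom ψ
  have hfl : ∀ {W : Over (Spec (CommRingCat.of K))} (x : W ⟶ Red.bc ψ G), (DiagGL.fl ψ G x).left = x.left ≫ π :=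
    fun {W} x => rfl
  have hF0 : π.appTop (Red.gaFn φ) = 0 := by
    refine eq_zero_of_additive hG _ fun x y => ?_
    have h : ∀ {W : Over (Spec (CommRingCat.of K))} (z : W ⟶ Red.bc ψ G),
        (show Γ(W.left, ⊤) from z.left.appTop (π.appTop (Red.gaFn φ))) =
          Red.gaFn (DiagGL.fl ψ G z ≫ φ) := fun {W} z => by
      rw [GaPts.gaFn_comp]
      show (z.left.appTop (π.appTop (Red.gaFn φ))) = _
      rw [← CommRingCat.comp_apply, ← Scheme.Hom.comp_appTop]
      rfl
    have hxy := congrArg (fun q => (show Γ((VecGrp.pt K K).left, ⊤) from q))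
      ((h (x * y)).trans ((congrArg Red.gaFn (by rw [DiagGL.fl_mul, MonObj.mul_comp])).trans
        ((GaPts.gaFn_mul _ _).trans (congrArg₂ (· + ·) (h x).symm (h y).symm))))
    exact (congrArg (InvRing21.ptHom (k := K) K) hxy).trans (map_add _ _ _)
  haveI : Surjective ψ := ⟨fun z => ⟨IsLocalRing.closedPoint _, Subsingleton.elim _ _⟩⟩
  haveI : Flat ψ := inferInstance
  haveI : IsAffineHom ψ := isAffineHom_of_isAffine _
  haveI : Flat π := inferInstanceAs (Flat (pullback.fst G.hom ψ))
  haveI : Surjective π := inferInstanceAs (Surjective (pullback.fst G.hom ψ))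
  haveI : QuasiCompact π := inferInstanceAs (QuasiCompact (pullback.fst G.hom ψ))
  haveI : IsSchemeTheoreticallyDominant π := inferInstance
  exact π.app_injective ⊤ (hF0.trans (map_zero _).symm)

end Groth.Agent.TorPts21
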