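import Groth.Agent.Lib.InvRing21.Semi
import Groth.Agent.Lib.InvRing21.Points
import Groth.Prelude.Def_W4bk4grossh111Obs
import Mathlib.RingTheory.MvPolynomial.Basic
import Mathlib.RingTheory.TensorProduct.MvPolynomial
import Mathlib.Algebra.Polynomial.Roots

/-!
# Linear substitution actions on polynomial rings, and closed orbits in the presence of separating invariants
-/

set_option autoImplicit false
set_option linter.style.haveILetI false
set_option backward.isDefEq.respectTransparency.types false
universe u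

open CategoryTheory MonoidalCategory CartesianMonoidalCategory MonObj AlgebraicGeometry
open scoped TensorProduct

noncomputable section

namespace Groth.Agent.TorPts21

open InvRing21

attribute [local instance] InvRing21.gamAlg

variable {k : Type u} [Field k] {G : Over (Spec (CommRingCat.of k))} [GrpObj G] [IsAffine G.left]

/-- Coordinates of a subspace stable under the rational points. -/
theorem exists_coords_of_pts [IsAlgClosed k] [Smooth G.hom] {M : Type u} [AddCommGroup M] [Module k M]
    (ρ : VecGrp.GMod G M) (W : Submodule k M) [Module.Finite k W]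
    (hW : ∀ g : VecGrp.pt k k ⟶ G, ∀ w ∈ W, ∃ w' ∈ W, ρ.ρ k g (1 ⊗ₜ[k] w) = 1 ⊗ₜ[k] w')
    {n : ℕ} (e : Module.Basis (Fin n) k W) :
    ∃ ξ : Fin n → Module.Dual k M, (∀ a b, ξ a (e b : M) = if a = b then 1 else 0) ∧
      (∀ w ∈ W, w = ∑ a, ξ a w • (e a : M)) ∧
      ∀ b (B : Type u) [CommRing B] [Algebra k B] (p : VecGrp.pt k B ⟶ G),
        ρ.ρ B p (1 ⊗ₜ[k] (e b : M)) = ∑ a, val p (coef ρ (ξ a) (e b)) ⊗ₜ[k] (e a : M) := by
  classical
  obtain ⟨P, hP⟩ := LinearMap.exists_leftInverse_of_injective W.subtype W.ker_subtype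
  have hPw : ∀ w : W, P w = w := fun w => LinearMap.congr_fun hP w
  let ξ : Fin n → Module.Dual k M := fun a => e.coord a ∘ₗ P
  have hξe : ∀ w ∈ W, w = ∑ a, ξ a w • (e a : M) := fun w hw => by
    have := congrArg W.subtype (e.sum_repr ⟨w, hw⟩)
    simp only [map_sum, map_smul, Submodule.subtype_apply] at this
    simpa [ξ, hPw ⟨w, hw⟩] using this.symm
  refine ⟨ξ, fun a b => ?_, hξe, fun b B _ _ p => ?_⟩
  · simp only [ξ, LinearMap.comp_apply, hPw, Module.Basis.coord_apply, Module.Basis.repr_self, Finsupp.single_apply]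
    exact if_congr eq_comm rfl rfl
  · refine eq_of_ctr_eq fun ζ => ?_
    rw [map_sum, ctr_rho]
    simp only [ctr_tmul]
    have hc : coef ρ ζ (e b : M) = ∑ a, ζ (e a : M) • coef ρ (ξ a) (e b : M) := by
      refine ext_val fun g => ?_
      obtain ⟨w', hw', hgw⟩ := hW g (e b : M) (e b).2
      simp only [map_sum, map_smul, ← ctr_rho, hgw, ctr_tmul, smul_eq_mul, _root_.mul_one]
      conv_lhs => rw [hξe w' hw']
      simp [map_sum, _root_.mul_comm]
    rw [hc, map_sum]
    simp only [map_smul]

variable {n : ℕ} (M : Matrix (Fin n) (Fin n) Γ(G.left, ⊤))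

/-- The substitution attached to a point of the group. -/
def substHom {B : Type u} [CommRing B] [Algebra k B] (p : VecGrp.pt k B ⟶ G) :
    B ⊗[k] MvPolynomial (Fin n) k →ₐ[B] B ⊗[k] MvPolynomial (Fin n) k :=
  Algebra.TensorProduct.lift (Algebra.ofId B _)
    (MvPolynomial.aeval fun b => ∑ a, val p (M a b) ⊗ₜ[k] MvPolynomial.X a) fun _ _ => Commute.all _ _

theorem substHom_tmul {B : Type u} [CommRing B] [Algebra k B] (p : VecGrp.pt k B ⟶ G) (c : B)
    (F : MvPolynomial (Fin n) k) : substHom M p (c ⊗ₜ[k] F) = (c ⊗ₜ[k] (1 : MvPolynomial (Fin n) k)) *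
      MvPolynomial.aeval (fun b => ∑ a, val p (M a b) ⊗ₜ[k] (MvPolynomial.X a : MvPolynomial (Fin n) k)) F := by
  rw [substHom, Algebra.TensorProduct.lift_tmul]
  rfl

theorem substHom_ext {B : Type u} [CommRing B] [Algebra k B]
    {f g : B ⊗[k] MvPolynomial (Fin n) k →ₐ[B] B ⊗[k] MvPolynomial (Fin n) k}
    (h : ∀ b, f ((1 : B) ⊗ₜ[k] MvPolynomial.X b) = g ((1 : B) ⊗ₜ[k] MvPolynomial.X b)) : f = g :=
  Algebra.TensorProduct.ext (AlgHom.ext fun c => (f.commutes c).trans (g.commutes c).symm)
    (MvPolynomial.algHom_ext h)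

theorem substHom_X {B : Type u} [CommRing B] [Algebra k B] (p : VecGrp.pt k B ⟶ G) (b : Fin n) :
    substHom M p ((1 : B) ⊗ₜ[k] MvPolynomial.X b) =
      ∑ a, val p (M a b) ⊗ₜ[k] (MvPolynomial.X a : MvPolynomial (Fin n) k) := by
  rw [substHom_tmul, MvPolynomial.aeval_X, ← Algebra.TensorProduct.one_def, _root_.one_mul]

variable {M}
variable (hmul : ∀ {B : Type u} [CommRing B] [Algebra k B] (p q : VecGrp.pt k B ⟶ G) (a b : Fin n),
    val (p * q) (M a b) = ∑ l, val p (M a l) * val q (M l b))
  (hone : ∀ {B : Type u} [CommRing B] [Algebra k B] (a b : Fin n),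
    val (1 : VecGrp.pt k B ⟶ G) (M a b) = if a = b then 1 else 0)

include hmul in
theorem substHom_mul {B : Type u} [CommRing B] [Algebra k B] (p q : VecGrp.pt k B ⟶ G) :
    substHom M (p * q) = (substHom M p).comp (substHom M q) := by
  refine substHom_ext fun b => ?_
  rw [AlgHom.comp_apply, substHom_X, substHom_X, map_sum]
  calc ∑ a, val (p * q) (M a b) ⊗ₜ[k] (MvPolynomial.X a : MvPolynomial (Fin n) k)
      = ∑ a, ∑ l, (val p (M a l) * val q (M l b)) ⊗ₜ[k] (MvPolynomial.X a : MvPolynomial (Fin n) k) := by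
        simp only [hmul, TensorProduct.sum_tmul]
    _ = ∑ l, substHom M p (val q (M l b) ⊗ₜ[k] MvPolynomial.X l) := by
        rw [Finset.sum_comm]
        refine Finset.sum_congr rfl fun l _ => ?_
        rw [substHom_tmul, MvPolynomial.aeval_X, Finset.mul_sum]
        exact Finset.sum_congr rfl fun a _ => by
          rw [Algebra.TensorProduct.tmul_mul_tmul, _root_.one_mul, _root_.mul_comm (val p (M a l))]

include hone in
theorem substHom_one {B : Type u} [CommRing B] [Algebra k B] :
    substHom M (1 : VecGrp.pt k B ⟶ G) = AlgHom.id B _ := by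
  refine substHom_ext fun b => ?_
  rw [substHom_X, AlgHom.id_apply, Finset.sum_eq_single b]
  · rw [hone, if_pos rfl]
  · intro a _ hab
    rw [hone, if_neg hab, TensorProduct.zero_tmul]
  · intro hb
    exact absurd (Finset.mem_univ b) hb

/-- The substitution as an automorphism. -/
def substEquiv {B : Type u} [CommRing B] [Algebra k B] (p : VecGrp.pt k B ⟶ G) :
    B ⊗[k] MvPolynomial (Fin n) k ≃ₐ[B] B ⊗[k] MvPolynomial (Fin n) k :=
  AlgEquiv.ofAlgHom (substHom M p) (substHom M p⁻¹)
    (by rw [← substHom_mul hmul, mul_inv_cancel, substHom_one hone])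
    (by rw [← substHom_mul hmul, inv_mul_cancel, substHom_one hone])

/-- The linear substitution action on a polynomial ring. -/
def linSym : VecGrp.GMod G (MvPolynomial (Fin n) k) where
  ρ B _ _ :=
    { toFun := fun p => (substEquiv hmul hone p).toLinearEquiv
      map_one' := LinearEquiv.ext fun x => DFunLike.congr_fun (substHom_one hone (B := B)) x
      map_mul' := fun p q => LinearEquiv.ext fun x => DFunLike.congr_fun (substHom_mul hmul p q) x }
  naturality {B B'} _ _ _ _ φ p x := by
    show VecGrp.Wmap φ (substHom M p x) = substHom M (VecGrp.ptMap φ ≫ p) (VecGrp.Wmap φ x)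
    let Φ : B ⊗[k] MvPolynomial (Fin n) k →ₐ[k] B' ⊗[k] MvPolynomial (Fin n) k :=
      Algebra.TensorProduct.map φ (AlgHom.id k _)
    have hΦ : ∀ z, VecGrp.Wmap φ z = Φ z := fun z => by
      induction z using TensorProduct.induction_on with
      | zero => simp
      | tmul b F => rfl
      | add x y hx hy => simp only [map_add, hx, hy]
    induction x using TensorProduct.induction_on with
    | zero => simp
    | add x y hx hy => simp only [map_add, hx, hy]
    | tmul c F =>
      rw [VecGrp.Wmap_tmul, substHom_tmul, substHom_tmul, hΦ, map_mul, Algebra.TensorProduct.map_tmul,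
        AlgHom.id_apply, ← AlgHom.comp_apply]
      congr 2
      refine MvPolynomial.algHom_ext fun b => ?_
      rw [AlgHom.comp_apply, MvPolynomial.aeval_X, MvPolynomial.aeval_X, map_sum]
      exact Finset.sum_congr rfl fun a _ => by
        rw [Algebra.TensorProduct.map_tmul, AlgHom.id_apply, val_ptMap]
        rfl

theorem linSym_isMult : (linSym hmul hone).IsMult := fun B _ _ p =>
  ⟨fun x y => map_mul (substHom M p) x y, map_one (substHom M p)⟩

/-- Evaluation at a vector. -/
def evalVec (B : Type u) [CommRing B] [Algebra k B] (v : Fin n → k) : B ⊗[k] MvPolynomial (Fin n) k →ₐ[B] B :=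
  Algebra.TensorProduct.lift (AlgHom.id B B) ((Algebra.ofId k B).comp (MvPolynomial.aeval v))
    fun _ _ => Commute.all _ _

theorem evalVec_tmul {B : Type u} [CommRing B] [Algebra k B] (v : Fin n → k) (c : B) (F : MvPolynomial (Fin n) k) :
    evalVec B v (c ⊗ₜ[k] F) = c * algebraMap k B (MvPolynomial.aeval v F) := by
  rw [evalVec, Algebra.TensorProduct.lift_tmul]
  rfl

theorem evalVec_substHom {B : Type u} [CommRing B] [Algebra k B] (p : VecGrp.pt k B ⟶ G) (v v' : Fin n → k)
    (h : ∀ b, ∑ a, val p (M a b) * algebraMap k B (v a) = algebraMap k B (v' b)) (F : MvPolynomial (Fin n) k) :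
    evalVec B v (substHom M p (1 ⊗ₜ[k] F)) = algebraMap k B (MvPolynomial.aeval v' F) := by
  rw [substHom_tmul, ← Algebra.TensorProduct.one_def, _root_.one_mul]
  refine DFunLike.congr_fun (f := ((evalVec B v).restrictScalars k).comp (MvPolynomial.aeval _))
    (g := (Algebra.ofId k B).comp (MvPolynomial.aeval v')) ?_ F
  refine MvPolynomial.algHom_ext fun b => ?_
  rw [AlgHom.comp_apply, MvPolynomial.aeval_X, AlgHom.restrictScalars_apply, map_sum, AlgHom.comp_apply,
    MvPolynomial.aeval_X, Algebra.ofId_apply, ← h b]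
  exact Finset.sum_congr rfl fun a _ => by rw [evalVec_tmul, MvPolynomial.aeval_X]

/-- Membership in the base change of the ideal of a point. -/
theorem mem_baseChange_ker {B : Type u} [CommRing B] [Algebra k B] (v : Fin n → k)
    (z : B ⊗[k] MvPolynomial (Fin n) k) :
    z - evalVec B v z ⊗ₜ[k] (1 : MvPolynomial (Fin n) k) ∈
      ((RingHom.ker (MvPolynomial.aeval v : MvPolynomial (Fin n) k →ₐ[k] k)).restrictScalars k).baseChange B := by
  induction z using TensorProduct.induction_on with
  | zero => simp
  | add x y hx hy =>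
    rw [map_add, TensorProduct.add_tmul, add_sub_add_comm]
    exact add_mem hx hy
  | tmul c F =>
    rw [evalVec_tmul, _root_.mul_comm, ← Algebra.smul_def, TensorProduct.smul_tmul,
      ← TensorProduct.tmul_sub]
    refine Submodule.tmul_mem_baseChange_of_mem c ?_
    rw [Submodule.restrictScalars_mem, RingHom.mem_ker, Algebra.smul_def, map_sub, map_mul, map_one, AlgHom.commutes]
    simp

variable [IsAlgClosed k] [Smooth G.hom]

include hmul hone in
/-- With separating invariants no orbit contains an infinite piece of a line in the direction of a fixed vector. -/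
theorem false_of_orbit_line (hG : VecGrp.IsReductiveGrp k G) (thmAbiv : AGF.ReductiveQuotSeparates k)
    (e c : Fin n → k) (hc : c ≠ 0) (hcfix : ∀ (g : VecGrp.pt k k ⟶ G) b, ∑ a, val g (M a b) * c a = c b)
    (S : Set k) (hS : S.Infinite)
    (horb : ∀ t ∈ S, ∃ g : VecGrp.pt k k ⟶ G, ∀ b, ∑ a, val g (M a b) * e a = e b + t * c b) : False := by
  let ρ := linSym hmul hone
  let I : (Fin n → k) → Ideal (MvPolynomial (Fin n) k) := fun v =>
    RingHom.ker (MvPolynomial.aeval v : MvPolynomial (Fin n) k →ₐ[k] k)
  have hrad : ∀ v, (I v).IsRadical := fun v F hF => by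
    obtain ⟨m, hm⟩ := hF
    rw [RingHom.mem_ker, map_pow] at hm
    exact eq_zero_of_pow_eq_zero hm
  have hst : ∀ v : Fin n → k, (∀ (g : VecGrp.pt k k ⟶ G) b, ∑ a, val g (M a b) * v a = v b) →
      ρ.IsStable (𝟙 G) ((I v).restrictScalars k) := by
    intro v hv B _ _ p F hF
    rw [Category.comp_id]
    have hfun : ∀ b, ∑ a, M a b * algebraMap k _ (v a) = algebraMap k Γ(G.left, ⊤) (v b) := fun b =>
      ext_val fun g => by simp [map_sum, map_mul, hv g b]
    have h0 : evalVec B v (substHom M p (1 ⊗ₜ[k] F)) = 0 := by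
      rw [evalVec_substHom p v v (fun b => by
        have := congrArg (val p) (hfun b)
        simpa [map_sum, map_mul] using this),
        show MvPolynomial.aeval v F = 0 from hF, map_zero]
    have := mem_baseChange_ker (B := B) v (substHom M p (1 ⊗ₜ[k] F))
    rwa [h0, TensorProduct.zero_tmul, sub_zero] at this
  have hsup : I 0 ⊔ I c = ⊤ := by
    obtain ⟨b, hb⟩ := Function.ne_iff.1 hc
    rw [Ideal.eq_top_iff_one]
    refine Submodule.mem_sup.2 ⟨MvPolynomial.C (c b)⁻¹ * MvPolynomial.X b, ?_,
      1 - MvPolynomial.C (c b)⁻¹ * MvPolynomial.X b, ?_, add_sub_cancel _ _⟩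
    · simp [I, RingHom.mem_ker]
    · simp only [I, RingHom.mem_ker, map_sub, map_one, map_mul, MvPolynomial.aeval_C, MvPolynomial.aeval_X,
        Algebra.algebraMap_self, RingHom.id_apply]
      rw [inv_mul_cancel₀ hb, sub_self]
  have hfix := thmAbiv G hG (MvPolynomial (Fin n) k) ρ (linSym_isMult hmul hone) inferInstance (I 0) (I c)
    (hrad 0) (hrad c) (hst 0 fun g b => by simp) (hst c hcfix) hsup
  obtain ⟨f₁, hf₁, f₂, hf₂, hf⟩ := Submodule.mem_sup.1
    (hfix ▸ Submodule.mem_top : (1 : ↥(ρ.fixedSubalgebra (linSym_isMult hmul hone) (𝟙 G))) ∈ _)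
  let F := f₁.1
  have hF0 : MvPolynomial.aeval (0 : Fin n → k) F = 0 := hf₁
  have hFc : MvPolynomial.aeval c F = 1 := by
    have := congrArg (fun z : ↥(ρ.fixedSubalgebra (linSym_isMult hmul hone) (𝟙 G)) => MvPolynomial.aeval c z.1) hf
    simp only [Subalgebra.coe_add, Subalgebra.coe_one, map_add, map_one,
      show MvPolynomial.aeval c f₂.1 = 0 from hf₂, add_zero] at this
    exact this
  -- invariance
  have hinv : ∀ (g : VecGrp.pt k k ⟶ G) (v v' : Fin n → k), (∀ b, ∑ a, val g (M a b) * v a = v' b) →
      MvPolynomial.aeval v F = MvPolynomial.aeval v' F := by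
    intro g v v' h
    have h1 : substHom M g ((1 : k) ⊗ₜ[k] F) = (1 : k) ⊗ₜ[k] F := by
      have := f₁.2 k g
      rwa [Category.comp_id] at this
    have h2 := evalVec_substHom g v v' (fun b => by simpa using h b) F
    rw [h1, evalVec_tmul] at h2
    simpa using h2
  -- lines
  have hline : ∀ s r : k, s ≠ 0 →
      MvPolynomial.aeval (fun b => s * e b + r * c b) F = MvPolynomial.aeval (fun b => s * e b) F := by
    intro s r hs
    let P : Polynomial k := MvPolynomial.aeval (fun b => Polynomial.C (s * e b) + Polynomial.X * Polynomial.C (c b)) F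
    have hP : ∀ t : k, P.eval t = MvPolynomial.aeval (fun b => s * e b + t * c b) F := fun t => by
      show Polynomial.evalRingHom t (MvPolynomial.aeval _ F) = _
      rw [MvPolynomial.aeval_def, MvPolynomial.eval₂_comp_left, MvPolynomial.aeval_def]
      congr 1
      · exact RingHom.ext fun x => by simp
      · funext b
        simp only [Function.comp_apply, map_add, map_mul, Polynomial.coe_evalRingHom, Polynomial.eval_add, Polynomial.eval_mul, Polynomial.eval_C, Polynomial.eval_X]
    have hroot : (S.image (s * ·)) ⊆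
        {t | (P - Polynomial.C (MvPolynomial.aeval (fun b => s * e b) F)).IsRoot t} := by
      rintro _ ⟨t, ht, rfl⟩
      obtain ⟨g, hg⟩ := horb t ht
      rw [Set.mem_setOf_eq, Polynomial.IsRoot.def, Polynomial.eval_sub, Polynomial.eval_C, hP, sub_eq_zero]
      refine (hinv g _ _ fun b => ?_).symm
      calc ∑ a, val g (M a b) * (s * e a) = s * ∑ a, val g (M a b) * e a := by
            rw [Finset.mul_sum]; exact Finset.sum_congr rfl fun a _ => by ring
        _ = s * e b + s * t * c b := by rw [hg b]; ring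
    have h0 := Polynomial.eq_zero_of_infinite_isRoot _
      ((hS.image (mul_right_injective₀ hs).injOn).mono hroot)
    rw [← hP r, sub_eq_zero.1 h0, Polynomial.eval_C]
  let Q : k → Polynomial k := fun r =>
    MvPolynomial.aeval (fun b => Polynomial.X * Polynomial.C (e b) + Polynomial.C (r * c b)) F
  have hQ : ∀ r s, (Q r).eval s = MvPolynomial.aeval (fun b => s * e b + r * c b) F := fun r s => by
    show Polynomial.evalRingHom s (MvPolynomial.aeval _ F) = _
    rw [MvPolynomial.aeval_def, MvPolynomial.eval₂_comp_left, MvPolynomial.aeval_def]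
    congr 1
    · exact RingHom.ext fun x => by simp
    · funext b
      simp only [Function.comp_apply, map_add, map_mul, Polynomial.coe_evalRingHom, Polynomial.eval_add, Polynomial.eval_mul, Polynomial.eval_C, Polynomial.eval_X]
  have h10 : Q 1 = Q 0 := by
    refine sub_eq_zero.1 (Polynomial.eq_zero_of_infinite_isRoot _ ((Set.finite_singleton (0 : k)).infinite_compl.mono ?_))
    intro s hs
    rw [Set.mem_setOf_eq, Polynomial.IsRoot.def, Polynomial.eval_sub, hQ, hQ, hline s 1 hs, sub_eq_zero]
    simp
  have := congrArg (Polynomial.eval 0) h10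
  rw [hQ, hQ] at this
  simp only [zero_mul, zero_add, _root_.one_mul] at this
  rw [show (fun b => c b) = c from rfl, hFc, show (fun _ : Fin n => (0 : k)) = 0 from rfl, hF0] at this
  exact one_ne_zero this

end Groth.Agent.TorPts21
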