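import Groth.Agent.Lib.TorPts21.Mtx
import Groth.Agent.Lib.InvRing21.Line
import Groth.Agent.Lib.GrassAct21.Embed
import Groth.Agent.Lib.TorsorSch25.ExactPts

/-!
# Chevalley's line as an orbit in a matrix representation
-/

set_option autoImplicit false
set_option linter.style.haveILetI false
set_option backward.isDefEq.respectTransparency.types false
universe u

open CategoryTheory MonoidalCategory CartesianMonoidalCategory MonObj AlgebraicGeometry

noncomputable section

namespace Groth.Agent.TorPts21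

open InvRing21

attribute [local instance] InvRing21.gamAlg

variable {k : Type u} [Field k] [IsAlgClosed k] {G H : Over (Spec (CommRingCat.of k))} [GrpObj G] [GrpObj H]
  [IsAffine G.left] [Smooth G.hom]

/-- A matrix of functions multiplicative on rational points is a representation. -/
theorem exists_hom_of_matrix {m : ℕ} (M : Matrix (Fin m) (Fin m) Γ(G.left, ⊤))
    (hmul : ∀ x y : VecGrp.pt k k ⟶ G, M.map (val (x * y)) = M.map (val x) * M.map (val y))
    (hone : M.map (val (1 : VecGrp.pt k k ⟶ G)) = 1) :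
    ∃ (r : G ⟶ GLs k m) (_ : IsMonHom r), ∀ x : VecGrp.pt k k ⟶ G,
      (mtx r x : Matrix (Fin m) (Fin m) k) = M.map (val x) := by
  classical
  haveI : Smooth (G ⊗ G).hom := inferInstanceAs (Smooth (Limits.pullback.fst G.hom G.hom ≫ G.hom))
  haveI : IsAffine (G ⊗ G).left := inferInstanceAs (IsAffine (Limits.pullback G.hom G.hom))
  let R : ∀ {T : Over (Spec (CommRingCat.of k))}, (T ⟶ G) → Matrix (Fin m) (Fin m) Γ(T.left, ⊤) :=
    fun x => M.map x.left.appTop
  have hnat : ∀ {T T' : Over (Spec (CommRingCat.of k))} (t : T' ⟶ T) (x : T ⟶ G),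
      R (t ≫ x) = (R x).map t.left.appTop := fun t x => by
    ext a b
    simp [R]
  have hu : R (fst G G * snd G G) = R (fst G G) * R (snd G G) := by
    ext a b
    refine ext_val fun w => ?_
    have h := congrFun (congrFun (hmul (w ≫ fst G G) (w ≫ snd G G)) a) b
    simp only [R, Matrix.map_apply, Matrix.mul_apply, map_sum, map_mul, appTop_val, MonObj.comp_mul] at h ⊢
    exact h
  have hmulR : ∀ {T : Over (Spec (CommRingCat.of k))} (x y : T ⟶ G), R (x * y) = R x * R y := fun {T} x y => by
    have h := congrArg (fun A => A.map (lift x y).left.appTop) hu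
    simp only [Matrix.map_mul, ← hnat, MonObj.comp_mul, lift_fst, lift_snd] at h
    exact h
  have honeR : ∀ T : Over (Spec (CommRingCat.of k)), R (1 : T ⟶ G) = 1 := fun T => by
    have h : R (1 : VecGrp.pt k k ⟶ G) = 1 := by
      ext a b
      haveI : Smooth (VecGrp.pt k k).hom := by
        show Smooth (Spec.map (CommRingCat.ofHom (algebraMap k k)))
        rw [show CommRingCat.ofHom (algebraMap k k) = 𝟙 _ from rfl, Spec.map_id]
        infer_instance
      haveI : IsAffine (VecGrp.pt k k).left := inferInstanceAs (IsAffine (Spec (CommRingCat.of k)))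
      refine ext_val fun w => ?_
      have h1 := congrFun (congrFun hone a) b
      simp only [R, Matrix.map_apply, appTop_val, MonObj.comp_one] at h1 ⊢
      rw [h1, Matrix.one_apply, Matrix.one_apply]
      split_ifs <;> simp
    rw [show (1 : T ⟶ G) = toPt T ≫ 1 from (MonObj.comp_one _).symm, hnat, h,
      Matrix.map_one _ (map_zero _) (map_one _)]
  let Mt : DiagGL.Mats m (GLs k m) := DiagGL.matsGLn k m
  obtain ⟨r, hr⟩ := Mt.surj (T := G) (A := R (𝟙 G))
    (IsUnit.of_mul_eq_one (R (𝟙 G)⁻¹) (by rw [← hmulR, mul_inv_cancel, honeR]))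
  have hall : ∀ {T : Over (Spec (CommRingCat.of k))} (x : T ⟶ G), Mt.mat (x ≫ r) = R x := fun {T} x => by
    rw [Mt.nat, hr, ← hnat, Category.comp_id]
  haveI hrm : IsMonHom r := TorsorSch25.isMonHom_of_points r fun T x y => Mt.inj (by
    rw [Mt.mul, hall, hall, hall, hmulR])
  refine ⟨r, hrm, fun x => ?_⟩
  rw [mtx_apply, coe_mtxFn, mtxMat, show DiagGL.mat (x ≫ r) = _ from hall x]
  rfl

set_option maxHeartbeats 800000 in
/-- A subgroup is the stabiliser of a line in a representation, seen through the functions given by its orbit. -/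
theorem exists_lineRep (i : H ⟶ G) [Smooth H.hom] [IsClosedImmersion i.left] [IsMonHom i] :
    ∃ (m : ℕ) (r : G ⟶ GLs k m) (_ : IsMonHom r) (c : Fin m → Γ(G.left, ⊤))
      (χ : H ⟶ Red.Gm (Spec (CommRingCat.of k))), IsMonHom χ ∧
      (∀ a, Semi i (fun h => val h (Red.gmFn χ)) (c a)) ∧
      (∀ (g x : VecGrp.pt k k ⟶ G) a, val (g * x) (c a) =
        ∑ b, (mtx r g : Matrix (Fin m) (Fin m) k) a b * val x (c b)) ∧
      (∀ x : VecGrp.pt k k ⟶ G, ∃ a, val x (c a) ≠ 0) ∧
      ∀ g : VecGrp.pt k k ⟶ G,
        (∀ a b, val g (c a) * val (1 : VecGrp.pt k k ⟶ G) (c b) = val g (c b) * val (1 : VecGrp.pt k k ⟶ G) (c a)) →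
        ∃ y : VecGrp.pt k k ⟶ H, y ≫ i = g := by
  classical
  haveI : IsAffine H.left := isAffine_of_isAffineHom i.left
  haveI := finiteType_gam G
  haveI : IsNoetherianRing Γ(G.left, ⊤) := Algebra.FiniteType.isNoetherianRing k _
  obtain ⟨s, hs⟩ : (RingHom.ker (appAlg i)).FG := IsNoetherian.noetherian _
  obtain ⟨d, l, A, hA⟩ := exists_adapted i s
  obtain ⟨χ, hχ, hu⟩ := A.exists_char_det
  let P := Fin d → Fin d ⊕ Fin l
  let e : Fin (Fintype.card P) ≃ P := (Fintype.equivFin P).symm
  let M : Matrix (Fin (Fintype.card P)) (Fin (Fintype.card P)) Γ(G.left, ⊤) :=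
    Matrix.of fun a b => Chevalley.kpow A.Y d (e a) (e b)
  have hM : ∀ x : VecGrp.pt k k ⟶ G, M.map (val x) =
      Matrix.of fun a b => Chevalley.kpow (A.at' x) d (e a) (e b) := fun x => by
    ext a b
    simp [M, Chevalley.kpow, Adapted.at']
  obtain ⟨r, hr, hrM⟩ := exists_hom_of_matrix M (fun x y => by
    rw [hM, hM, hM, A.mul_at', Chevalley.kpow_mul]
    ext a b
    simp only [Matrix.of_apply, Matrix.mul_apply]
    exact (e.sum_comp (fun p => Chevalley.kpow (A.at' x) d (e a) p * Chevalley.kpow (A.at' y) d p (e b))).symm) (by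
    rw [hM, Adapted.at'_one, Chevalley.kpow_one]
    ext a b
    simp [Matrix.one_apply])
  haveI := hr
  let c₀ : P → Γ(G.left, ⊤) := fun I => (A.Y.submatrix I Sum.inl).det
  have hc : ∀ (z : VecGrp.pt k k ⟶ G) J, val z (c₀ J) = Chevalley.moved (Chevalley.kpow (A.at' z) d)
      (Chevalley.wedge (k := k)) J := fun z J => by
    rw [Chevalley.moved_kpow_wedge, AlgHom.map_det]
    rfl
  have hone : ∀ J, val (1 : VecGrp.pt k k ⟶ G) (c₀ J) = Chevalley.wedge (k := k) J := fun J => by
    rw [AlgHom.map_det]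
    show ((A.at' 1).submatrix J Sum.inl).det = _
    rw [Adapted.at'_one]
    rfl
  have key : ∀ (g z : VecGrp.pt k k ⟶ G) a, val (g * z) (c₀ (e a)) =
      ∑ b, (mtx r g : Matrix _ _ k) a b * val z (c₀ (e b)) := fun g z a => by
    simp only [hc]
    rw [A.mul_at', Chevalley.kpow_mul, Chevalley.moved_mul, hrM, hM]
    exact (e.sum_comp (fun p => Chevalley.kpow (A.at' g) d (e a) p *
      Chevalley.moved (Chevalley.kpow (A.at' z) d) (Chevalley.wedge (k := k)) p)).symm
  have h1 : val (1 : VecGrp.pt k k ⟶ G) (c₀ Sum.inl) = 1 := by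
    rw [AlgHom.map_det]
    show ((A.at' 1).submatrix Sum.inl Sum.inl).det = 1
    rw [Adapted.at'_one, Matrix.submatrix_one _ Sum.inl_injective, Matrix.det_one]
  have hne : ∀ x : VecGrp.pt k k ⟶ G, ∃ a, val x (c₀ (e a)) ≠ 0 := fun x => by
    by_contra! hx
    have := key x⁻¹ x (e.symm Sum.inl)
    rw [inv_mul_cancel, e.apply_symm_apply, h1] at this
    simp [hx] at this
  refine ⟨_, r, hr, fun a => c₀ (e a), χ, hχ, fun a x h => ?_, key, hne, fun g hg => ?_⟩
  · simp only [c₀, AlgHom.map_det, hu]
    rw [mul_comm]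
    exact A.det_submatrix_mul x h (e a)
  · have hg1 : ∀ I, val g (c₀ I) = val (1 : VecGrp.pt k k ⟶ G) (c₀ I) * val g (c₀ Sum.inl) := fun I => by
      have := hg (e.symm I) (e.symm Sum.inl)
      simp only [e.apply_symm_apply] at this
      rw [h1, _root_.mul_one] at this
      rw [this, mul_comm]
    have hg0 : val g (c₀ Sum.inl) ≠ 0 := fun h0 => by
      obtain ⟨a, ha⟩ := hne g
      exact ha (by rw [hg1, h0, mul_zero])
    have hblock : ∀ (j : Fin l) (a : Fin d), A.at' g (Sum.inr j) (Sum.inl a) = 0 := by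
      refine fun j a => Chevalley.block_of_moved (k := k) (Ne.isUnit hg0) (fun I => ?_) j a
      have := hg1 I
      rw [hone] at this
      rw [Algebra.algebraMap_self_apply, ← this, AlgHom.map_det]
      rfl
    refine exists_lift_pt g fun f hf => ?_
    have hf' : f ∈ RingHom.ker (appAlg i) := hf
    rw [← hs] at hf'
    refine (Ideal.span_le.2 fun b hb => ?_ : Ideal.span (s : Set Γ(G.left, ⊤)) ≤ RingHom.ker (val g)) hf'
    have hb0 : appAlg i b = 0 := by
      have : b ∈ RingHom.ker (appAlg i) := by rw [← hs]; exact Ideal.subset_span hb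
      exact this
    obtain ⟨γ, hγ⟩ := (Submodule.mem_span_range_iff_exists_fun k).1 (hA b hb)
    have hγr : (fun j => γ (Sum.inr j)) = 0 := A.indep _ fun h => by
      have := congrArg (fun z => val h z) hb0
      simp only [map_zero, appAlg_apply, appTop_val, ← hγ, map_sum, map_add, map_smul, Fintype.sum_sum_type, A.ker,
        smul_eq_mul, mul_zero, Finset.sum_const_zero, zero_add] at this
      exact this
    show val g b = 0
    rw [← hγ, map_sum, Fintype.sum_sum_type]
    have hker1 : ∀ a, val (1 : VecGrp.pt k k ⟶ G) (A.E (Sum.inl a)) = 0 := fun a => by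
      rw [← MonObj.one_comp i]; exact A.ker a 1
    simp only [map_smul, smul_eq_mul, show ∀ j, γ (Sum.inr j) = 0 from congrFun hγr, zero_mul,
      Finset.sum_const_zero, add_zero]
    refine Finset.sum_eq_zero fun a _ => ?_
    have := A.mul 1 g (Sum.inl a)
    rw [_root_.one_mul g, Fintype.sum_sum_type] at this
    simp only [hker1, mul_zero, Finset.sum_const_zero, zero_add,
      show ∀ j, val g (A.Y (Sum.inr j) (Sum.inl a)) = 0 from fun j => hblock j a, zero_mul] at this
    rw [this, mul_zero]

end Groth.Agent.TorPts21
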