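import Groth.Agent.Lib.BorelFix21.Pts
import Groth.Agent.Lib.DiagGL.Main
import Groth.Agent.Lib.MatGrp21.Zariski

/-!
# Rational points of a closed subgroup of the general linear group as a Zariski closed matrix group
-/

set_option autoImplicit false
set_option linter.style.haveILetI false
set_option backward.isDefEq.respectTransparency.types false
universe u

open CategoryTheory Limits MonoidalCategory CartesianMonoidalCategory MonObj AlgebraicGeometry

noncomputable section

namespace Groth.Agent.TorPts21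

open MatGrp21

variable {k : Type u} [Field k] {n : ℕ}

attribute [local instance] InvRing21.gamAlg BorelFix21.ptsTop

variable (k n) in
/-- The general linear group scheme. -/
abbrev GLs : Over (Spec (CommRingCat.of k)) := CoactBr.sp k (CoordGrp.GLn n k)

/-- Evaluation of coordinate functions at an invertible matrix. -/
def evalGL (g : GL (Fin n) k) : CoordGrp.GLn n k →ₐ[k] k :=
  CoordGrp.GLn.pt n k (g : Matrix (Fin n) (Fin n) k) (g : Matrix (Fin n) (Fin n) k).det⁻¹
    (mul_inv_cancel₀ (det_ne_zero g))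

theorem isReg_evalGL (a : CoordGrp.GLn n k) : IsReg fun g : GL (Fin n) k => evalGL g a := by
  obtain ⟨b, rfl⟩ := Ideal.Quotient.mk_surjective a
  let q : MvPolynomial (CoordGrp.GLPoly.Idx n) k := b
  show IsReg fun g : GL (Fin n) k => evalGL g (Ideal.Quotient.mk _ (q : CoordGrp.GLb n k))
  induction q using MvPolynomial.induction_on with
  | C c =>
    have : ∀ g : GL (Fin n) k, evalGL g (algebraMap k (CoordGrp.GLn n k) c) = c := fun g => (evalGL g).commutes c
    convert isReg_const (n := n) c using 1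
    funext g
    exact this g
  | add p q hp hq =>
    convert hp.add hq using 1
    funext g
    exact (congrArg (evalGL g) (map_add (Ideal.Quotient.mk (CoordGrp.GLb.relIdeal n k)) _ _)).trans (map_add _ _ _)
  | mul_X p s hp =>
    have hX : IsReg fun g : GL (Fin n) k =>
        evalGL g (Ideal.Quotient.mk _ (MvPolynomial.X s : MvPolynomial (CoordGrp.GLPoly.Idx n) k)) := by
      rcases s with ⟨i, j⟩ | ⟨⟩
      · convert isReg_entry (n := n) (k := k) i j using 1
        funext g
        exact CoordGrp.GLn.pt_X _ _ _ _ _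
      · refine ⟨1, 1, fun g => ?_⟩
        rw [map_one, pow_one]
        refine (congrArg (· * _) (CoordGrp.GLn.pt_Dinv _ _ _)).trans ?_
        exact inv_mul_cancel₀ (det_ne_zero g)
    convert hp.mul hX using 1
    funext g
    exact (congrArg (evalGL g) (map_mul (Ideal.Quotient.mk (CoordGrp.GLb.relIdeal n k)) _ _)).trans (map_mul _ _ _)

variable {G : Over (Spec (CommRingCat.of k))}

/-- The matrix of a rational point. -/
def mtxMat (r : G ⟶ GLs k n) (x : VecGrp.pt k k ⟶ G) : Matrix (Fin n) (Fin n) k :=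
  (DiagGL.mat (x ≫ r)).map (InvRing21.ptHom k)

theorem isUnit_mtxMat (r : G ⟶ GLs k n) (x : VecGrp.pt k k ⟶ G) : IsUnit (mtxMat r x) :=
  (DiagGL.mat_isUnit (x ≫ r)).map ((InvRing21.ptHom k).toRingHom.mapMatrix (m := Fin n))

/-- The matrix of a rational point, as an invertible matrix. -/
def mtxFn (r : G ⟶ GLs k n) (x : VecGrp.pt k k ⟶ G) : GL (Fin n) k := (isUnit_mtxMat r x).unit

theorem coe_mtxFn (r : G ⟶ GLs k n) (x : VecGrp.pt k k ⟶ G) :
    (mtxFn r x : Matrix (Fin n) (Fin n) k) = mtxMat r x := IsUnit.unit_spec _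

theorem mtxFn_comp {H : Over (Spec (CommRingCat.of k))} (f : H ⟶ G) (r : G ⟶ GLs k n)
    (x : VecGrp.pt k k ⟶ H) : mtxFn (f ≫ r) x = mtxFn r (x ≫ f) :=
  Units.ext (by rw [coe_mtxFn, coe_mtxFn, mtxMat, mtxMat, Category.assoc])

theorem val_eq_evalGL (r : G ⟶ GLs k n) (x : VecGrp.pt k k ⟶ G) (a : CoordGrp.GLn n k) :
    InvRing21.val x (r.left.appTop ((Scheme.ΓSpecIso (CommRingCat.of (CoordGrp.GLn n k))).inv a)) =
      evalGL (mtxFn r x) a := by
  letI := (DiagGL.alg (VecGrp.pt k k)).toAlgebra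
  rw [InvRing21.appTop_val]
  show InvRing21.ptHom k (DiagGL.ev (x ≫ r) a) = _
  let φ : CoordGrp.GLn n k →ₐ[k] k :=
    { (InvRing21.ptHom k).toRingHom.comp (DiagGL.ev (x ≫ r)) with
      commutes' := fun c => by
        show InvRing21.ptHom k (DiagGL.ev (x ≫ r) (algebraMap k _ c)) = _
        rw [DiagGL.ev_algebraMap]
        exact (InvRing21.ptHom k).commutes c }
  show φ a = _
  have hX : ∀ i j, φ (CoordGrp.GLn.X i j) = (mtxFn r x : Matrix (Fin n) (Fin n) k) i j := fun i j => by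
    rw [coe_mtxFn]; rfl
  refine DFunLike.congr_fun (CoordGrp.GLn.algHom_ext (fun i j => ?_) ?_) a
  · rw [hX]; exact (CoordGrp.GLn.pt_X _ _ _ _ _).symm
  · refine Eq.trans ?_ (CoordGrp.GLn.pt_Dinv _ _ _).symm
    refine eq_inv_of_mul_eq_one_right ?_
    have h1 := congrArg φ (CoordGrp.GLn.det_mul_Dinv (n := n) (k := k))
    rw [map_mul, map_one, CoordGrp.GLn.det_eq, AlgHom.map_det] at h1
    convert h1 using 3
    ext i j
    exact (hX i j).symm

theorem exists_eq_appTop (r : G ⟶ GLs k n) [IsClosedImmersion r.left] (F : Γ(G.left, ⊤)) :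
    ∃ a, r.left.appTop ((Scheme.ΓSpecIso (CommRingCat.of (CoordGrp.GLn n k))).inv a) = F := by
  haveI : IsAffine (GLs k n).left := inferInstanceAs (IsAffine (Spec _))
  obtain ⟨F', rfl⟩ := (IsClosedImmersion.isAffine_surjective_of_isAffine r.left).2 F
  exact ⟨(Scheme.ΓSpecIso (CommRingCat.of (CoordGrp.GLn n k))).hom F', by rw [Iso.hom_inv_id_apply]⟩

theorem isClosed_setOf_evalGL (a : CoordGrp.GLn n k) : IsClosed {g : GL (Fin n) k | evalGL g a = 0} :=
  MatGrp21.isClosed_eq (isReg_evalGL a) (isReg_const 0)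

theorem continuous_mtxFn (r : G ⟶ GLs k n) : Continuous (mtxFn r) := by
  refine continuous_iff_isClosed.2 fun s hs => ?_
  obtain ⟨S, hS⟩ := MatGrp21.isClosed_iff.1 hs
  have hp : ∀ p : MvPolynomial (Fin n × Fin n) k, ∃ F, ∀ x : VecGrp.pt k k ⟶ G,
      MvPolynomial.eval (ent (mtxFn r x)) p = InvRing21.val x F := fun p => by
    refine ⟨r.left.appTop ((Scheme.ΓSpecIso (CommRingCat.of (CoordGrp.GLn n k))).inv
      (MvPolynomial.aeval (fun ij : Fin n × Fin n => CoordGrp.GLn.X (k := k) ij.1 ij.2) p)), fun x => ?_⟩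
    rw [val_eq_evalGL, ← AlgHom.comp_apply, MvPolynomial.comp_aeval]
    simp only [evalGL, CoordGrp.GLn.pt_X]
    rfl
  choose F hF using hp
  have : mtxFn r ⁻¹' s = ⋂ p ∈ S, {x | InvRing21.val x (F p) = 0} := by
    ext x; simp [hS, hF]
  rw [this]
  exact isClosed_biInter fun p _ => BorelFix21.isClosed_val_eq (F p) 0

section ClosedImm

variable (r : G ⟶ GLs k n) [IsClosedImmersion r.left]

theorem mem_range_mtxFn_iff [IsAffine G.left] (g : GL (Fin n) k) :
    g ∈ Set.range (mtxFn r) ↔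
      ∀ a, r.left.appTop ((Scheme.ΓSpecIso (CommRingCat.of (CoordGrp.GLn n k))).inv a) = 0 → evalGL g a = 0 := by
  constructor
  · rintro ⟨x, rfl⟩ a ha
    rw [← val_eq_evalGL, ha, map_zero]
  · intro h
    let L : CoordGrp.GLn n k →ₐ[k] Γ(G.left, ⊤) :=
      { r.left.appTop.hom.comp (Scheme.ΓSpecIso (CommRingCat.of (CoordGrp.GLn n k))).inv.hom with
        commutes' := fun c => by
          show r.left.appTop ((Scheme.ΓSpecIso (CommRingCat.of (CoordGrp.GLn n k))).inv (algebraMap k _ c)) = _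
          rw [show (Scheme.ΓSpecIso (CommRingCat.of (CoordGrp.GLn n k))).inv (algebraMap k _ c) =
            DiagGL.alg (GLs k n) c from by rw [← DiagGL.ev_algebraMap (𝟙 (GLs k n)) c]; rfl]
          exact (InvRing21.appAlg r).commutes c }
    have hsurj : Function.Surjective L := fun F => exists_eq_appTop r F
    let χ : Γ(G.left, ⊤) →ₐ[k] k := (Ideal.Quotient.liftₐ (RingHom.ker L) (evalGL g) fun a ha => h a ha).comp
      (Ideal.quotientKerAlgEquivOfSurjective hsurj).symm.toAlgHom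
    refine ⟨VecGrp.ptMap χ ≫ InvRing21.uPt G, Units.ext (Matrix.ext fun i j => ?_)⟩
    have h1 := val_eq_evalGL r (VecGrp.ptMap χ ≫ InvRing21.uPt G) (CoordGrp.GLn.X i j)
    rw [show evalGL _ (CoordGrp.GLn.X i j) = _ from CoordGrp.GLn.pt_X _ _ _ _ _] at h1
    rw [← h1, InvRing21.val_ptMap, InvRing21.val_uPt, AlgHom.comp_id]
    show (Ideal.Quotient.liftₐ (RingHom.ker L) (evalGL g) fun a ha => h a ha)
      ((Ideal.quotientKerAlgEquivOfSurjective hsurj).symm (L (CoordGrp.GLn.X i j))) = _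
    rw [show L (CoordGrp.GLn.X i j) = Ideal.quotientKerAlgEquivOfSurjective hsurj
      (Ideal.Quotient.mk _ (CoordGrp.GLn.X i j)) from rfl, AlgEquiv.symm_apply_apply]
    show evalGL g (CoordGrp.GLn.X i j) = _
    exact CoordGrp.GLn.pt_X _ _ _ _ _

theorem isClosed_range_mtxFn [IsAffine G.left] : IsClosed (Set.range (mtxFn r)) := by
  have : Set.range (mtxFn r) = ⋂ a ∈ {a | r.left.appTop
      ((Scheme.ΓSpecIso (CommRingCat.of (CoordGrp.GLn n k))).inv a) = 0}, {g | evalGL g a = 0} := by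
    ext g; simp only [mem_range_mtxFn_iff, Set.mem_iInter₂, Set.mem_setOf_eq]
  rw [this]
  exact isClosed_biInter fun a _ => isClosed_setOf_evalGL a

theorem isClosed_image_mtxFn [IsAffine G.left] {C : Set (VecGrp.pt k k ⟶ G)} (hC : IsClosed C) :
    IsClosed (mtxFn r '' C) := by
  obtain ⟨Z, hZ, rfl⟩ := isClosed_induced_iff.1 hC
  let S := {a : CoordGrp.GLn n k | Disjoint
    (G.left.basicOpen (r.left.appTop ((Scheme.ΓSpecIso (CommRingCat.of (CoordGrp.GLn n k))).inv a)) : Set G.left) Z}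
  have : mtxFn r '' (InvRing21.img ⁻¹' Z) = Set.range (mtxFn r) ∩ ⋂ a ∈ S, {g | evalGL g a = 0} := by
    ext g
    constructor
    · rintro ⟨x, hx, rfl⟩
      refine ⟨⟨x, rfl⟩, Set.mem_iInter₂.2 fun a ha => ?_⟩
      show evalGL _ a = 0
      rw [← val_eq_evalGL]
      by_contra hne
      exact Set.disjoint_left.1 ha ((BorelFix21.val_ne_zero_iff x _).1 hne) hx
    · rintro ⟨⟨x, rfl⟩, hx⟩
      refine ⟨x, ?_, rfl⟩
      by_contra hxZ
      obtain ⟨_, ⟨F, rfl⟩, hxF, hF⟩ := TopologicalSpace.Opens.isBasis_iff_nbhd.1 (isBasis_basicOpen G.left)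
        (show InvRing21.img x ∈ (⟨Zᶜ, hZ.isOpen_compl⟩ : TopologicalSpace.Opens G.left) from hxZ)
      obtain ⟨a, rfl⟩ := exists_eq_appTop r F
      have ha : a ∈ S := Set.disjoint_left.2 fun z hz hzZ => hF hz hzZ
      have h0 : evalGL (mtxFn r x) a = 0 := Set.mem_iInter₂.1 hx a ha
      rw [← val_eq_evalGL] at h0
      exact (BorelFix21.val_ne_zero_iff x _).2 hxF h0
  rw [this]
  exact (isClosed_range_mtxFn r).inter (isClosed_biInter fun a _ => isClosed_setOf_evalGL a)

theorem mtxFn_injective : Function.Injective (mtxFn r) := fun x y h => by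
  haveI : Mono r := (Over.forget _).mono_of_mono_map (show Mono r.left from inferInstance)
  refine (cancel_mono r).1 (DiagGL.mat_injective (Matrix.ext fun i j => ?_))
  have := congrArg (fun g : GL (Fin n) k => (g : Matrix (Fin n) (Fin n) k) i j) h
  simp only [coe_mtxFn, mtxMat, Matrix.map_apply] at this
  exact BorelFix21.ptHom_bijective.1 this

theorem isClosedEmbedding_mtxFn [IsAffine G.left] : Topology.IsClosedEmbedding (mtxFn r) :=
  .of_continuous_injective_isClosedMap (continuous_mtxFn r) (mtxFn_injective r) fun _ => isClosed_image_mtxFn r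

end ClosedImm

theorem mtxFn_surjective (g : GL (Fin n) k) : ∃ x : VecGrp.pt k k ⟶ GLs k n, mtxFn (𝟙 (GLs k n)) x = g := by
  let e := RingEquiv.ofBijective _ (BorelFix21.ptHom_bijective (k := k))
  obtain ⟨x, hx⟩ := DiagGL.exists_mat_eq (T := VecGrp.pt k k) (R := k) (g.isUnit.map e.symm.toRingHom.mapMatrix)
  refine ⟨x, Units.ext ?_⟩
  rw [coe_mtxFn, mtxMat, Category.comp_id, hx]
  ext i j
  exact e.apply_symm_apply _

variable [GrpObj G]

/-- The matrix of a rational point, as a homomorphism. -/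
def mtx (r : G ⟶ GLs k n) [IsMonHom r] : (VecGrp.pt k k ⟶ G) →* GL (Fin n) k :=
  MonoidHom.mk' (mtxFn r) fun x y => Units.ext (by
    rw [Units.val_mul, coe_mtxFn, coe_mtxFn, coe_mtxFn, mtxMat, mtxMat, mtxMat, MonObj.mul_comp, DiagGL.mat_mul,
      Matrix.map_mul])

theorem mtx_apply (r : G ⟶ GLs k n) [IsMonHom r] (x : VecGrp.pt k k ⟶ G) : mtx r x = mtxFn r x := rfl

theorem mtx_comp {H : Over (Spec (CommRingCat.of k))} [GrpObj H] (f : H ⟶ G) [IsMonHom f] (r : G ⟶ GLs k n)
    [IsMonHom r] (x : VecGrp.pt k k ⟶ H) : mtx (f ≫ r) x = mtx r (x ≫ f) :=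
  mtxFn_comp f r x

theorem isClosed_range_mtx (r : G ⟶ GLs k n) [IsMonHom r] [IsClosedImmersion r.left] [IsAffine G.left] :
    IsClosed ((mtx r).range : Set (GL (Fin n) k)) := by
  rw [MonoidHom.coe_range]
  exact isClosed_range_mtxFn r

variable [IsAlgClosed k]

theorem isPreirreducible_pts {X : Over (Spec (CommRingCat.of k))} [LocallyOfFiniteType X.hom] [PreirreducibleSpace X.left] :
    IsPreirreducible (Set.univ : Set (VecGrp.pt k k ⟶ X)) := by
  rintro U V hU hV ⟨a, -, ha⟩ ⟨b, -, hb⟩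
  obtain ⟨U', hU', rfl⟩ := isOpen_induced_iff.1 hU
  obtain ⟨V', hV', rfl⟩ := isOpen_induced_iff.1 hV
  obtain ⟨z, -, hz⟩ := PreirreducibleSpace.isPreirreducible_univ (X := X.left) U' V' hU' hV' ⟨_, trivial, ha⟩ ⟨_, trivial, hb⟩
  obtain ⟨x, hx⟩ := BorelFix21.exists_pt_mem (hU'.inter hV').isLocallyClosed ⟨z, hz⟩
  exact ⟨x, trivial, hx⟩

theorem isPreirreducible_range_mtx (r : G ⟶ GLs k n) [IsMonHom r] [LocallyOfFiniteType G.hom]
    [PreirreducibleSpace G.left] : IsPreirreducible ((mtx r).range : Set (GL (Fin n) k)) := by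
  rw [MonoidHom.coe_range, ← Set.image_univ]
  exact isPreirreducible_pts.image _ (continuous_mtxFn r).continuousOn

theorem isPreirreducible_range_mtx' (r : G ⟶ GLs k n) [IsMonHom r] [Smooth G.hom] [ConnectedSpace G.left] :
    IsPreirreducible ((mtx r).range : Set (GL (Fin n) k)) := by
  haveI := AbRigid.irreducibleSpace_of_isAlgClosed G
  exact isPreirreducible_range_mtx r

end Groth.Agent.TorPts21
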