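import Groth.Agent.Lib.Rigid19.GammaProd
import Groth.Agent.Lib.BorelFix21.BaseChange
import Groth.Agent.Lib.BorelFix21.Parabolic
import Groth.Agent.Lib.BorelFix21.Orbit
import Groth.Agent.Lib.BorelFix21.QuotMap
import Groth.Agent.Lib.GrassAct21.QuotAffine
import Groth.Agent.Lib.AbRigid.Geometric
import Groth.Agent.Lib.AbRigid.Shear

/-!
# Families of functions on the variety of Borel subgroups are constant
-/

set_option autoImplicit false
set_option linter.style.haveILetI false
set_option backward.isDefEq.respectTransparency.types false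
universe u

open CategoryTheory Limits MonoidalCategory CartesianMonoidalCategory MonObj AlgebraicGeometry

noncomputable section

namespace Groth.Agent.TorPts21

variable {k : Type u} [Field k]

/-- The scheme has only constant functions. -/
def HasConstFunctions (X : Over (Spec (CommRingCat.of k))) : Prop :=
  Function.Bijective ((Scheme.ΓSpecIso (CommRingCat.of k)).inv ≫ X.hom.appTop).hom

/-- A morphism from the product with an affine scheme to an affine scheme is constant in the first variable. -/
theorem eq_snd_comp_of_hasConst {X T N : Over (Spec (CommRingCat.of k))} [QuasiCompact X.hom]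
    [QuasiSeparated X.hom] [IsAffine T.left] [IsAffine N.left] (hX : HasConstFunctions X)
    (x₀ : 𝟙_ (Over (Spec (CommRingCat.of k))) ⟶ X) (f : X ⊗ T ⟶ N) :
    f = snd X T ≫ lift (toUnit T ≫ x₀) (𝟙 T) ≫ f := by
  let s : T ⟶ X ⊗ T := lift (toUnit T ≫ x₀) (𝟙 T)
  ext1
  refine ext_of_isAffine ?_
  haveI : IsAffineHom T.hom := isAffineHom_of_isAffine _
  have sq : IsPullback (fst X T).left (snd X T).left X.hom T.hom :=
    IsPullback.of_hasPullback X.hom T.hom
  have h := Rigid19.isPushout_appTop sq
  have hs : (snd X T).left.appTop ≫ s.left.appTop = 𝟙 _ := by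
    rw [← Scheme.Hom.comp_appTop, ← Over.comp_left, lift_snd]
    exact Scheme.Hom.id_appTop
  ext a
  show f.left.appTop a = ((snd X T).left ≫ s.left ≫ f.left).appTop a
  rw [Scheme.Hom.comp_appTop, Scheme.Hom.comp_appTop]
  show f.left.appTop a = (snd X T).left.appTop (s.left.appTop (f.left.appTop a))
  rcases subsingleton_or_nontrivial Γ(T.left, ⊤) with hsub | hnt
  · have h1 : (1 : Γ(T.left, ⊤)) = 0 := Subsingleton.elim _ _
    have h2 : (1 : Γ((X ⊗ T).left, ⊤)) = 0 := by
      rw [← map_one (snd X T).left.appTop.hom, h1, map_zero]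
    haveI : Subsingleton Γ((X ⊗ T).left, ⊤) := subsingleton_of_zero_eq_one h2.symm
    exact Subsingleton.elim _ _
  · obtain ⟨c, hc⟩ := ((Rigid19.bijective_inr_iff h).2 hX).2 (f.left.appTop a)
    rw [← hc]
    exact congrArg (snd X T).left.appTop (ConcreteCategory.congr_hom hs c).symm

set_option maxHeartbeats 400000 in
/-- Having only constant functions descends from a field extension. -/
theorem hasConst_of_bc {K : Type u} [Field K] (φ : Spec (CommRingCat.of K) ⟶ Spec (CommRingCat.of k))
    {X : Over (Spec (CommRingCat.of k))} [QuasiCompact X.hom] [QuasiSeparated X.hom]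
    (h : HasConstFunctions (Red.bc φ X)) : HasConstFunctions X := by
  haveI : IsAffineHom φ := isAffineHom_of_isAffine _
  have sq := BorelFix21.isPullback_bc φ X
  have h1 := Rigid19.isPushout_appTop sq
  haveI : Nontrivial Γ(Spec (CommRingCat.of K), ⊤) :=
    (Scheme.ΓSpecIso (CommRingCat.of K)).commRingCatIsoToRingEquiv.toEquiv.nontrivial
  refine (Rigid19.bijective_inr_iff h1).1 ?_
  let e := (Scheme.ΓSpecIso (CommRingCat.of K)).commRingCatIsoToRingEquiv
  have h2 : Function.Bijective (((Red.bc φ X).hom.appTop).hom ∘ e.symm) := h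
  exact (Function.Bijective.of_comp_iff _ e.symm.bijective).1 h2

set_option maxHeartbeats 800000 in
/-- The quotient by a Borel subgroup has only constant functions. -/
theorem hasConst_quotient_borel [IsAlgClosed k] {G B X : Over (Spec (CommRingCat.of k))} [GrpObj G] [GrpObj B]
    [IsAffine G.left] [Smooth G.hom] [ConnectedSpace G.left] {iB : B ⟶ G} (hB : Red.IsBorelOver k iB)
    {a : AlgGrp.Action G X} {o : 𝟙_ (Over (Spec (CommRingCat.of k))) ⟶ X} (hX : AGF.IsQuotient iB X a o)
    [IsSeparated X.hom] [QuasiCompact X.hom] : HasConstFunctions X := by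
  haveI := hB.1
  haveI := hB.2.1
  haveI := hB.2.2.1
  haveI : IsClosedImmersion (𝟙 B ≫ iB).left := by rw [Category.id_comp]; infer_instance
  haveI : IsProper X.hom := BorelFix21.isProper_of_borel_le hX (𝟙 B) (by rw [Category.id_comp]; exact hB)
  obtain ⟨hlft, hflat, hsurj, -⟩ := id hX
  haveI := hlft
  haveI := hflat
  haveI := hsurj
  haveI : IsReduced G.left := OrbitTop19.isReduced_of_smooth G.hom
  haveI : IsReduced X.left := H12.isReduced_of_flat_surjective (a.orbitMap o).left
  haveI : IrreducibleSpace G.left := AbRigid.irreducibleSpace_of_isAlgClosed G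
  haveI : IrreducibleSpace X.left := by
    haveI : Nonempty X.left := ⟨(a.orbitMap o).left (Classical.arbitrary G.left)⟩
    refine @IrreducibleSpace.mk _ _ ⟨?_⟩ ‹_›
    rw [← (a.orbitMap o).left.surjective.range_eq, ← Set.image_univ]
    exact (PreirreducibleSpace.isPreirreducible_univ).image _ (a.orbitMap o).left.continuous.continuousOn
  haveI : IsIntegral X.left := isIntegral_of_irreducibleSpace_of_isReduced X.left
  refine ⟨((Scheme.ΓSpecIso (CommRingCat.of k)).inv ≫ X.hom.appTop).hom.injective, fun F => ?_⟩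
  obtain ⟨c, hc⟩ := BorelFix21.exists_eq_algebraMap X F
  exact ⟨c, hc⟩

set_option maxHeartbeats 1000000 in
/-- A family of morphisms to an affine scheme invariant under a Borel subgroup is constant. -/
theorem family_const {G B T N : Over (Spec (CommRingCat.of k))} [GrpObj G] [GrpObj B] [IsAffine G.left]
    [Smooth G.hom] [ConnectedSpace G.left] {iB : B ⟶ G} (hB : Red.IsBorel iB) [IsAffine T.left] [IsAffine N.left]
    (ψ : G ⊗ T ⟶ N)
    (hinv : ∀ {W : Over (Spec (CommRingCat.of k))} (g : W ⟶ G) (b : W ⟶ B) (x : W ⟶ T),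
      lift (g * (b ≫ iB)) x ≫ ψ = lift g x ≫ ψ)
    {W : Over (Spec (CommRingCat.of k))} (g : W ⟶ G) (x : W ⟶ T) : lift g x ≫ ψ = lift 1 x ≫ ψ := by
  obtain ⟨hm, hcl, hs, hgeo⟩ := hB
  haveI := hm
  haveI := hcl
  obtain ⟨X, a, o, hX, hXs, hXq⟩ := GrassAct21.exists_quotient_affine iB
  haveI := hXs
  haveI := hXq
  let s₀ : Spec (CommRingCat.of k) := IsLocalRing.closedPoint k
  let φ := Red.geomPt s₀
  haveI : IsAffine (Red.bc φ G).left := BorelFix21.isAffine_bc φ G
  haveI : Smooth (Red.bc φ G).hom := BorelFix21.smooth_bc φ G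
  haveI : ConnectedSpace (Red.bc φ G).left := BorelFix21.connectedSpace_bc φ G
  haveI : IsSeparated ((Over.pullback φ).obj X).hom :=
    MorphismProperty.of_isPullback (P := @IsSeparated) (BorelFix21.isPullback_bc φ X) hXs
  haveI : QuasiCompact ((Over.pullback φ).obj X).hom :=
    MorphismProperty.of_isPullback (P := @QuasiCompact) (BorelFix21.isPullback_bc φ X) hXq
  have hconst : HasConstFunctions X :=
    hasConst_of_bc φ (hasConst_quotient_borel (hgeo s₀) (BorelFix21.isQuotient_bc φ hX))
  obtain ⟨hlft, hflat, hsurj, -⟩ := id hX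
  haveI := hlft
  haveI := hflat
  haveI := hsurj
  let q : G ⟶ X := a.orbitMap o
  haveI : QuasiCompact q.left := by
    haveI : QuasiCompact (q.left ≫ X.hom) := by rw [Over.w q]; infer_instance
    exact QuasiCompact.of_comp q.left X.hom
  let π : G ⊗ T ⟶ X ⊗ T := q ▷ T
  have sq := ((AbRigid.isPullback_whiskerRight q T).map (Over.forget _)).flip
  haveI : Flat π.left := MorphismProperty.of_isPullback (P := @Flat) sq.flip ‹_›
  haveI : Surjective π.left := MorphismProperty.of_isPullback (P := @Surjective) sq.flip ‹_›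
  haveI : QuasiCompact π.left := MorphismProperty.of_isPullback (P := @QuasiCompact) sq.flip ‹_›
  obtain ⟨θ, hθ, -⟩ := AbRigid.descend_of_flat π ψ fun W a₁ a₂ h => by
    have h1 : (a₁ ≫ fst G T) ≫ q = (a₂ ≫ fst G T) ≫ q := by
      simpa [π, Category.assoc] using congrArg (· ≫ fst X T) h
    have h2 : a₁ ≫ snd G T = a₂ ≫ snd G T := by
      simpa [π, Category.assoc] using congrArg (· ≫ snd X T) h
    obtain ⟨b, hb⟩ := (BorelFix21.orbit_eq_iff hX _ _).1 h1
    have e : ∀ a : W ⟶ G ⊗ T, a = lift (a ≫ fst G T) (a ≫ snd G T) := fun a => by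
      rw [← comp_lift, lift_fst_snd, Category.comp_id]
    rw [e a₁, e a₂, hb, h2]
    exact (hinv _ b _).symm
  have key := eq_snd_comp_of_hasConst hconst o θ
  have h : ∀ g' : W ⟶ G, lift g' x ≫ ψ = x ≫ lift (toUnit T ≫ o) (𝟙 T) ≫ θ := fun g' => by
    conv_lhs => rw [hθ, key, ← Category.assoc, ← Category.assoc, Category.assoc (lift g' x),
      show π ≫ snd X T = snd G T from whiskerRight_snd _ _, lift_snd]
  rw [h g, h 1]

end Groth.Agent.TorPts21
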