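import Groth.Agent.Lib.TorPts21.ReductiveCartan
import Groth.Agent.Lib.TorPts21.ImageTorus
import Groth.Agent.Lib.BorelFix21.Image

/-!
# Unipotent radicals and surjective homomorphisms
-/

set_option autoImplicit false
set_option linter.style.haveILetI false
set_option backward.isDefEq.respectTransparency.types false
universe u

open CategoryTheory Limits MonoidalCategory CartesianMonoidalCategory MonObj AlgebraicGeometry

noncomputable section

namespace Groth.Agent.TorPts21

open MatGrp21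

attribute [local instance] InvRing21.gamAlg BorelFix21.ptsTop

variable {k : Type u} [Field k] [IsAlgClosed k]

/-- A homomorphism from a torus to a group without subtori is trivial on rational points. -/
theorem pt_torus_hom_eq_one {T U : Over (Spec (CommRingCat.of k))} [GrpObj T] [GrpObj U] (hT : Red.IsTorus T)
    [IsAffine U.left] [Smooth U.hom] [ConnectedSpace U.left] (hU : Red.HasNoSubtorus k U) (f : T ⟶ U) [IsMonHom f]
    (t : VecGrp.pt k k ⟶ T) : t ≫ f = 1 := by
  obtain ⟨n, r, hr, hrc, hu⟩ := exists_upper_embedding (𝟙 U) (isSolvableGrp_of_hasNoSubtorus U hU)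
  haveI := hr
  haveI := hrc
  have hl := range_le_lay_of_hasNoSubtorus r (fun g hg => hu (by simpa using hg)) hU
  obtain ⟨d, ⟨C⟩⟩ := exists_chars hT
  obtain ⟨P, hP⟩ := range_mtx_diag C (f ≫ r)
  refine mtxFn_injective r ?_
  rw [← mtx_apply, ← mtx_apply, map_one]
  exact eq_one_of_isUnip_of_isDiag (hP _ ⟨t, mtx_comp f r t⟩) (isUnip_of_mem_lay (hl ⟨t ≫ f, rfl⟩))

/-- Two homomorphisms from a smooth affine group to a separated group agreeing on rational points. -/
theorem hom_eq_one_of_pts {G Q : Over (Spec (CommRingCat.of k))} [GrpObj G] [GrpObj Q] [IsAffine G.left]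
    [Smooth G.hom] [IsAffine Q.left] (f : G ⟶ Q) (h : ∀ x : VecGrp.pt k k ⟶ G, x ≫ f = 1) : f = 1 := by
  haveI : IsClosedImmersion η[Q].left := isClosedImmersion_of_comp_eq_id Q.hom η[Q].left (Over.w η[Q])
  obtain ⟨g, hg⟩ := exists_lift_of_pts η[Q] f fun x => ⟨toUnit _, by rw [h]; rfl⟩
  rw [← hg, toUnit_unique g (toUnit G)]
  rfl

variable {G : Over (Spec (CommRingCat.of k))} [GrpObj G] [IsAffine G.left] [Smooth G.hom] [ConnectedSpace G.left]
  {U N : Over (Spec (CommRingCat.of k))} [GrpObj U] [GrpObj N] [ConnectedSpace N.left] [Smooth N.hom]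

set_option maxHeartbeats 800000 in
/-- The unipotent radical of a connected normal subgroup lies in the unipotent radical of the group. -/
theorem exists_lift_radical_of_normal {u : U ⟶ G} (hU : Par.IsUnipotentRadical u) {j : N ⟶ G} [IsMonHom j]
    [IsClosedImmersion j.left] (hn : AlgGrp.IsNormalHom j)
    {V : Over (Spec (CommRingCat.of k))} [GrpObj V] {v : V ⟶ N} (hV : Par.IsUnipotentRadical v) :
    ∃ f : V ⟶ U, f ≫ u = v ≫ j := by
  obtain ⟨hvm, hvc, hvn, hvs, -, hvcon, hvns, hvuniv⟩ := (isUnipotentRadical_iff v).1 hV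
  haveI := hvm
  haveI := hvc
  haveI := hvs
  haveI := hvcon
  haveI : IsAffine N.left := isAffine_of_isAffineHom j.left
  haveI : IsAffine V.left := isAffine_of_isAffineHom v.left
  haveI : Mono j := Over.mono_of_mono_left j
  haveI : IsClosedImmersion (v ≫ j).left := by rw [Over.comp_left]; infer_instance
  obtain ⟨-, -, -, -, -, -, -, huniv⟩ := (isUnipotentRadical_iff u).1 hU
  refine huniv V (v ≫ j) inferInstance (isNormalHom_of_pts (v ≫ j) fun g x => ?_) hvs inferInstance hvcon hvns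
  obtain ⟨g₀, hg₀⟩ := exists_gpt g
  haveI := isMonHom_conjBy g₀ (v ≫ j)
  haveI := isClosedImmersion_conjBy g₀ (v ≫ j)
  obtain ⟨n', hn'⟩ := hn V (toUnit V ≫ g₀) v
  have hcj : n' ≫ j = AGF.conjBy g₀ (v ≫ j) := hn'.symm
  haveI : IsMonHom n' := BorelFix21.isMonHom_of_comp j n' (hcj ▸ inferInstance)
  haveI : IsClosedImmersion (n' ≫ j).left := hcj ▸ inferInstance
  haveI : IsClosedImmersion n'.left := IsClosedImmersion.of_comp n'.left j.left
  have hnn : AlgGrp.IsNormalHom n' := isNormalHom_of_pts n' fun a b => by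
    -- conjugating by `a` and then by `g` is conjugating by `g a g⁻¹` after `g`
    obtain ⟨a', ha'⟩ := hn _ g⁻¹ a
    obtain ⟨b', hb'⟩ := hvn _ a' b
    refine ⟨b', (cancel_mono j).1 ?_⟩
    rw [inv_inv] at ha'
    rw [MonObj.mul_comp, MonObj.mul_comp, GrpObj.inv_comp, Category.assoc b n' j, hcj, comp_conjBy,
      show toUnit (VecGrp.pt k k) ≫ g₀ = g from hg₀, Category.assoc b', hcj, comp_conjBy,
      show toUnit (VecGrp.pt k k) ≫ g₀ = g from hg₀, ← Category.assoc b', ← hb', MonObj.mul_comp, MonObj.mul_comp,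
      GrpObj.inv_comp, ← ha', Category.assoc b]
    group
  obtain ⟨f, hf⟩ := hvuniv V n' inferInstance hnn hvs inferInstance hvcon hvns
  refine ⟨x ≫ f, ?_⟩
  rw [Category.assoc, ← Category.assoc f, hf, hcj, comp_conjBy, show toUnit (VecGrp.pt k k) ≫ g₀ = g from hg₀]

omit [Smooth N.hom] [ConnectedSpace N.left] [GrpObj N] [GrpObj U] [IsAlgClosed k] [Smooth G.hom] [IsAffine G.left]
  [ConnectedSpace G.left] in
/-- The image of a homomorphism on rational points. -/
def ptsHom {H : Over (Spec (CommRingCat.of k))} [GrpObj H] (f : G ⟶ H) [IsMonHom f] :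
    (VecGrp.pt k k ⟶ G) →* (VecGrp.pt k k ⟶ H) :=
  MonoidHom.mk' (· ≫ f) fun x y => MonObj.mul_comp x y f

omit [GrpObj U] [GrpObj N] [Smooth N.hom] [ConnectedSpace N.left] [ConnectedSpace G.left] in
set_option maxHeartbeats 800000 in
/-- The identity component of a group surjecting onto a connected group still surjects. -/
theorem exists_component_surj {Z Q : Over (Spec (CommRingCat.of k))} [GrpObj Z] [GrpObj Q] [IsAffine Z.left]
    [Smooth Z.hom] [IsAffine Q.left] [Smooth Q.hom] [ConnectedSpace Q.left] (p : Z ⟶ Q) [IsMonHom p]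
    (hp : ∀ q : VecGrp.pt k k ⟶ Q, ∃ z, z ≫ p = q) {Z₀ : Over (Spec (CommRingCat.of k))} [GrpObj Z₀] (j : Z₀ ⟶ Z)
    [IsMonHom j] [IsOpenImmersion j.left] [IsAffine Z₀.left] [Smooth Z₀.hom] (q : VecGrp.pt k k ⟶ Q) :
    ∃ z : VecGrp.pt k k ⟶ Z₀, (z ≫ j) ≫ p = q := by
  classical
  obtain ⟨W, _, i, p', hi, hic, hWr, hsurj, hpi⟩ := BorelFix21.exists_image (j ≫ p)
  haveI := hi
  haveI := hic
  haveI := hsurj
  haveI : IsAffine W.left := isAffine_of_isAffineHom i.left
  haveI : LocallyOfFiniteType W.hom := by rw [← Over.w i]; infer_instance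
  -- finitely many translates of the open subgroup cover
  let O : (VecGrp.pt k k ⟶ Z) → Set (VecGrp.pt k k ⟶ Z) := fun z =>
    (fun x => z⁻¹ * x) ⁻¹' (InvRing21.img ⁻¹' Set.range j.left)
  have hO : ∀ z, IsOpen (O z) := fun z =>
    (isOpen_induced j.left.isOpenEmbedding.isOpen_range).preimage (BorelFix21.continuous_mul_left z⁻¹)
  have hlift : ∀ z x, x ∈ O z → ∃ w : VecGrp.pt k k ⟶ Z₀, x = z * (w ≫ j) := fun z x hx => by
    obtain ⟨w, hw⟩ := hx
    obtain ⟨w', hw'⟩ := BorelFix21.exists_pt_mem (G := Z₀) (Z := j.left ⁻¹' {InvRing21.img (z⁻¹ * x)})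
      ((isClosed_singleton_img _).preimage j.left.continuous).isLocallyClosed ⟨w, hw⟩
    refine ⟨w', ?_⟩
    have : w' ≫ j = z⁻¹ * x := pt_ext hw'
    rw [this, mul_inv_cancel_left]
  haveI : TopologicalSpace.NoetherianSpace Z.left := by
    haveI : IsLocallyNoetherian Z.left := LocallyOfFiniteType.isLocallyNoetherian Z.hom
    haveI : IsNoetherian Z.left := ⟨⟩
    infer_instance
  haveI : TopologicalSpace.NoetherianSpace (VecGrp.pt k k ⟶ Z) :=
    Topology.IsInducing.noetherianSpace (i := InvRing21.img) ⟨rfl⟩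
  obtain ⟨s, hs⟩ := isCompact_univ.elim_finite_subcover O hO fun x _ => Set.mem_iUnion.2 ⟨x, by
    show InvRing21.img (x⁻¹ * x) ∈ Set.range j.left
    exact ⟨InvRing21.img (1 : VecGrp.pt k k ⟶ Z₀), by
      show InvRing21.img ((1 : VecGrp.pt k k ⟶ Z₀) ≫ j) = _
      rw [MonObj.one_comp, inv_mul_cancel]⟩⟩
  let M : Subgroup (VecGrp.pt k k ⟶ Q) := (ptsHom i).range
  have hM : IsClosed (M : Set (VecGrp.pt k k ⟶ Q)) := by
    have : (M : Set (VecGrp.pt k k ⟶ Q)) = InvRing21.img ⁻¹' Set.range i.left := by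
      ext x
      constructor
      · rintro ⟨w, rfl⟩
        exact ⟨InvRing21.img w, rfl⟩
      · rintro ⟨w, hw⟩
        obtain ⟨w', hw'⟩ := BorelFix21.exists_pt_mem (G := W) (Z := i.left ⁻¹' {InvRing21.img x})
          ((isClosed_singleton_img _).preimage i.left.continuous).isLocallyClosed ⟨w, hw⟩
        exact ⟨w', pt_ext hw'⟩
    rw [this]
    exact i.left.isClosedEmbedding.isClosed_range.preimage continuous_induced_dom
  have hcov : ∀ q, ∃ z ∈ s, (z ≫ p)⁻¹ * q ∈ M := fun q => by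
    obtain ⟨x, rfl⟩ := hp q
    obtain ⟨z, hz, hx⟩ := Set.mem_iUnion₂.1 (hs (Set.mem_univ x))
    obtain ⟨w, rfl⟩ := hlift z x hx
    refine ⟨z, hz, ⟨w ≫ p', ?_⟩⟩
    show (w ≫ p') ≫ i = _
    rw [MonObj.mul_comp, inv_mul_cancel_left, Category.assoc, hpi, Category.assoc]
  have hopen : IsOpen (M : Set (VecGrp.pt k k ⟶ Q)) := by
    rw [← isClosed_compl_iff]
    have : (M : Set (VecGrp.pt k k ⟶ Q))ᶜ =
        ⋃ z ∈ (s.filter fun z => z ≫ p ∉ M), (fun x => (z ≫ p)⁻¹ * x) ⁻¹' (M : Set (VecGrp.pt k k ⟶ Q)) := by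
      ext x
      simp only [Set.mem_compl_iff, SetLike.mem_coe, Set.mem_iUnion, Set.mem_preimage, Finset.mem_filter,
        exists_prop]
      constructor
      · intro hx
        obtain ⟨z, hz, hzx⟩ := hcov x
        exact ⟨z, ⟨hz, fun h => hx (by simpa using M.mul_mem h hzx)⟩, hzx⟩
      · rintro ⟨z, ⟨-, hz⟩, hzx⟩ hx
        exact hz (by simpa using M.mul_mem hx (M.inv_mem hzx))
    rw [this]
    exact (Finset.finite_toSet _).isClosed_biUnion fun z _ => hM.preimage (BorelFix21.continuous_mul_left _)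
  haveI := BorelFix21.preconnectedSpace_pts (G := Q)
  have htop := IsClopen.eq_univ ⟨hM, hopen⟩ ⟨1, M.one_mem⟩
  obtain ⟨w, hw⟩ : q ∈ (M : Set (VecGrp.pt k k ⟶ Q)) := htop ▸ Set.mem_univ q
  obtain ⟨z, rfl⟩ := BorelFix21.exists_pt_lift p' w
  refine ⟨z, ?_⟩
  rw [← hw, Category.assoc, ← hpi, ← Category.assoc]
  rfl

end Groth.Agent.TorPts21
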